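import Cfsg.Agent.R10.FiveCalc
import Cfsg.Agent.Ly.Index
import Cfsg.Agent.Ly.CardDvd
import Cfsg.Agent.Ly.Simple
import Cfsg.Agent.Ly.Final

/-!
# Every element of order 5 of the presented Lyons group commutes with an involution

`isLy`: the presented group `Cfsg.Spor.Ly` is simple of order 51765179004000000.
`good_five`: if `k ^ 5 = 1` then `k` commutes with a conjugate of the involution `a ^ 4`.
-/

set_option autoImplicit false

namespace Cfsg.Agent.R10.FiveComm

open Cfsg.Agent.Ly.Mat7 Cfsg.Agent.Ly.Pres Cfsg.Agent.Ly.WalkCtx Cfsg.Agent.Ly.Rep111 Cfsg.Agent.Ly.CardLevel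
  Cfsg.Agent.Ly.CardDataFive
open Cfsg.Agent.R10.Heis Cfsg.Agent.R10.Heis.Data Cfsg.Agent.R10.FiveCalc

instance finite_ly : Finite Cfsg.Spor.Ly := Cfsg.Agent.Ly.Index.card_ly_le.1

/-- The presented Lyons group is simple and has the right order. -/
theorem isLy : IsSimpleGroup Cfsg.Spor.Ly ∧ Nat.card Cfsg.Spor.Ly = 51765179004000000 := by
  refine Cfsg.Agent.Ly.Simple.isLy_of_le Cfsg.Agent.Ly.Index.card_ly_le.2 ?_
  have : Finite rho.range := Finite.of_surjective rho.rangeRestrict rho.rangeRestrict_surjective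
  refine Cfsg.Agent.Ly.CardDvd.dvd rho.range rho.range.subtype ?_
  intro i
  rw [Subgroup.range_subtype]
  exact ⟨gens i, rho_gens i⟩

/-- words of `G₂(5)` in the presented group -/
theorem wp (v w : List ℕ) (h : eqW v w = true) : ev (X4 gens) v = ev (X4 gens) w :=
  Cfsg.Agent.Ly.Index.data.wp v w h

/-- the extraspecial group in the presented group -/
abbrev HL : Heis.Data Cfsg.Spor.Ly := H gens wp

/-- the Sylow 5-subgroup -/
def U : Subgroup Cfsg.Spor.Ly := Subgroup.closure {gens 1, (HL).c 1}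

theorem Q_of_mem {y : Cfsg.Spor.Ly} (hy : y ∈ U) : ∃ k, Q gens wp k y := by
  induction hy using Subgroup.closure_induction with
  | mem y hy =>
    rcases hy with rfl | hy
    · exact ⟨1, Q.b⟩
    · rw [Set.mem_singleton_iff] at hy
      rw [hy]
      exact ⟨0, Q.ofR (R.c 1)⟩
  | one => exact ⟨0, Q.one⟩
  | mul y z _ _ h1 h2 =>
    obtain ⟨k, hk⟩ := h1
    obtain ⟨l, hl⟩ := h2
    exact ⟨_, hk.mul hl⟩
  | inv y _ h =>
    obtain ⟨k, hk⟩ := h
    have e : y⁻¹ = y ^ (orderOf y - 1) := by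
      symm
      apply eq_inv_of_mul_eq_one_left
      rw [← pow_succ, Nat.sub_add_cancel (orderOf_pos y), pow_orderOf_eq_one]
    rw [e]
    exact ⟨_, hk.pow _⟩

theorem card_U_le : Nat.card U ≤ 15625 := by
  have hs : Function.Surjective (fun p : {p : V × ZMod 5 × ZMod 5 //
      (HL).N p.1 p.2.1 * Heis.pw (gens 1) p.2.2 ∈ U} => (⟨_, p.2⟩ : U)) := by
    rintro ⟨y, hy⟩
    obtain ⟨k, v, y0, ⟨m, rfl⟩, rfl⟩ := Q_of_mem hy
    exact ⟨⟨(v, m, k), hy⟩, rfl⟩
  have h1 := Nat.card_le_card_of_surjective _ hs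
  have h2 : Nat.card {p : V × ZMod 5 × ZMod 5 // (HL).N p.1 p.2.1 * Heis.pw (gens 1) p.2.2 ∈ U} ≤
      Nat.card (V × ZMod 5 × ZMod 5) := Nat.card_le_card_of_injective _ Subtype.val_injective
  have h3 : Nat.card (V × ZMod 5 × ZMod 5) = 15625 := by
    rw [Nat.card_prod, Nat.card_prod, Nat.card_zmod, Nat.card_fun, Nat.card_zmod, Nat.card_eq_fintype_card,
      Fintype.card_fin]
    norm_num
  omega

theorem card_U_le' (hz : (HL).z = 1) : Nat.card U ≤ 3125 := by
  have hs : Function.Surjective (fun p : {p : V × ZMod 5 //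
      (HL).N p.1 0 * Heis.pw (gens 1) p.2 ∈ U} => (⟨_, p.2⟩ : U)) := by
    rintro ⟨y, hy⟩
    obtain ⟨k, v, y0, ⟨m, hm⟩, he⟩ := Q_of_mem hy
    have e : (HL).N v m = (HL).N v 0 := by
      unfold Heis.Data.N
      rw [hz]
      simp [Heis.pw]
    rw [e] at hm
    subst hm
    subst he
    exact ⟨⟨(v, k), hy⟩, rfl⟩
  have h1 := Nat.card_le_card_of_surjective _ hs
  have h2 : Nat.card {p : V × ZMod 5 // (HL).N p.1 0 * Heis.pw (gens 1) p.2 ∈ U} ≤
      Nat.card (V × ZMod 5) := Nat.card_le_card_of_injective _ Subtype.val_injective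
  have h3 : Nat.card (V × ZMod 5) = 3125 := by
    rw [Nat.card_prod, Nat.card_zmod, Nat.card_fun, Nat.card_zmod, Nat.card_eq_fintype_card,
      Fintype.card_fin]
    norm_num
  omega

theorem dvd_card_U : 15625 ∣ Nat.card U := by
  have h1 : cl wF5_0 ≤ U.map rho := by
    rw [cl, Subgroup.closure_le]
    intro g hg
    simp only [wF5_0, List.map_cons, List.map_nil, Set.mem_ofPred_eq, List.mem_cons, List.not_mem_nil, or_false] at hg
    rcases hg with rfl | rfl
    · refine ⟨gens 1, Subgroup.subset_closure (Or.inl rfl), ?_⟩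
      rw [← rho_lift]
      congr 1
    · refine ⟨(HL).c 1, Subgroup.subset_closure (Or.inr rfl), ?_⟩
      rw [← rho_lift]
      congr 1
  have h2 : Nat.card (cl wF5_0) ∣ Nat.card (U.map rho) := Subgroup.card_dvd_of_le h1
  have h3 : Nat.card (U.map rho) ∣ Nat.card U := Subgroup.card_map_dvd U rho
  exact (dvdF5_0.trans h2).trans h3

theorem card_U : Nat.card U = 15625 := le_antisymm card_U_le (Nat.le_of_dvd Nat.card_pos dvd_card_U)

theorem z_ne : (HL).z ≠ 1 := by
  intro h
  have h1 := card_U_le' h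
  have h2 := card_U
  omega

/-- the Sylow 5-subgroup -/
noncomputable def P : Sylow 5 Cfsg.Spor.Ly :=
  haveI : Fact (Nat.Prime 5) := ⟨by norm_num⟩
  Sylow.ofCard U (by
    rw [card_U, isLy.2]
    have e : (51765179004000000 : ℕ) = 5 ^ 6 * 3312971456256 := by norm_num
    have h : (51765179004000000 : ℕ).factorization 5 = 6 := by
      rw [e, Nat.factorization_mul (by norm_num) (by norm_num), Nat.Prime.factorization_pow (by norm_num)]
      simp only [Finsupp.coe_add, Pi.add_apply, Finsupp.single_eq_same]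
      rw [Nat.factorization_eq_zero_of_not_dvd (by norm_num)]
    rw [h]
    norm_num)

theorem coe_P : (P : Subgroup Cfsg.Spor.Ly) = U := rfl

/-- **Every element of order 5 commutes with a conjugate of `a ^ 4`.** -/
theorem good_five {k : Cfsg.Spor.Ly} (hk : k ^ 5 = 1) : Good (τ gens) k := by
  have : Fact (Nat.Prime 5) := ⟨by norm_num⟩
  have hP : IsPGroup 5 (Subgroup.zpowers k) := by
    rintro ⟨g, hg⟩
    obtain ⟨n, rfl⟩ := Subgroup.mem_zpowers_iff.1 hg
    refine ⟨1, ?_⟩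
    apply Subtype.ext
    show (k ^ n) ^ (5 ^ 1) = 1
    rw [pow_one, ← zpow_natCast, ← zpow_mul, mul_comm, zpow_mul, zpow_natCast, hk, one_zpow]
  obtain ⟨S, hS⟩ := hP.exists_le_sylow
  obtain ⟨g, hg⟩ := MulAction.exists_smul_eq Cfsg.Spor.Ly P S
  have h1 : k ∈ (S : Subgroup Cfsg.Spor.Ly) := hS (Subgroup.mem_zpowers k)
  rw [← hg, Sylow.coe_subgroup_smul, Subgroup.mem_pointwise_smul_iff_inv_smul_mem, coe_P] at h1
  have h2 : g⁻¹ * k * g ∈ U := by
    have e : (MulAut.conj g)⁻¹ • k = g⁻¹ * k * g := by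
      rw [← map_inv, MulAut.smul_def, MulAut.conj_apply, inv_inv]
    rwa [e] at h1
  obtain ⟨l, hl⟩ := Q_of_mem h2
  apply Good.of_conj (y := g)
  refine good_of_Q rel_hold z_ne hl ?_
  have := conj_pow (a := g⁻¹) (b := k) (i := 5)
  rw [inv_inv] at this
  rw [this, hk, mul_one, inv_mul_cancel]

theorem τ_eq : τ gens = gens 0 ^ 4 := by
  unfold τ
  simp only [ev, List.map_cons, List.map_nil, List.prod_cons, List.prod_nil, mul_one, pow_succ, pow_zero, one_mul,
    mul_assoc]
  rfl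

theorem order_τ : orderOf (τ gens) = 2 := by
  rw [τ_eq]
  exact Cfsg.Agent.Ly.Final.tw_order isLy.1

/-- Every element of order 5 commutes with an involution. -/
theorem exists_involution {k : Cfsg.Spor.Ly} (hk : k ^ 5 = 1) : ∃ s : Cfsg.Spor.Ly, orderOf s = 2 ∧ s * k = k * s := by
  obtain ⟨y, hy⟩ := good_five hk
  refine ⟨_, ?_, hy⟩
  have e : y⁻¹ * τ gens * y = MulAut.conj y⁻¹ (τ gens) := by rw [MulAut.conj_apply, inv_inv]
  rw [e, MulEquiv.orderOf_eq, order_τ]

end Cfsg.Agent.R10.FiveComm
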