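import Cfsg.Agent.R10.FiveComm
import Cfsg.Agent.S0454
import Cfsg.Agent.SporRec.LyType
import Cfsg.Agent.TwoFusion.ClosingPrime

/-!
# Closing of the recognition of the Lyons group

`closing`: if `G` is a finite simple group with an involution whose centraliser is a non-split double cover of
`A₁₁`, then every non-trivial homomorphism from the presented Lyons group to `G` is bijective.
-/

set_option autoImplicit false

namespace Cfsg.Agent.R10.Close

open Subgroup Cfsg.Agent.Ly.Pres Cfsg.Agent.Ly.Rep111 Cfsg.Agent.Ly.Carm Cfsg.Agent.Ly.CarmData Cfsg.Agent.Ly.Final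
open Cfsg.Agent.SporRec.LyType

/-- the involution `a ^ 4` -/
abbrev τ : Cfsg.Spor.Ly := gens 0 ^ 4

theorem order_τ : orderOf τ = 2 := tw_order Cfsg.Agent.Ly.Setup.isLy'.1

/-- The centraliser of `a ^ 4` in the presented Lyons group. -/
theorem cover_τ : Nat.card (centralizer ({τ} : Set Cfsg.Spor.Ly)) = 39916800 ∧
    Cfsg.IsNonsplitDoubleCover (centralizer ({τ} : Set Cfsg.Spor.Ly)) (alternatingGroup (Fin 11)) := by
  have hs : IsSimpleGroup Cfsg.Spor.Ly := Cfsg.Agent.Ly.Setup.isLy'.1
  have hle := Cfsg.Agent.Ly.Setup.card_centralizer_le Cfsg.Agent.S0454.card_centralizer_t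
  have ht : orderOf τ = 2 := order_τ
  have htw : el tw = τ := el_tw
  have hxc : ∀ i, el (ws i) * τ = τ * el (ws i) := by
    intro i
    rw [← htw]
    apply el_inj hs
    simp only [map_mul, rho_el]
    exact comm i
  have h3 : ∀ i, el (ws i) ^ 3 = 1 ∨ el (ws i) ^ 3 = τ := by
    intro i
    right
    rw [← htw]
    apply el_inj hs
    simp only [map_pow, rho_el]
    exact cube i
  have h2 : ∀ i j, i ≠ j → (el (ws i) * el (ws j)) ^ 2 = 1 ∨ (el (ws i) * el (ws j)) ^ 2 = τ := by
    intro i j hij
    right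
    rw [← htw]
    apply el_inj hs
    simp only [map_pow, map_mul, rho_el]
    exact pair hij
  have hx1 : el (ws 0) ≠ 1 := by
    intro h
    apply x0_ne_one
    rw [← rho_el, h, map_one]
  have hx2 : el (ws 0) ≠ τ := by
    intro h
    rw [← htw] at h
    apply x0_ne_t
    rw [← rho_el, ← rho_el]
    exact congrArg rho h
  have hmem : ∀ y : Cfsg.Spor.Ly, y * τ = τ * y → y ∈ centralizer ({τ} : Set Cfsg.Spor.Ly) :=
    fun y hy => mem_centralizer_singleton_iff.mpr hy
  let t' : centralizer ({τ} : Set Cfsg.Spor.Ly) := ⟨τ, hmem τ rfl⟩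
  let x' : Fin 9 → centralizer ({τ} : Set Cfsg.Spor.Ly) := fun i => ⟨el (ws i), hmem _ (hxc i)⟩
  let g' : centralizer ({τ} : Set Cfsg.Spor.Ly) := ⟨gens 0 ^ 2, hmem _ (by rw [← pow_add, ← pow_add])⟩
  refine Cfsg.Agent.Ly.DoubleCover.doubleCover_of_carmichael t' ?_ ?_ hle x' ?_ ?_ ?_ g' ?_
  · rw [← ht, ← orderOf_coe]
  · intro y
    apply Subtype.ext
    exact mem_centralizer_singleton_iff.mp y.2
  · intro i
    rcases h3 i with h | h
    · left; exact Subtype.ext h
    · right; exact Subtype.ext h
  · intro i j hij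
    rcases h2 i j hij with h | h
    · left; exact Subtype.ext h
    · right; exact Subtype.ext h
  · exact ⟨fun h => hx1 (congrArg Subtype.val h), fun h => hx2 (congrArg Subtype.val h)⟩
  · apply Subtype.ext
    show (gens 0 ^ 2) ^ 2 = τ
    rw [← pow_mul]

/-- All the involutions of the presented Lyons group are conjugate. -/
theorem one_class {s : Cfsg.Spor.Ly} (hs : orderOf s = 2) : ∃ g, g * τ * g⁻¹ = s := by
  obtain ⟨L, hL⟩ := exists_lyType τ order_τ cover_τ.2
  rw [← hL]
  apply L.one
  · rw [← pow_two, ← hs, pow_orderOf_eq_one]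
  · intro h
    rw [h, orderOf_one] at hs
    omega

/-- the order of a non-split double cover of `A₁₁` -/
theorem card_cover {C : Type*} [Group C] [Finite C]
    (h : Cfsg.IsNonsplitDoubleCover C (alternatingGroup (Fin 11))) : Nat.card C = 39916800 := by
  obtain ⟨h1, ⟨e⟩, -⟩ := h
  have h2 : Nat.card (alternatingGroup (Fin 11)) = 19958400 := by
    have h3 := two_mul_nat_card_alternatingGroup (α := Fin 11)
    rw [Nat.card_perm, Nat.card_fin] at h3
    have : (11).factorial = 39916800 := by decide
    omega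
  rw [← Subgroup.card_mul_index (center C), h1, Subgroup.index, Nat.card_congr e.toEquiv, h2]

/-- **Closing**: a non-trivial homomorphism from the presented Lyons group to a group of Lyons type is bijective. -/
theorem closing {G : Type*} [Group G] [Finite G] [IsSimpleGroup G] (t : G) (ht : orderOf t = 2)
    (hcov : Cfsg.IsNonsplitDoubleCover (centralizer ({t} : Set G)) (alternatingGroup (Fin 11)))
    (f : Cfsg.Spor.Ly →* G) (hf : f ≠ 1) : Function.Bijective f := by
  have hinj : Function.Injective f := by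
    rcases Cfsg.Agent.Ly.Setup.isLy'.1.eq_bot_or_eq_top_of_normal f.ker inferInstance with h | h
    · exact (MonoidHom.ker_eq_bot_iff f).1 h
    · exfalso
      apply hf
      refine MonoidHom.ext fun x => ?_
      have : x ∈ f.ker := by rw [h]; exact mem_top x
      rw [MonoidHom.mem_ker] at this
      rw [this, MonoidHom.one_apply]
  obtain ⟨L, hL⟩ := exists_lyType t ht hcov
  have hs : orderOf (f τ) = 2 := by rw [orderOf_injective f hinj, order_τ]
  have hss : f τ * f τ = 1 := by rw [← pow_two, ← hs, pow_orderOf_eq_one]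
  have hs1 : f τ ≠ 1 := by
    intro h
    rw [h, orderOf_one] at hs
    omega
  obtain ⟨g, hg⟩ := L.one (f τ) hss hs1
  rw [hL] at hg
  have hcard : Nat.card (centralizer ({f τ} : Set G)) = 39916800 := by
    rw [← card_cover hcov]
    exact (Nat.card_congr (conjCentEquiv g hg).toEquiv).symm
  have hC : centralizer ({f τ} : Set G) ≤ f.range := by
    have h1 : (centralizer ({τ} : Set Cfsg.Spor.Ly)).map f ≤ centralizer ({f τ} : Set G) := by
      rintro _ ⟨y, hy, rfl⟩
      have hy' : y * τ = τ * y := mem_centralizer_singleton_iff.1 hy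
      rw [mem_centralizer_singleton_iff, ← map_mul, hy', map_mul]
    have h2 : Nat.card ((centralizer ({τ} : Set Cfsg.Spor.Ly)).map f) = 39916800 := by
      rw [← cover_τ.1]
      exact (Nat.card_congr (Subgroup.equivMapOfInjective _ f hinj).toEquiv).symm
    have h3 := Subgroup.eq_of_le_of_card_ge h1 (by rw [h2, hcard])
    rw [← h3]
    exact Subgroup.map_le_range f _
  have hcardH : Nat.card f.range = 51765179004000000 := by
    rw [← Cfsg.Agent.Ly.Setup.card_ly]
    exact (Nat.card_congr (MonoidHom.ofInjective hinj).toEquiv).symm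
  have hone : ∀ x ∈ f.range, orderOf x = 2 → ∃ g ∈ f.range, g * f τ * g⁻¹ = x := by
    rintro _ ⟨y, rfl⟩ hy
    rw [orderOf_injective f hinj] at hy
    obtain ⟨w, hw⟩ := one_class hy
    exact ⟨f w, ⟨w, rfl⟩, by rw [← map_inv, ← map_mul, ← map_mul, hw]⟩
  have hdvd : 5 ∣ (centralizer ({f τ} : Set G)).relIndex f.range := by
    have h1 : Nat.card (centralizer ({f τ} : Set G)) * (centralizer ({f τ} : Set G)).relIndex f.range =
        Nat.card f.range := by
      rw [Subgroup.relIndex, ← Subgroup.card_mul_index ((centralizer ({f τ} : Set G)).subgroupOf f.range),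
        Nat.card_congr (Subgroup.subgroupOfEquivOfLe hC).toEquiv]
    rw [hcard, hcardH] at h1
    omega
  have htop := Cfsg.Agent.TwoFusion.ClosingPrime.eq_top_of_prime hs hC hone 5 (by norm_num) hdvd (by
    rintro _ ⟨k, rfl⟩ hk
    rw [orderOf_injective f hinj] at hk
    obtain ⟨s, hs2, hsk⟩ := Cfsg.Agent.R10.FiveComm.exists_involution (k := k) (by rw [← hk, pow_orderOf_eq_one])
    exact ⟨f s, ⟨s, rfl⟩, by rw [orderOf_injective f hinj, hs2], by rw [← map_mul, hsk, map_mul]⟩)
  exact ⟨hinj, MonoidHom.range_eq_top.1 htop⟩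

end Cfsg.Agent.R10.Close
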