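import Cfsg.Agent.SporRec.LyG2.Rel
import Cfsg.Prelude.Def_Spor_Ly

/-!
# Homomorphisms from the presented Lyons group

`Rel44` (relations 1–44, with auxiliary elements) and `RelZ` (relations 73–86 in terms of `a b c d z`) for elements of
an arbitrary group give a homomorphism from the presented Lyons group.
-/

set_option autoImplicit false
set_option linter.unusedVariables false

namespace Cfsg.Agent.R10.ToHom

open Cfsg.Spor Cfsg.Agent.SporRec.LyG2.Rel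





/-- the auxiliary generator x23, relation (50): x23 = d -/
@[reducible] def x23 {G : Type*} [Group G] (a b c d : G) : G := d

/-- the auxiliary generator x24, relation (51): x24 = d^-1 -/
@[reducible] def x24 {G : Type*} [Group G] (a b c d : G) : G := (d⁻¹)

/-- the auxiliary generator x25, relation (52): x25 = b^2 a^-1 b^-1 a^-1 b^2 c^-1 a c a^-1 c^-1 d c^-1 b^2 a^-1 c b -/
@[reducible] def x25 {G : Type*} [Group G] (a b c d : G) : G := ((b ^ 2) * (a⁻¹) * (b⁻¹) * (a⁻¹) * (b ^ 2) * (c⁻¹) * a * c * (a⁻¹) * (c⁻¹) * d * (c⁻¹) * (b ^ 2) * (a⁻¹) * c * b)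

/-- the auxiliary generator x29, relation (53): x29 = a b a^-1 b^2 a^-1 b^2 c^-1 a c b c b^-1 d c b^-2 d c b c -/
@[reducible] def x29 {G : Type*} [Group G] (a b c d : G) : G := (a * b * (a⁻¹) * (b ^ 2) * (a⁻¹) * (b ^ 2) * (c⁻¹) * a * c * b * c * (b⁻¹) * d * c * ((b ^ 2)⁻¹) * d * c * b * c)

/-- the auxiliary generator x47, relation (54): x47 = c^-1 d^-1 a^-1 c^-1 a^-1 b c^-1 d^-1 -/
@[reducible] def x47 {G : Type*} [Group G] (a b c d : G) : G := ((c⁻¹) * (d⁻¹) * (a⁻¹) * (c⁻¹) * (a⁻¹) * b * (c⁻¹) * (d⁻¹))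

/-- the auxiliary generator x96, relation (55): x96 = b d -/
@[reducible] def x96 {G : Type*} [Group G] (a b c d : G) : G := (b * d)

/-- the auxiliary generator x129, relation (56): x129 = d^-1 b^-1 -/
@[reducible] def x129 {G : Type*} [Group G] (a b c d : G) : G := ((d⁻¹) * (b⁻¹))

/-- the auxiliary generator x162, relation (57): x162 = a^-1 b^-1 a^-1 b c^-1 b^-1 a c^-1 b a -/
@[reducible] def x162 {G : Type*} [Group G] (a b c d : G) : G := ((a⁻¹) * (b⁻¹) * (a⁻¹) * b * (c⁻¹) * (b⁻¹) * a * (c⁻¹) * b * a)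

/-- the auxiliary generator x163, relation (58): x163 = b^-2 a c a^-1 b c b -/
@[reducible] def x163 {G : Type*} [Group G] (a b c d : G) : G := (((b ^ 2)⁻¹) * a * c * (a⁻¹) * b * c * b)

/-- the auxiliary generator x164, relation (59): x164 = a^-1 b^-1 a^-1 c a b a -/
@[reducible] def x164 {G : Type*} [Group G] (a b c d : G) : G := ((a⁻¹) * (b⁻¹) * (a⁻¹) * c * a * b * a)

/-- the auxiliary generator x165, relation (60): x165 = b^-1 a^-1 b c b^-1 a b -/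
@[reducible] def x165 {G : Type*} [Group G] (a b c d : G) : G := ((b⁻¹) * (a⁻¹) * b * c * (b⁻¹) * a * b)

/-- the auxiliary generator x166, relation (61): x166 = b^2 a^-1 b^-1 c b a c b^-2 c^-1 -/
@[reducible] def x166 {G : Type*} [Group G] (a b c d : G) : G := ((b ^ 2) * (a⁻¹) * (b⁻¹) * c * b * a * c * ((b ^ 2)⁻¹) * (c⁻¹))

/-- the auxiliary generator x167, relation (62): x167 = a^-3 -/
@[reducible] def x167 {G : Type*} [Group G] (a b c d : G) : G := ((a ^ 3)⁻¹)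

/-- the auxiliary generator x168, relation (63): x168 = b a^-1 b^-1 a^-2 -/
@[reducible] def x168 {G : Type*} [Group G] (a b c d : G) : G := (b * (a⁻¹) * (b⁻¹) * ((a ^ 2)⁻¹))

/-- the auxiliary generator x169, relation (64): x169 = a b^2 a b^-2 a^-1 -/
@[reducible] def x169 {G : Type*} [Group G] (a b c d : G) : G := (a * (b ^ 2) * a * ((b ^ 2)⁻¹) * (a⁻¹))

/-- the auxiliary generator x364, relation (65): x364 = a^-1 d b^-1 c^-1 a^-1 b c^-1 d^-1 b c^-1 b^-1 a^-1 c^-1 a b^-1 a b a b^-1 -/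
@[reducible] def x364 {G : Type*} [Group G] (a b c d : G) : G := ((a⁻¹) * d * (b⁻¹) * (c⁻¹) * (a⁻¹) * b * (c⁻¹) * (d⁻¹) * b * (c⁻¹) * (b⁻¹) * (a⁻¹) * (c⁻¹) * a * (b⁻¹) * a * b * a * (b⁻¹))

/-- the auxiliary generator x365, relation (66): x365 = a b^-2 a^-1 c b c^-1 b a^-1 c^-2 d c a c a^-1 c b^-1 d^-1 -/
@[reducible] def x365 {G : Type*} [Group G] (a b c d : G) : G := (a * ((b ^ 2)⁻¹) * (a⁻¹) * c * b * (c⁻¹) * b * (a⁻¹) * ((c ^ 2)⁻¹) * d * c * a * c * (a⁻¹) * c * (b⁻¹) * (d⁻¹))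

/-- the auxiliary generator x366, relation (67): x366 = b a b^-1 a^-1 b^-2 a^-1 b^-1 c b^2 c b d c b^-2 d c b c -/
@[reducible] def x366 {G : Type*} [Group G] (a b c d : G) : G := (b * a * (b⁻¹) * (a⁻¹) * ((b ^ 2)⁻¹) * (a⁻¹) * (b⁻¹) * c * (b ^ 2) * c * b * d * c * ((b ^ 2)⁻¹) * d * c * b * c)

/-- the auxiliary generator x367, relation (68): x367 = c^-1 b^-1 c^-1 d^-1 b^2 c^-1 d^-1 b^-1 c^-1 b^-2 c^-1 b a b^2 a b a^-1 b^-1 -/
@[reducible] def x367 {G : Type*} [Group G] (a b c d : G) : G := ((c⁻¹) * (b⁻¹) * (c⁻¹) * (d⁻¹) * (b ^ 2) * (c⁻¹) * (d⁻¹) * (b⁻¹) * (c⁻¹) * ((b ^ 2)⁻¹) * (c⁻¹) * b * a * (b ^ 2) * a * b * (a⁻¹) * (b⁻¹))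

/-- the auxiliary generator x368, relation (69): x368 = a^-1 c^-1 d^-1 a c^-1 b^-1 a c^-1 d^-1 a^-1 c^-1 a c b^-2 c^-1 b^-1 a^-1 b^-2 -/
@[reducible] def x368 {G : Type*} [Group G] (a b c d : G) : G := ((a⁻¹) * (c⁻¹) * (d⁻¹) * a * (c⁻¹) * (b⁻¹) * a * (c⁻¹) * (d⁻¹) * (a⁻¹) * (c⁻¹) * a * c * ((b ^ 2)⁻¹) * (c⁻¹) * (b⁻¹) * (a⁻¹) * ((b ^ 2)⁻¹))

/-- the auxiliary generator x369, relation (70): x369 = a^-1 c^-1 d^-1 b a^-1 b^-1 c^-1 d^-1 b a^-1 b^-1 c^-1 b^-1 a b^-2 a b^-1 -/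
@[reducible] def x369 {G : Type*} [Group G] (a b c d : G) : G := ((a⁻¹) * (c⁻¹) * (d⁻¹) * b * (a⁻¹) * (b⁻¹) * (c⁻¹) * (d⁻¹) * b * (a⁻¹) * (b⁻¹) * (c⁻¹) * (b⁻¹) * a * ((b ^ 2)⁻¹) * a * (b⁻¹))

/-- the auxiliary generator x370, relation (71): x370 = d^-1 a c b c a^-1 c^-1 d^-1 a b^-1 a^-1 c a^-1 b^-2 a^-1 b a^-1 -/
@[reducible] def x370 {G : Type*} [Group G] (a b c d : G) : G := ((d⁻¹) * a * c * b * c * (a⁻¹) * (c⁻¹) * (d⁻¹) * a * (b⁻¹) * (a⁻¹) * c * (a⁻¹) * ((b ^ 2)⁻¹) * (a⁻¹) * b * (a⁻¹))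

/-- the auxiliary generator x371, relation (72): x371 = c^-1 a^-1 c b c^-1 d^-1 c a^-1 c a c b^-1 a^-1 b^-1 a^-1 b -/
@[reducible] def x371 {G : Type*} [Group G] (a b c d : G) : G := ((c⁻¹) * (a⁻¹) * c * b * (c⁻¹) * (d⁻¹) * c * (a⁻¹) * c * a * c * (b⁻¹) * (a⁻¹) * (b⁻¹) * (a⁻¹) * b)



/-- The relations 73–86 of the presentation of the Lyons group, with `a1 = a`, `a2 = b a b⁻¹`, `a3 = b² a b⁻²`,
`a4 = b⁻² a b²`, `u = a²`. -/
structure RelZ {G : Type*} [Group G] (a b c d z c1 c2 c3 c4 c5 : G) : Prop where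
  r73 : (z⁻¹ * c1 * z) * ((x162 a b c d)⁻¹) = 1
  r74 : (z⁻¹ * c2 * z) * ((x163 a b c d)⁻¹) = 1
  r75 : (z⁻¹ * c3 * z) * ((x164 a b c d)⁻¹) = 1
  r76 : (z⁻¹ * c4 * z) * ((x165 a b c d)⁻¹) = 1
  r77 : (z⁻¹ * c5 * z) * ((x166 a b c d)⁻¹) = 1
  r78 : (z⁻¹ * a * z) * ((x167 a b c d)⁻¹) = 1
  r79 : (z⁻¹ * ((b⁻¹)⁻¹ * a * (b⁻¹)) * z) * ((x168 a b c d)⁻¹) = 1
  r80 : (z⁻¹ * (((b ^ 2)⁻¹)⁻¹ * a * ((b ^ 2)⁻¹)) * z) * ((x169 a b c d)⁻¹) = 1
  r81 : (z ^ 2) * ((a ^ 2)⁻¹) = 1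
  r82 : ((((b ^ 2)⁻¹ * a * (b ^ 2)) * z) ^ 3) * (a ^ 2) = 1
  r83 : x47 a b c d * z * x364 a b c d * z * x368 a b c d * z = 1
  r84 : (z⁻¹) * x24 a b c d * (z⁻¹) * x369 a b c d * z * x23 a b c d * z * x29 a b c d = 1
  r85 : z * x366 a b c d * z * x365 a b c d * (z⁻¹) * x367 a b c d * (z⁻¹) * x370 a b c d = 1
  r86 : z * x96 a b c d * z * x25 a b c d * (z⁻¹) * x129 a b c d * (z⁻¹) * x371 a b c d = 1

/-- The images of the generators. -/
def val {G : Type*} [Group G] (a b c d z e c1 c2 c3 c4 c5 : G) : Ly.Gen → G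
  | .a => a
  | .b => b
  | .c => c
  | .d => d
  | .z => z
  | .e => e
  | .a1 => a
  | .a2 => (b⁻¹)⁻¹ * a * (b⁻¹)
  | .a3 => ((b ^ 2)⁻¹)⁻¹ * a * ((b ^ 2)⁻¹)
  | .a4 => (b ^ 2)⁻¹ * a * (b ^ 2)
  | .c1 => c1
  | .c2 => c2
  | .c3 => c3
  | .c4 => c4
  | .c5 => c5
  | .u => a ^ 2
  | .x23 => x23 a b c d
  | .x24 => x24 a b c d
  | .x25 => x25 a b c d
  | .x29 => x29 a b c d
  | .x47 => x47 a b c d
  | .x96 => x96 a b c d
  | .x129 => x129 a b c d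
  | .x162 => x162 a b c d
  | .x163 => x163 a b c d
  | .x164 => x164 a b c d
  | .x165 => x165 a b c d
  | .x166 => x166 a b c d
  | .x167 => x167 a b c d
  | .x168 => x168 a b c d
  | .x169 => x169 a b c d
  | .x364 => x364 a b c d
  | .x365 => x365 a b c d
  | .x366 => x366 a b c d
  | .x367 => x367 a b c d
  | .x368 => x368 a b c d
  | .x369 => x369 a b c d
  | .x370 => x370 a b c d
  | .x371 => x371 a b c d

variable {G : Type*} [Group G] {a b c d z e c1 c2 c3 c4 c5 : G}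

theorem lift_extra (h : Rel44 a b c d e c1 c2 c3 c4 c5) (k : RelZ a b c d z c1 c2 c3 c4 c5) :
    ∀ r ∈ Ly.extra, FreeGroup.lift (val a b c d z e c1 c2 c3 c4 c5) r = 1 := by
  unfold Ly.extra
  simp only [List.forall_mem_cons]
  refine ⟨?_, ?_, ?_, ?_, ?_, ?_, ?_, ?_, ?_, ?_, ?_, ?_, ?_, ?_, ?_, ?_, ?_, ?_, ?_, ?_, ?_, ?_, ?_, ?_, ?_, ?_, ?_, ?_, ?_, ?_, ?_, ?_, ?_, ?_, ?_, ?_, ?_, ?_, ?_, ?_, ?_, ?_, ?_, ?_, ?_, ?_, ?_, ?_, ?_, ?_, ?_, ?_, ?_, ?_, ?_, ?_, ?_, ?_, ?_, ?_, ?_, ?_, ?_, ?_, ?_, ?_, ?_, ?_, ?_, ?_, ?_, ?_, ?_, ?_, ?_, ?_, ?_, ?_, ?_, ?_, ?_, ?_, ?_, ?_, ?_, ?_, by simp⟩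
  all_goals simp only [map_mul, map_inv, map_pow, FreeGroup.lift_apply_of]
  · exact h.r1
  · exact h.r2
  · exact h.r3
  · exact h.r4
  · exact h.r5
  · exact h.r6
  · exact h.r7
  · exact h.r8
  · exact h.r9
  · exact h.r10
  · exact h.r11
  · exact h.r12
  · exact h.r13
  · exact h.r14
  · exact h.r15
  · exact h.r16
  · exact h.r17
  · exact h.r18
  · exact h.r19
  · exact h.r20
  · exact h.r21
  · exact h.r22
  · exact h.r23
  · exact h.r24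
  · exact h.r25
  · exact h.r26
  · exact h.r27
  · exact h.r28
  · exact h.r29
  · exact h.r30
  · exact h.r31
  · exact h.r32
  · exact h.r33
  · exact h.r34
  · exact h.r35
  · exact h.r36
  · exact h.r37
  · exact h.r38
  · exact h.r39
  · exact h.r40
  · exact h.r41
  · exact h.r42
  · exact h.r43
  · exact h.r44
  · exact mul_inv_eq_one.mpr rfl
  · exact mul_inv_eq_one.mpr rfl
  · exact mul_inv_eq_one.mpr rfl
  · exact mul_inv_eq_one.mpr rfl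
  · exact mul_inv_eq_one.mpr rfl
  · exact mul_inv_eq_one.mpr rfl
  · exact mul_inv_eq_one.mpr rfl
  · exact mul_inv_eq_one.mpr rfl
  · exact mul_inv_eq_one.mpr rfl
  · exact mul_inv_eq_one.mpr rfl
  · exact mul_inv_eq_one.mpr rfl
  · exact mul_inv_eq_one.mpr rfl
  · exact mul_inv_eq_one.mpr rfl
  · exact mul_inv_eq_one.mpr rfl
  · exact mul_inv_eq_one.mpr rfl
  · exact mul_inv_eq_one.mpr rfl
  · exact mul_inv_eq_one.mpr rfl
  · exact mul_inv_eq_one.mpr rfl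
  · exact mul_inv_eq_one.mpr rfl
  · exact mul_inv_eq_one.mpr rfl
  · exact mul_inv_eq_one.mpr rfl
  · exact mul_inv_eq_one.mpr rfl
  · exact mul_inv_eq_one.mpr rfl
  · exact mul_inv_eq_one.mpr rfl
  · exact mul_inv_eq_one.mpr rfl
  · exact mul_inv_eq_one.mpr rfl
  · exact mul_inv_eq_one.mpr rfl
  · exact mul_inv_eq_one.mpr rfl
  · exact k.r73
  · exact k.r74
  · exact k.r75
  · exact k.r76
  · exact k.r77
  · exact k.r78
  · exact k.r79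
  · exact k.r80
  · exact k.r81
  · exact k.r82
  · exact k.r83
  · exact k.r84
  · exact k.r85
  · exact k.r86

theorem lift_rset (h : Rel44 a b c d e c1 c2 c3 c4 c5) (k : RelZ a b c d z c1 c2 c3 c4 c5) :
    ∀ r ∈ (coxRelators Ly.edges ∪ {r | r ∈ Ly.extra} : Set (FreeGroup Ly.Gen)),
      FreeGroup.lift (val a b c d z e c1 c2 c3 c4 c5) r = 1 := by
  rintro r (⟨x, hx, _⟩ | hr)
  · exact absurd hx (by simp [coxNodes, Ly.edges])
  · exact lift_extra h k r hr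

/-- Elements satisfying the relations give a homomorphism from the presented Lyons group. -/
def hom (h : Rel44 a b c d e c1 c2 c3 c4 c5) (k : RelZ a b c d z c1 c2 c3 c4 c5) : Cfsg.Spor.Ly →* G :=
  PresentedGroup.toGroup (lift_rset h k)

theorem hom_of (h : Rel44 a b c d e c1 c2 c3 c4 c5) (k : RelZ a b c d z c1 c2 c3 c4 c5) (x : Ly.Gen) :
    hom h k (PresentedGroup.of x) = val a b c d z e c1 c2 c3 c4 c5 x :=
  PresentedGroup.toGroup.of (lift_rset h k)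

theorem hom_a (h : Rel44 a b c d e c1 c2 c3 c4 c5) (k : RelZ a b c d z c1 c2 c3 c4 c5) :
    hom h k (PresentedGroup.of Ly.Gen.a) = a := hom_of h k _

theorem hom_b (h : Rel44 a b c d e c1 c2 c3 c4 c5) (k : RelZ a b c d z c1 c2 c3 c4 c5) :
    hom h k (PresentedGroup.of Ly.Gen.b) = b := hom_of h k _

theorem hom_c (h : Rel44 a b c d e c1 c2 c3 c4 c5) (k : RelZ a b c d z c1 c2 c3 c4 c5) :
    hom h k (PresentedGroup.of Ly.Gen.c) = c := hom_of h k _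

theorem hom_d (h : Rel44 a b c d e c1 c2 c3 c4 c5) (k : RelZ a b c d z c1 c2 c3 c4 c5) :
    hom h k (PresentedGroup.of Ly.Gen.d) = d := hom_of h k _

theorem hom_z (h : Rel44 a b c d e c1 c2 c3 c4 c5) (k : RelZ a b c d z c1 c2 c3 c4 c5) :
    hom h k (PresentedGroup.of Ly.Gen.z) = z := hom_of h k _

end Cfsg.Agent.R10.ToHom
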