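import Cfsg.Agent.R10.Rel86Base
import Cfsg.Agent.R10.ToHom

/-!
# Relator (86) of the Lyons group

`m = [z, b d]` is an involution over `(3 5)(4 10)(6 9)(7 8)` which commutes with `a` and `b a b⁻¹`.  Relator (86) says
that it also commutes with `ρ = a d b⁻¹ c⁻¹ d a c⁻¹ b a⁻¹ b⁻¹ c b⁻¹ d⁻¹ c⁻¹`, an element of order 3 normalising the
four-group `⟨t, t'⟩`, `t' = b⁻² a b² d`.  The conjugate `y = ρ m ρ⁻¹` lies in the centraliser of `t`; exact computations
there identify it with `m`.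
-/

set_option autoImplicit false

namespace Cfsg.Agent.R10.Rel86

open Equiv Subgroup
open Cfsg.Agent.CharactersDeep.DoubleCover
open Cfsg.Agent.SporadicRecognition.CosetCert (ev ev_nil ev_cons ev_append)
open Cfsg.Agent.R10.TCalc Cfsg.Agent.R10.TEval Cfsg.Agent.R10.EndBase Cfsg.Agent.R10.Rel86Base
open Cfsg.Agent.SporRec Cfsg.Agent.SporRec.LyG2.Rel Cfsg.Agent.R10.ToHom

variable {G : Type*} [Group G] {a b c d e c1 c2 c3 c4 c5 z y t : G} {E : centralizer ({t} : Set G) →* cover 11}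

/-- letters of the centraliser -/
def dok (w : List ℕ) : Bool := w.all fun k => [0, 1, 2, 3, 6, 7, 16, 17].contains k

/-- Values of words in `a, b, c₅, d`. -/
theorem EVD (Ea : EV E a true (tf 0)) (Eb : EV E b true (tf 2)) (Ed : EV E d true (tf 6))
    (Ef : EV E c5 true (tf 16)) (w : List ℕ) (hw : dok w = true) :
    EV E (ev (gl a b c d c5 z y) w) (wsg (fun _ => true) w) (wtw tf w) := by
  apply EV.word
  intro k hk
  have h1 := List.all_eq_true.1 hw k hk
  have h2 : k = 0 ∨ k = 1 ∨ k = 2 ∨ k = 3 ∨ k = 6 ∨ k = 7 ∨ k = 16 ∨ k = 17 := by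
    simpa using h1
  rcases h2 with rfl | rfl | rfl | rfl | rfl | rfl | rfl | rfl
  · exact Ea
  · exact Ea.inv
  · exact Eb
  · exact Eb.inv
  · exact Ed
  · exact Ed.inv
  · exact Ef
  · exact Ef.inv

/-- the word of `m` -/
def mw : List (Fin 11 × Fin 11) := [(3, 5), (4, 10), (6, 9), (7, 8)]

/-- The value of `m = [z, b d]`. -/
theorem EVm {sz : Bool} (Ez : EV E z sz (tf 46)) (Eb : EV E b true (tf 2)) (Ed : EV E d true (tf 6)) :
    EV E (z⁻¹ * (b * d)⁻¹ * z * (b * d)) false mw := by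
  have := ((Ez.inv.mul (Eb.mul Ed).inv).mul Ez).mul (Eb.mul Ed)
  refine this.congr ?_
  cases sz <;> decide +kernel

/-- all candidates but one are excluded -/
theorem final_check : ∀ w ∈ L12, ∀ s : Bool,
    refute false (comW w (wtw tf [2, 0, 2, 2, 17, 6, 17, 0, 2, 2])) (wsg (fun _ => true) [3, 3, 0, 2, 2, 6])
        (wtw tf [3, 3, 0, 2, 2, 6]) = true ∨
      refute false (comW w (wtw tf [1, 6])) (wsg (fun _ => true) [0, 0, 0, 0]) (wtw tf [0, 0, 0, 0]) = true ∨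
      refute (xor s (wsg (fun _ => true) [2, 0, 3, 17, 7, 17, 1])) (cubW w (wtw tf [2, 0, 3, 17, 7, 17, 1])) false []
        = true ∨ ((xor s (nf w).1, (nf w).2) = (xor false (nf mw).1, (nf mw).2)) := by
  decide +kernel

/-- An equality in the centraliser from the calculator, for words in `a, b, c₅, d`. -/
theorem conj_rel {x g w w' : G} (h : g * w = w' * g) (hx : x = w) : g * x * g⁻¹ = w' := by
  rw [hx, h, mul_assoc, mul_inv_cancel, mul_one]

/-- **The involution `m = [z, b d]` commutes with `ρ`.** -/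
theorem comm_rho (h44 : Rel44 a b c d e c1 c2 c3 c4 c5) (hat : a * a * a * a = t)
    (K : TwoAn.Cover (Fin 11) (centralizer ({t} : Set G))) (hEi : Function.Injective E)
    (hEp : ∀ x, proj 11 (E x) = K.π x) (hKz : (K.z : G) = t)
    (Ea : EV E a true (tf 0)) (Eb : EV E b true (tf 2)) (Ed : EV E d true (tf 6)) (Ef : EV E c5 true (tf 16))
    {sz : Bool} (Ez : EV E z sz (tf 46)) :
    ev (gl a b c d c5 z y) [0, 6, 3, 5, 6, 0, 5, 2, 1, 3, 4, 3, 7, 5] * (z⁻¹ * (b * d)⁻¹ * z * (b * d)) =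
      (z⁻¹ * (b * d)⁻¹ * z * (b * d)) * ev (gl a b c d c5 z y) [0, 6, 3, 5, 6, 0, 5, 2, 1, 3, 4, 3, 7, 5] := by
  have Em := EVm Ez Eb Ed
  generalize z⁻¹ * (b * d)⁻¹ * z * (b * d) = m at Em ⊢
  have hD := fun w hw => EVD (z := z) (y := y) (c := c) Ea Eb Ed Ef w hw
  have hH := fun w w' hc => hw (z := z) (y := y) h44 (w := w) (w' := w') hc
  generalize hg : gl a b c d c5 z y = g at hD hH
  have ht : ev g [0, 0, 0, 0] = t := by
    rw [← hg, ← hat]; simp [ev, gl, mul_assoc]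
  -- the elements
  have ET := hD [0, 0, 0, 0] rfl
  have EB := hD [3, 3, 0, 2, 2, 6] rfl
  have Es := hD [0, 2, 1, 3] rfl
  have Er := hD [0, 17, 7, 17, 1] rfl
  have Er' := hD [2, 0, 3, 17, 7, 17, 1] rfl
  have E1 := hD [1, 6] rfl
  have E1' := hD [2, 0, 2, 2, 17, 6, 17, 0, 2, 2] rfl
  have E2 := hD [16, 0, 6, 17] rfl
  -- conjugation by `ρ`
  have rT := hH ([0, 6, 3, 5, 6, 0, 5, 2, 1, 3, 4, 3, 7, 5] ++ [0, 0, 0, 0])
    ([3, 3, 0, 2, 2, 6] ++ [0, 6, 3, 5, 6, 0, 5, 2, 1, 3, 4, 3, 7, 5]) (by decide +kernel)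
  have rB := hH ([0, 6, 3, 5, 6, 0, 5, 2, 1, 3, 4, 3, 7, 5] ++ [3, 3, 0, 2, 2, 6])
    (([0, 0, 0, 0] ++ [3, 3, 0, 2, 2, 6]) ++ [0, 6, 3, 5, 6, 0, 5, 2, 1, 3, 4, 3, 7, 5]) (by decide +kernel)
  have rs := hH ([0, 6, 3, 5, 6, 0, 5, 2, 1, 3, 4, 3, 7, 5] ++ [0, 2, 1, 3])
    ([0, 2, 1, 3] ++ [0, 6, 3, 5, 6, 0, 5, 2, 1, 3, 4, 3, 7, 5]) (by decide +kernel)
  have rr := hH ([0, 6, 3, 5, 6, 0, 5, 2, 1, 3, 4, 3, 7, 5] ++ [0, 17, 7, 17, 1])
    ([2, 0, 3, 17, 7, 17, 1] ++ [0, 6, 3, 5, 6, 0, 5, 2, 1, 3, 4, 3, 7, 5]) (by decide +kernel)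
  have r1 := hH ([0, 6, 3, 5, 6, 0, 5, 2, 1, 3, 4, 3, 7, 5] ++ [1, 6])
    ([2, 0, 2, 2, 17, 6, 17, 0, 2, 2] ++ [0, 6, 3, 5, 6, 0, 5, 2, 1, 3, 4, 3, 7, 5]) (by decide +kernel)
  have r2 := hH ([0, 6, 3, 5, 6, 0, 5, 2, 1, 3, 4, 3, 7, 5] ++ [16, 0, 6, 17])
    ([1, 6] ++ [0, 6, 3, 5, 6, 0, 5, 2, 1, 3, 4, 3, 7, 5]) (by decide +kernel)
  rw [ev_append, ev_append] at rT rB rs rr r1 r2
  rw [ev_append] at rB
  -- relations of `m` in the centraliser
  have m2 : m * m = 1 := (Em.mul Em).eq hEi EV.one (by decide +kernel)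
  have mB : m * ev g [3, 3, 0, 2, 2, 6] = ev g [3, 3, 0, 2, 2, 6] * m :=
    (Em.mul EB).eq hEi (EB.mul Em) (by decide +kernel)
  have ms : m * ev g [0, 2, 1, 3] = ev g [0, 2, 1, 3] * m := (Em.mul Es).eq hEi (Es.mul Em) (by decide +kernel)
  have mT : m * t = t * m := mem_centralizer_singleton_iff.1 Em.mem
  have BT : ev g [3, 3, 0, 2, 2, 6] * t = t * ev g [3, 3, 0, 2, 2, 6] := mem_centralizer_singleton_iff.1 EB.mem
  have BB : ev g [3, 3, 0, 2, 2, 6] * ev g [3, 3, 0, 2, 2, 6] = 1 := (EB.mul EB).eq hEi EV.one (by decide +kernel)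
  have tt : t * t = 1 := by
    rw [← ht]; exact (ET.mul ET).eq hEi EV.one (by decide +kernel)
  have m5 := (EV.com Em E1).eq hEi ET (by decide +kernel)
  have m6 := (EV.com Em E2).eq hEi (ET.mul EB) (by decide +kernel)
  have m7 := (EV.cub Em Er).eq hEi EV.one (by decide +kernel)
  have mne1 : m ≠ 1 := EV.ne Em EV.one (by decide +kernel)
  have mneT : m ≠ t := by rw [← ht]; exact EV.ne Em ET (by decide +kernel)
  have mneB : m ≠ ev g [3, 3, 0, 2, 2, 6] := EV.ne Em EB (by decide +kernel)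
  have mneTB : m ≠ t * ev g [3, 3, 0, 2, 2, 6] := by rw [← ht]; exact EV.ne Em (ET.mul EB) (by decide +kernel)
  rw [ht] at rT rB m5 m6
  generalize ev g [0, 6, 3, 5, 6, 0, 5, 2, 1, 3, 4, 3, 7, 5] = ρ at *
  generalize hB : ev g [3, 3, 0, 2, 2, 6] = B at *
  generalize hs : ev g [0, 2, 1, 3] = s at *
  generalize ev g [0, 17, 7, 17, 1] = r at *
  generalize hr' : ev g [2, 0, 3, 17, 7, 17, 1] = r' at *
  generalize hu : ev g [1, 6] = u at *
  generalize ev g [2, 0, 2, 2, 17, 6, 17, 0, 2, 2] = u' at *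
  generalize ev g [16, 0, 6, 17] = v at *
  rw [ht] at ET
  -- conjugation by `ρ` as an automorphism
  have cj : ∀ {x x' : G}, ρ * x = x' * ρ → MulAut.conj ρ x = x' := by
    intro x x' h
    rw [MulAut.conj_apply, h, mul_assoc, mul_inv_cancel, mul_one]
  have fT := cj rT
  have fB := cj rB
  have fs := cj rs
  have fr := cj rr
  have f1 := cj r1
  have f2 := cj r2
  have fTB : MulAut.conj ρ (t * B) = t := by
    rw [map_mul, fT, fB, ← mul_assoc, BT, mul_assoc, BB, mul_one]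
  obtain ⟨Y, hY⟩ : ∃ Y, Y = MulAut.conj ρ m := ⟨_, rfl⟩
  have YB : Y * B = B * Y := by
    rw [hY, ← fT, ← map_mul, ← map_mul, mT]
  have YtB : Y * (t * B) = (t * B) * Y := by
    rw [hY, ← fB, ← map_mul, ← map_mul, mB]
  have YT : Y * t = t * Y := by
    have : Y * t * B = t * Y * B := by
      rw [mul_assoc, YtB, mul_assoc, mul_assoc, YB]
    exact mul_right_cancel this
  have YY : Y * Y = 1 := by rw [hY, ← map_mul, m2, map_one]
  have Ys : Y * s = s * Y := by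
    have := congrArg (MulAut.conj ρ) ms
    rw [map_mul, map_mul, fs, ← hY] at this
    exact this
  have y5 : Y * (u' * Y * u'⁻¹) * Y⁻¹ * (u' * Y⁻¹ * u'⁻¹) = B := by
    have := congrArg (MulAut.conj ρ) m5
    simp only [map_mul, map_inv, f1, fT, ← hY] at this
    exact this
  have y6 : Y * (u * Y * u⁻¹) * Y⁻¹ * (u * Y⁻¹ * u⁻¹) = t := by
    have := congrArg (MulAut.conj ρ) m6
    rw [fTB] at this
    simp only [map_mul, map_inv, f2, ← hY] at this
    exact this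
  have y7 : (Y * r') * (Y * r') * (Y * r') = 1 := by
    have := congrArg (MulAut.conj ρ) m7
    simp only [map_mul, map_one, fr, ← hY] at this
    exact this
  have Y1 : Y ≠ 1 := fun h => mne1 ((MulAut.conj ρ).injective (by rw [← hY, h, map_one]))
  have Yt : Y ≠ t := fun h => mneTB ((MulAut.conj ρ).injective (by rw [← hY, h, fTB]))
  have YneB : Y ≠ B := fun h => mneT ((MulAut.conj ρ).injective (by rw [← hY, h, fT]))
  have YneTB : Y ≠ t * B := fun h => mneB ((MulAut.conj ρ).injective (by rw [← hY, h, fB]))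
  have Ymem : Y ∈ centralizer ({t} : Set G) := mem_centralizer_singleton_iff.2 YT
  have Bmem := EB.mem
  obtain ⟨Y', hY'⟩ : ∃ Y' : centralizer ({t} : Set G), Y' = ⟨Y, Ymem⟩ := ⟨_, rfl⟩
  obtain ⟨B', hB'⟩ : ∃ B' : centralizer ({t} : Set G), B' = ⟨B, Bmem⟩ := ⟨_, rfl⟩
  have kz : ∀ x : centralizer ({t} : Set G), K.π x = 1 → (x : G) = 1 ∨ (x : G) = t := by
    intro x hx
    rcases (K.ker x).1 hx with h | h
    · left; rw [h]; rfl
    · right; rw [h]; exact hKz
  have pY2 : ∀ x, K.π Y' (K.π Y' x) = x := by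
    intro x
    have : K.π (Y' * Y') = 1 := by
      rw [hY']
      have : (⟨Y, Ymem⟩ : centralizer ({t} : Set G)) * ⟨Y, Ymem⟩ = 1 := Subtype.ext YY
      rw [this, map_one]
    rw [map_mul] at this
    exact congrArg (fun f : Perm (Fin 11) => f x) this
  have pB : ∀ x, K.π B' x = q x := by
    intro x
    rw [hB', ← hEp, EV.proj_apply EB]
    revert x; decide +kernel
  have pYc : ∀ x, K.π Y' (act cw x) = act cw (K.π Y' x) := by
    have hs' : ∀ x, K.π ⟨s, Es.mem⟩ x = act cw x := by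
      intro x
      rw [← hEp, EV.proj_apply Es]
      revert x; decide +kernel
    intro x
    have : K.π (Y' * ⟨s, Es.mem⟩) = K.π (⟨s, Es.mem⟩ * Y') := by
      congr 1; rw [hY']; exact Subtype.ext Ys
    rw [map_mul, map_mul] at this
    have := congrArg (fun f : Perm (Fin 11) => f x) this
    simp only [Perm.mul_apply, hs'] at this
    exact this
  have pYq : ∀ x, K.π Y' (q x) = q (K.π Y' x) := by
    intro x
    have : K.π (Y' * B') = K.π (B' * Y') := by
      congr 1; rw [hY', hB']; exact Subtype.ext YB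
    rw [map_mul, map_mul] at this
    have := congrArg (fun f : Perm (Fin 11) => f x) this
    simp only [Perm.mul_apply, pB] at this
    exact this
  obtain ⟨p0, p1, p2⟩ := fix3 pY2 pYc
  have hfix : ∀ x : Fin 11, 3 ≤ x → K.π Y' x ≠ x := by
    refine supp8 p0 p1 p2 ?_ ?_
    · refine (K.sq_eq_one_iff.1 ?_).2
      rw [hY']; exact Subtype.ext YY
    · intro h
      rcases kz Y' h with h | h
      · exact Y1 (by rw [← h, hY'])
      · exact Yt (by rw [← h, hY'])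
  have hfq : ∀ x : Fin 11, 3 ≤ x → K.π Y' x ≠ q x := by
    have key := supp8 (p := K.π (Y' * B')) (by
      rw [map_mul, Perm.mul_apply, pB, show q 0 = 0 by decide]; exact p0) (by
      rw [map_mul, Perm.mul_apply, pB, show q 1 = 1 by decide]; exact p1) (by
      rw [map_mul, Perm.mul_apply, pB, show q 2 = 2 by decide]; exact p2) (by
      refine (K.sq_eq_one_iff.1 ?_).2
      rw [hY', hB']
      refine Subtype.ext ?_
      calc Y * B * (Y * B) = Y * (B * Y) * B := by group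
        _ = Y * (Y * B) * B := by rw [YB]
        _ = (Y * Y) * (B * B) := by group
        _ = 1 := by rw [YY, BB, one_mul]) (by
      intro h
      rcases kz _ h with h | h
      · rw [hY', hB'] at h
        have h' : Y * B = 1 := h
        exact YneB (by rw [← mul_one Y, ← BB, ← mul_assoc, h', one_mul])
      · rw [hY', hB'] at h
        have h' : Y * B = t := h
        exact YneTB (by rw [← h', mul_assoc, BB, mul_one]))
    intro x hx h
    have hqq : q (q x) = x := by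
      clear h hx; revert x; decide
    have hq3 : 3 ≤ q x := by
      clear h hqq; revert hx; revert x; decide
    apply key (q x) hq3
    rw [map_mul, Perm.mul_apply, pB, hqq]
    exact h
  obtain ⟨w, hw12, hpw⟩ := twelve pY2 pYc pYq hfix hfq
  obtain ⟨sy, EY⟩ : ∃ sy : Bool, EV E Y sy w := EV.exists Ymem (by rw [hEp, ← hY', hpw])
  have hfin : Y = m := by
    rcases final_check w hw12 sy with h | h | h | h
    · exact absurd y5 (EV.ne (EV.com EY E1') EB h)
    · exact absurd y6 (EV.ne (EV.com EY E1) ET h)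
    · exact absurd y7 (EV.ne (EV.cub EY Er') EV.one h)
    · exact EY.eq hEi Em h
  rw [hfin] at hY
  have : m * ρ = ρ * m := by
    conv_lhs => rw [hY]
    rw [MulAut.conj_apply, mul_assoc, inv_mul_cancel, mul_one]
  exact this.symm

/-- **Relator (86).** -/
theorem rel86 (h44 : Rel44 a b c d e c1 c2 c3 c4 c5) (hat : a * a * a * a = t) (hzz : z * z = a * a)
    (K : TwoAn.Cover (Fin 11) (centralizer ({t} : Set G))) (hEi : Function.Injective E)
    (hEp : ∀ x, proj 11 (E x) = K.π x) (hKz : (K.z : G) = t)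
    (Ea : EV E a true (tf 0)) (Eb : EV E b true (tf 2)) (Ed : EV E d true (tf 6)) (Ef : EV E c5 true (tf 16))
    {sz : Bool} (Ez : EV E z sz (tf 46)) :
    z * x96 a b c d * z * x25 a b c d * (z⁻¹) * x129 a b c d * (z⁻¹) * x371 a b c d = 1 := by
  have h1 := comm_rho (y := (1 : G)) h44 hat K hEi hEp hKz Ea Eb Ed Ef Ez
  have Em := EVm Ez Eb Ed
  obtain ⟨m, hm⟩ : ∃ m, m = z⁻¹ * (b * d)⁻¹ * z * (b * d) := ⟨_, rfl⟩
  rw [← hm] at h1 Em
  have Ebab := EVD (z := z) (y := 1) (c := c) Ea Eb Ed Ef [2, 0, 3] rfl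
  have ma : m * a = a * m := (Em.mul Ea).eq hEi (Ea.mul Em) (by decide +kernel)
  have mb := (Em.mul Ebab).eq hEi (Ebab.mul Em) (by decide +kernel)
  have hx := hw (z := z) (y := (1 : G)) h44 (w := [2, 2, 1, 3, 1, 2, 2, 5, 0, 4, 1, 5, 6, 5, 2, 2, 1, 4, 2])
    (w' := [0, 6, 3, 5, 6, 0, 5, 2, 1, 3, 4, 3, 7, 5] ++ ([0] ++ [2, 0, 3])) (by decide +kernel)
  have hy := hw (z := z) (y := (1 : G)) h44 (w := [0, 0, 2, 6] ++ [2, 2, 1, 3, 1, 2, 2, 5, 0, 4, 1, 5, 6, 5, 2, 2, 1, 4, 2] ++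
    [7, 3, 1, 1] ++ [5, 1, 4, 2, 5, 7, 4, 1, 4, 0, 4, 3, 1, 3, 1, 2]) (w' := []) (by decide +kernel)
  have e25 : x25 a b c d = ev (gl a b c d c5 z 1) [2, 2, 1, 3, 1, 2, 2, 5, 0, 4, 1, 5, 6, 5, 2, 2, 1, 4, 2] := by
    simp [ev, gl, pow_two, mul_assoc]
  have e371 : x371 a b c d = ev (gl a b c d c5 z 1)
      [5, 1, 4, 2, 5, 7, 4, 1, 4, 0, 4, 3, 1, 3, 1, 2] := by
    simp [ev, gl, mul_assoc]
  have ea : ev (gl a b c d c5 z 1) [0] = a := by simp [ev, gl]
  have m25 : m * x25 a b c d = x25 a b c d * m := by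
    rw [e25, hx, ev_append, ev_append, ea]
    calc m * (ev (gl a b c d c5 z 1) [0, 6, 3, 5, 6, 0, 5, 2, 1, 3, 4, 3, 7, 5] * (a * ev (gl a b c d c5 z 1) [2, 0, 3]))
        = (m * ev (gl a b c d c5 z 1) [0, 6, 3, 5, 6, 0, 5, 2, 1, 3, 4, 3, 7, 5]) *
            (a * ev (gl a b c d c5 z 1) [2, 0, 3]) := by group
      _ = ev (gl a b c d c5 z 1) [0, 6, 3, 5, 6, 0, 5, 2, 1, 3, 4, 3, 7, 5] *
            ((m * a) * ev (gl a b c d c5 z 1) [2, 0, 3]) := by rw [← h1]; group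
      _ = ev (gl a b c d c5 z 1) [0, 6, 3, 5, 6, 0, 5, 2, 1, 3, 4, 3, 7, 5] *
            (a * (m * ev (gl a b c d c5 z 1) [2, 0, 3])) := by rw [ma]; group
      _ = ev (gl a b c d c5 z 1) [0, 6, 3, 5, 6, 0, 5, 2, 1, 3, 4, 3, 7, 5] *
            (a * ev (gl a b c d c5 z 1) [2, 0, 3]) * m := by rw [mb]; group
  rw [ev_append, ev_append, ev_append, ← e25, ← e371] at hy
  have e1 : ev (gl a b c d c5 z 1) [0, 0, 2, 6] = a * a * b * d := by simp [ev, gl, mul_assoc]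
  have e2 : ev (gl a b c d c5 z 1) [7, 3, 1, 1] = (a * a * b * d)⁻¹ := by simp [ev, gl, mul_assoc]
  have e3 : ev (gl a b c d c5 z 1) [] = 1 := rfl
  rw [e1, e2, e3] at hy
  have hg : z * (b * d) * z * m = a * a * b * d := by
    rw [hm, ← hzz]; group
  have hg' : z * (b * d) * z = a * a * b * d * m⁻¹ := by
    rw [← hg, mul_inv_cancel_right]
  have hfin : z * x96 a b c d * z * x25 a b c d * (z⁻¹) * x129 a b c d * (z⁻¹) * x371 a b c d =
      (z * (b * d) * z) * x25 a b c d * (z * (b * d) * z)⁻¹ * x371 a b c d := by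
    show z * (b * d) * z * x25 a b c d * (z⁻¹) * (d⁻¹ * b⁻¹) * (z⁻¹) * x371 a b c d = _
    group
  rw [hfin, hg']
  calc a * a * b * d * m⁻¹ * x25 a b c d * (a * a * b * d * m⁻¹)⁻¹ * x371 a b c d
      = a * a * b * d * (m⁻¹ * (x25 a b c d * m)) * (a * a * b * d)⁻¹ * x371 a b c d := by group
    _ = a * a * b * d * x25 a b c d * (a * a * b * d)⁻¹ * x371 a b c d := by rw [← m25]; group
    _ = 1 := hy

end Cfsg.Agent.R10.Rel86
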