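import Cfsg.Agent.R10.EndGlue
import Cfsg.Agent.R10.Rel86
import Cfsg.Agent.R10.ToHom
import Cfsg.Agent.Ly.T1

/-!
# All relators of the Lyons group

`Input` : elements `a, b, c, d, e, z, c₁, …, c₅` of a group of Lyons type with the relations 1–44 and 73–82, `a⁴ = t`,
and the images of `a, b, c₅, d, z` in `A₁₁`.  `relZ` : the relations 73–86 hold; `hom` : the homomorphism from the
presented Lyons group.
-/

set_option autoImplicit false
set_option linter.unusedSimpArgs false
set_option linter.unnecessarySimpa false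

namespace Cfsg.Agent.R10.EndAll

open Subgroup Equiv Cfsg.Agent.SporRec.TwoAn Cfsg.Agent.SporRec.LyType Cfsg.Agent.R10.CliffWord
  Cfsg.Agent.R10.CliffSign
open Cfsg.Agent.Ly.Mat7 Cfsg.Agent.Ly.Walk Cfsg.Agent.Ly.WalkData Cfsg.Agent.Ly.Pres Cfsg.Agent.Ly.WalkFacts
  Cfsg.Agent.Ly.WalkCtx
open Cfsg.Agent.R10.EndThree Cfsg.Agent.R10.ToHom Cfsg.Agent.SporRec.LyG2.Rel

variable {G : Type*} [Group G]

/-- Generators of a group of Lyons type: relations 1–44 and 73–82, and the images in `A₁₁`. -/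
structure Input (L : LyType G) (a b c d e z c1 c2 c3 c4 c5 : G) : Prop where
  rel : Rel44 a b c d e c1 c2 c3 c4 c5
  r73 : (z⁻¹ * c1 * z) * ((x162 a b c d)⁻¹) = 1
  r74 : (z⁻¹ * c2 * z) * ((x163 a b c d)⁻¹) = 1
  r75 : (z⁻¹ * c3 * z) * ((x164 a b c d)⁻¹) = 1
  r76 : (z⁻¹ * c4 * z) * ((x165 a b c d)⁻¹) = 1
  r77 : (z⁻¹ * c5 * z) * ((x166 a b c d)⁻¹) = 1
  r78 : (z⁻¹ * a * z) * ((x167 a b c d)⁻¹) = 1
  r79 : (z⁻¹ * ((b⁻¹)⁻¹ * a * (b⁻¹)) * z) * ((x168 a b c d)⁻¹) = 1
  r80 : (z⁻¹ * (((b ^ 2)⁻¹)⁻¹ * a * ((b ^ 2)⁻¹)) * z) * ((x169 a b c d)⁻¹) = 1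
  r81 : (z ^ 2) * ((a ^ 2)⁻¹) = 1
  r82 : ((((b ^ 2)⁻¹ * a * (b ^ 2)) * z) ^ 3) * (a ^ 2) = 1
  ht : a ^ 4 = L.t
  πa : ∃ A : centralizer ({L.t} : Set G), (A : G) = a ∧ ∀ i, L.K.π A i = pw wa i
  πb : ∃ A : centralizer ({L.t} : Set G), (A : G) = b ∧ ∀ i, L.K.π A i = pw wb i
  πe : ∃ A : centralizer ({L.t} : Set G), (A : G) = c5 ∧ ∀ i, L.K.π A i = pw we i
  πd : ∃ A : centralizer ({L.t} : Set G), (A : G) = d ∧ ∀ i, L.K.π A i = pw wd i
  πz : ∃ A : centralizer ({L.t} : Set G), (A : G) = z ∧ ∀ i, L.K.π A i = pw wz i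

variable {L : LyType G} {a b c d e z c1 c2 c3 c4 c5 : G}

omit [Group G] in
theorem X4_eq (a b c d z : G) : X4 (![a, b, c, d, z] : Fin 5 → G) = ![a, b, c, d] := by
  funext i
  fin_cases i <;> rfl

theorem frame_hz (I : Input L a b c d e z c1 c2 c3 c4 c5) :
    ∀ w ∈ relZ, FreeGroup.lift (![a, b, c, d, z] : Fin 5 → G) (FreeGroup.mk w) = 1 := by
  have h1 := mul_inv_eq_one.1 I.rel.r6
  have h2 := mul_inv_eq_one.1 I.rel.r7
  have h3 := mul_inv_eq_one.1 I.rel.r8
  have h4 := mul_inv_eq_one.1 I.rel.r9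
  have h5 := EndBase.c5_word I.rel
  have k1 := I.r73
  have k2 := I.r74
  have k3 := I.r75
  have k4 := I.r76
  have k5 := I.r77
  rw [h1] at k1
  rw [h2] at k2
  rw [h3] at k3
  rw [h4] at k4
  rw [h5] at k5
  intro w hw
  simp only [relZ, List.mem_cons, List.not_mem_nil, or_false] at hw
  have v0 : (![a, b, c, d, z] : Fin 5 → G) 0 = a := rfl
  have v1 : (![a, b, c, d, z] : Fin 5 → G) 1 = b := rfl
  have v2 : (![a, b, c, d, z] : Fin 5 → G) 2 = c := rfl
  have v3 : (![a, b, c, d, z] : Fin 5 → G) 3 = d := rfl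
  have v4 : (![a, b, c, d, z] : Fin 5 → G) 4 = z := rfl
  rcases hw with rfl | rfl | rfl | rfl | rfl | rfl | rfl | rfl | rfl | rfl
  · rw [rel73, ← k1]
    simp only [lift_cons, lift_nil, cond_true, cond_false, v0, v1, v2, v3, v4, x162, pow_succ, pow_zero, one_mul, mul_one,
      mul_inv_rev, inv_inv, mul_assoc]
  · rw [rel74, ← k2]
    simp only [lift_cons, lift_nil, cond_true, cond_false, v0, v1, v2, v3, v4, x163, pow_succ, pow_zero, one_mul, mul_one,
      mul_inv_rev, inv_inv, mul_assoc]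
  · rw [rel75, ← k3]
    simp only [lift_cons, lift_nil, cond_true, cond_false, v0, v1, v2, v3, v4, x164, pow_succ, pow_zero, one_mul, mul_one,
      mul_inv_rev, inv_inv, mul_assoc]
  · rw [rel76, ← k4]
    simp only [lift_cons, lift_nil, cond_true, cond_false, v0, v1, v2, v3, v4, x165, pow_succ, pow_zero, one_mul, mul_one,
      mul_inv_rev, inv_inv, mul_assoc]
  · rw [rel77, ← k5]
    simp only [lift_cons, lift_nil, cond_true, cond_false, v0, v1, v2, v3, v4, x166, pow_succ, pow_zero, one_mul, mul_one,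
      mul_inv_rev, inv_inv, mul_assoc]
  · rw [rel78, ← I.r78]
    simp only [lift_cons, lift_nil, cond_true, cond_false, v0, v1, v2, v3, v4, x167, pow_succ, pow_zero, one_mul, mul_one,
      mul_inv_rev, inv_inv, mul_assoc]
  · rw [rel79, ← I.r79]
    simp only [lift_cons, lift_nil, cond_true, cond_false, v0, v1, v2, v3, v4, x168, pow_succ, pow_zero, one_mul, mul_one,
      mul_inv_rev, inv_inv, mul_assoc]
  · rw [rel80, ← I.r80]
    simp only [lift_cons, lift_nil, cond_true, cond_false, v0, v1, v2, v3, v4, x169, pow_succ, pow_zero, one_mul, mul_one,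
      mul_inv_rev, inv_inv, mul_assoc]
  · rw [rel81, ← I.r81]
    simp only [lift_cons, lift_nil, cond_true, cond_false, v0, v1, v2, v3, v4, pow_succ, pow_zero, one_mul, mul_one,
      mul_inv_rev, inv_inv, mul_assoc]
  · rw [rel82, ← I.r82]
    simp only [lift_cons, lift_nil, cond_true, cond_false, v0, v1, v2, v3, v4, pow_succ, pow_zero, one_mul, mul_one,
      mul_inv_rev, inv_inv, mul_assoc]

/-- The frame of `EndThree`. -/
theorem Input.frame (I : Input L a b c d e z c1 c2 c3 c4 c5) : Frame L (![a, b, c, d, z] : Fin 5 → G) where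
  wp v w h := by
    rw [X4_eq]
    exact Cfsg.Agent.Ly.T1.ev_eq_of I.rel (word_eq h)
  hz := frame_hz I
  ht := I.ht
  a := I.πa
  b := I.πb
  e := by
    obtain ⟨A, hA, h⟩ := I.πe
    refine ⟨A, ?_, h⟩
    rw [hA, X4_eq, EndBase.c5_word I.rel]
    simp [ev, c5w, letter]
    group
  d := I.πd
  z := I.πz

/-- Relator (83). -/
theorem Input.r83 (I : Input L a b c d e z c1 c2 c3 c4 c5) :
    x47 a b c d * z * x364 a b c d * z * x368 a b c d * z = 1 := by
  have h := I.frame.rel83'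
  rw [X4_eq] at h
  have v4 : (![a, b, c, d, z] : Fin 5 → G) 4 = z := rfl
  simp only [v4, ev, List.map_cons, List.map_nil, List.prod_cons, List.prod_nil, letter, Matrix.cons_val] at h
  simp only [x47, x364, x368, pow_succ, pow_zero, one_mul, mul_one, mul_inv_rev, inv_inv, mul_assoc] at h ⊢
  exact h

/-- Relator (84). -/
theorem Input.r84 (I : Input L a b c d e z c1 c2 c3 c4 c5) :
    (z⁻¹) * x24 a b c d * (z⁻¹) * x369 a b c d * z * x23 a b c d * z * x29 a b c d = 1 := by
  have h := I.frame.rel84'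
  rw [X4_eq] at h
  have v4 : (![a, b, c, d, z] : Fin 5 → G) 4 = z := rfl
  simp only [v4, ev, List.map_cons, List.map_nil, List.prod_cons, List.prod_nil, letter, Matrix.cons_val] at h
  simp only [x23, x24, x29, x369, pow_succ, pow_zero, one_mul, mul_one, mul_inv_rev, inv_inv, mul_assoc] at h ⊢
  exact h

/-- Relator (85). -/
theorem Input.r85 (I : Input L a b c d e z c1 c2 c3 c4 c5) :
    z * x366 a b c d * z * x365 a b c d * (z⁻¹) * x367 a b c d * (z⁻¹) * x370 a b c d = 1 := by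
  have h := I.frame.rel85'
  rw [X4_eq] at h
  have v4 : (![a, b, c, d, z] : Fin 5 → G) 4 = z := rfl
  simp only [v4, ev, List.map_cons, List.map_nil, List.prod_cons, List.prod_nil, letter, Matrix.cons_val] at h
  simp only [x365, x366, x367, x370, pow_succ, pow_zero, one_mul, mul_one, mul_inv_rev, inv_inv, mul_assoc] at h ⊢
  exact h

/-! ### Relator (86) -/

open Cfsg.Agent.CharactersDeep.DoubleCover in
/-- The embedding of the centraliser in the double cover of `S₁₁` given by an evaluation. -/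
noncomputable def emb (v : Eval L.K) : centralizer ({L.t} : Set G) →* cover 11 :=
  (Cfsg.Agent.SporadicRecognition.AltCover.model 11).subtype.comp v.φ.symm.toMonoidHom

theorem emb_injective (v : Eval L.K) : Function.Injective (emb v) := by
  intro x y h
  exact v.φ.symm.injective (Subtype.ext h)

open Cfsg.Agent.CharactersDeep.DoubleCover in
theorem proj_emb (v : Eval L.K) (x : centralizer ({L.t} : Set G)) : proj 11 (emb v x) = L.K.π x := by
  have := v.π_φ (v.φ.symm x)
  rw [MulEquiv.apply_symm_apply] at this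
  exact this.symm

theorem lw_eq_val (w : List (Fin 11 × Fin 11)) : lw w = TCalc.val w := rfl

theorem EV_of (v : Eval L.K) {x : G} {w : List (Fin 11 × Fin 11)} (hw : ok w = true) (h : (v.val w : G) = x) :
    TEval.EV (emb v) x false w := by
  subst h
  refine ⟨(v.val w).2, ?_⟩
  rw [TCalc.sg_false, one_mul, ← lw_eq_val]
  have : (⟨(v.val w : G), (v.val w).2⟩ : centralizer ({L.t} : Set G)) = v.φ (el w) := rfl
  rw [this]
  show ((v.φ.symm (v.φ (el w)) : Cfsg.Agent.SporadicRecognition.AltCover.model 11) :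
    Cfsg.Agent.CharactersDeep.DoubleCover.cover 11) = _
  rw [MulEquiv.symm_apply_apply, coe_el hw]

/-- Relator (86). -/
theorem Input.r86 (I : Input L a b c d e z c1 c2 c3 c4 c5) :
    z * x96 a b c d * z * x25 a b c d * (z⁻¹) * x129 a b c d * (z⁻¹) * x371 a b c d = 1 := by
  obtain ⟨v⟩ := exists_eval L.K
  have F := I.frame
  have hat : a * a * a * a = L.t := by
    rw [← I.ht]
    simp only [pow_succ, pow_zero, one_mul]
  have hzz : z * z = a * a := by
    have := mul_inv_eq_one.1 I.r81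
    rw [pow_two, pow_two] at this
    exact this
  have Ea := (EV_of v (by decide) (F.exact_a v)).congr (s' := true) (w' := Rel86Base.tf 0) (by decide +kernel)
  have Eb := (EV_of v (by decide) (F.exact_b v)).congr (s' := true) (w' := Rel86Base.tf 2) (by decide +kernel)
  have Ed := (EV_of v (by decide) (F.exact_d v)).congr (s' := true) (w' := Rel86Base.tf 6) (by decide +kernel)
  have Ef := (EV_of v (by decide) (F.exact_e v)).congr (s' := true) (w' := Rel86Base.tf 16) (by decide +kernel)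
  have Ez := (EV_of v (by decide) (F.exact_z v)).congr (s' := true) (w' := Rel86Base.tf 46) (by decide +kernel)
  have e5 : Cfsg.Agent.Ly.Mat7.ev (X4 (![a, b, c, d, z] : Fin 5 → G)) c5w = c5 := by
    rw [X4_eq, EndBase.c5_word I.rel]
    simp [ev, c5w, letter]
    group
  rw [e5] at Ef
  exact Rel86.rel86 I.rel hat hzz L.K (emb_injective v) (proj_emb v) L.hz Ea Eb Ed Ef Ez

/-- **All relations 73–86.** -/
theorem Input.relZ (I : Input L a b c d e z c1 c2 c3 c4 c5) : RelZ a b c d z c1 c2 c3 c4 c5 where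
  r73 := I.r73
  r74 := I.r74
  r75 := I.r75
  r76 := I.r76
  r77 := I.r77
  r78 := I.r78
  r79 := I.r79
  r80 := I.r80
  r81 := I.r81
  r82 := I.r82
  r83 := I.r83
  r84 := I.r84
  r85 := I.r85
  r86 := I.r86

open Cfsg.Spor in
/-- The homomorphism from the presented Lyons group. -/
theorem Input.exists_hom (I : Input L a b c d e z c1 c2 c3 c4 c5) :
    ∃ φ : Cfsg.Spor.Ly →* G, φ (PresentedGroup.of Ly.Gen.a) = a ∧ φ (PresentedGroup.of Ly.Gen.b) = b ∧
      φ (PresentedGroup.of Ly.Gen.c) = c ∧ φ (PresentedGroup.of Ly.Gen.d) = d ∧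
      φ (PresentedGroup.of Ly.Gen.z) = z :=
  ⟨ToHom.hom I.rel I.relZ, ToHom.hom_a _ _, ToHom.hom_b _ _, ToHom.hom_c _ _, ToHom.hom_d _ _, ToHom.hom_z _ _⟩

/-- The same from the structures of `EndGlue`. -/
theorem input_of (h : Rel44 a b c d e c1 c2 c3 c4 c5) (k : EndGlue.Rel10 a b c d z c1 c2 c3 c4 c5)
    (f : EndGlue.Images L a b c5 d z) : Input L a b c d e z c1 c2 c3 c4 c5 where
  rel := h
  r73 := k.r73
  r74 := k.r74
  r75 := k.r75
  r76 := k.r76
  r77 := k.r77
  r78 := k.r78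
  r79 := k.r79
  r80 := k.r80
  r81 := k.r81
  r82 := k.r82
  ht := f.ht
  πa := f.a
  πb := f.b
  πe := f.e
  πd := f.d
  πz := f.z

/-- **All relations 73–86** from the structures of `EndGlue`. -/
theorem relZ_of (h : Rel44 a b c d e c1 c2 c3 c4 c5) (k : EndGlue.Rel10 a b c d z c1 c2 c3 c4 c5)
    (f : EndGlue.Images L a b c5 d z) : RelZ a b c d z c1 c2 c3 c4 c5 := (input_of h k f).relZ

end Cfsg.Agent.R10.EndAll
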