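import Cfsg.Agent.R10.CliffSign
import Cfsg.Agent.SporRec.TwoAn

/-!
# Words in an abstract double cover `2.A_11`

For `K : TwoAn.Cover (Fin 11) C` there is an isomorphism `φ : model 11 ≃* C` over `A_11`.
`el w` is the element of the model given by the word `w`; all relations between such elements
are decided by `good`.
-/

set_option autoImplicit false

namespace Cfsg.Agent.R10.CliffWord

open Cfsg.Agent.CharactersDeep.DoubleCover Cfsg.Agent.SporadicRecognition.AltCover Equiv
open Cfsg.Agent.SporRec.TwoAn Cfsg.Agent.R10.CliffSign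

variable {n : ℕ} {C : Type*} [Group C]

/-- the cover as a homomorphism onto the alternating group -/
def toAlt (K : Cover (Fin n) C) : C →* alternatingGroup (Fin n) :=
  K.π.codRestrict (alternatingGroup (Fin n)) K.mem_alternating

theorem coe_toAlt (K : Cover (Fin n) C) (x : C) : (toAlt K x : Perm (Fin n)) = K.π x := rfl

theorem isCover_toAlt (K : Cover (Fin n) C) (hn : 4 ≤ n) : IsCover (toAlt K) K.z where
  z_ne := K.z_ne
  z_mul := K.z_mul_z
  z_comm := K.z_comm
  surj := by
    rintro ⟨σ, hσ⟩
    obtain ⟨g, hg⟩ := K.exists_lift hσ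
    exact ⟨g, Subtype.ext hg⟩
  ker x := by
    rw [← K.ker x]
    constructor
    · intro h
      exact congrArg Subtype.val h
    · intro h
      exact Subtype.ext h
  nonsplit := by
    intro s hs
    have hmem : swap (⟨0, by omega⟩ : Fin n) ⟨1, by omega⟩ * swap ⟨2, by omega⟩ ⟨3, by omega⟩ ∈
        alternatingGroup (Fin n) :=
      Cover.swap_mul_swap_mem _ _ _ _ (by simp [Fin.ext_iff]) (by simp [Fin.ext_iff])
    have h1 := congrArg Subtype.val (hs ⟨_, hmem⟩)
    have h2 := K.dbl ⟨0, by omega⟩ ⟨1, by omega⟩ ⟨2, by omega⟩ ⟨3, by omega⟩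
      (by simp [Fin.ext_iff]) (by simp [Fin.ext_iff]) (by simp [Fin.ext_iff])
      (by simp [Fin.ext_iff]) (by simp [Fin.ext_iff]) (by simp [Fin.ext_iff]) _ h1
    have h3 : (⟨_, hmem⟩ : alternatingGroup (Fin n)) * ⟨_, hmem⟩ = 1 := by
      refine Subtype.ext ?_
      change swap (⟨0, by omega⟩ : Fin n) ⟨1, by omega⟩ * swap ⟨2, by omega⟩ ⟨3, by omega⟩ *
        (swap (⟨0, by omega⟩ : Fin n) ⟨1, by omega⟩ * swap ⟨2, by omega⟩ ⟨3, by omega⟩) = 1
      have hc : Commute (swap (⟨0, by omega⟩ : Fin n) ⟨1, by omega⟩)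
          (swap (⟨2, by omega⟩ : Fin n) ⟨3, by omega⟩) := by
        refine (Perm.disjoint_swap_swap ?_).commute
        simp [Fin.ext_iff]
      calc _ = (swap (⟨0, by omega⟩ : Fin n) ⟨1, by omega⟩ * swap ⟨0, by omega⟩ ⟨1, by omega⟩) *
          (swap ⟨2, by omega⟩ ⟨3, by omega⟩ * swap ⟨2, by omega⟩ ⟨3, by omega⟩) := by
            rw [mul_assoc, ← mul_assoc (swap (⟨2, by omega⟩ : Fin n) ⟨3, by omega⟩), ← hc.eq]
            group
        _ = 1 := by rw [swap_mul_self, swap_mul_self, one_mul]
    rw [← map_mul, h3, map_one] at h2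
    exact K.z_ne h2.symm

/-- An abstract double cover of `A_n` is isomorphic to the model over `A_n`. -/
theorem exists_equiv (K : Cover (Fin n) C) (hn : 5 ≤ n) :
    ∃ φ : model n ≃* C, (∀ x, K.π (φ x) = proj n (x : cover n)) ∧ φ (mz n) = K.z := by
  obtain ⟨e, he, hez⟩ := (isCover_toAlt K (by omega)).exists_model hn
  refine ⟨e.symm, fun x => ?_, ?_⟩
  · rw [← coe_mproj, ← coe_toAlt, ← he, MulEquiv.apply_symm_apply]
  · rw [← hez, MulEquiv.symm_apply_apply]

/-- an admissible word -/
def ok (w : List (Fin 11 × Fin 11)) : Bool :=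
  w.all (fun p => decide (p.1 ≠ p.2)) && decide (w.length % 2 = 0)

theorem ne_of_ok {w : List (Fin 11 × Fin 11)} (h : ok w = true) : ∀ p ∈ w, p.1 ≠ p.2 := by
  rw [ok, Bool.and_eq_true] at h
  intro p hp
  exact of_decide_eq_true (List.all_eq_true.1 h.1 p hp)

theorem sign_lw {w : List (Fin 11 × Fin 11)} (h : ∀ p ∈ w, p.1 ≠ p.2) :
    Perm.sign (proj 11 (lw w)) = (-1) ^ w.length := by
  induction w with
  | nil => rw [lw_nil, map_one, map_one, List.length_nil, pow_zero]
  | cons p w ih =>
    rw [lw_cons, map_mul, proj_T (h p List.mem_cons_self), Perm.sign_mul,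
      Perm.sign_swap (h p List.mem_cons_self), ih (fun q hq => h q (List.mem_cons_of_mem _ hq)),
      List.length_cons, pow_succ, mul_comm]

theorem lw_mem_model {w : List (Fin 11 × Fin 11)} (h : ok w = true) : lw w ∈ model 11 := by
  rw [mem_model, sign_lw (ne_of_ok h)]
  rw [ok, Bool.and_eq_true] at h
  exact Even.neg_one_pow (Nat.even_iff.2 (of_decide_eq_true h.2))

open Classical in
/-- the element of the model given by a word (junk value `1` for odd words) -/
noncomputable def el (w : List (Fin 11 × Fin 11)) : model 11 :=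
  if h : lw w ∈ model 11 then ⟨lw w, h⟩ else 1

theorem coe_el {w : List (Fin 11 × Fin 11)} (h : ok w = true) : (el w : cover 11) = lw w := by
  rw [el, dif_pos (lw_mem_model h)]

theorem el_mul {v w : List (Fin 11 × Fin 11)} (hv : ok v = true) (hw : ok w = true) :
    el v * el w = el (v ++ w) := by
  have hvw : lw (v ++ w) ∈ model 11 := by
    rw [lw_append]; exact mul_mem (lw_mem_model hv) (lw_mem_model hw)
  refine Subtype.ext ?_
  rw [Subgroup.coe_mul, coe_el hv, coe_el hw, el, dif_pos hvw]
  exact (lw_append v w).symm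

theorem ok_append {v w : List (Fin 11 × Fin 11)} (hv : ok v = true) (hw : ok w = true) :
    ok (v ++ w) = true := by
  rw [ok, Bool.and_eq_true] at hv hw ⊢
  refine ⟨?_, ?_⟩
  · rw [List.all_append, hv.1, hw.1]; rfl
  · have h1 := of_decide_eq_true hv.2
    have h2 := of_decide_eq_true hw.2
    rw [List.length_append]
    exact decide_eq_true (by omega)

theorem ok_reverse {w : List (Fin 11 × Fin 11)} (hw : ok w = true) : ok w.reverse = true := by
  rw [ok, Bool.and_eq_true] at hw ⊢
  rw [List.all_reverse, List.length_reverse]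
  exact hw

theorem el_inv {w : List (Fin 11 × Fin 11)} (hw : ok w = true) : (el w)⁻¹ = el w.reverse := by
  refine Subtype.ext ?_
  rw [Subgroup.coe_inv, coe_el hw, coe_el (ok_reverse hw), lw_reverse]

theorem el_eq {v w : List (Fin 11 × Fin 11)} (hv : ok v = true) (hw : ok w = true)
    (h : good (v ++ w.reverse) = true) : el v = el w := by
  refine Subtype.ext ?_
  rw [coe_el hv, coe_el hw, lw_eq_of_good h]

/-- the word of the central involution -/
def zw : List (Fin 11 × Fin 11) := [(1, 0), (0, 1)]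

theorem lw_zw : lw zw = zz 11 := by
  rw [zw, lw_cons, lw_cons, lw_nil, mul_one]
  change T (1 : Fin 11) 0 * T 0 1 = zz 11
  rw [T_symm (show (0 : Fin 11) ≠ 1 by decide), mul_assoc,
    T_mul_self (show (0 : Fin 11) ≠ 1 by decide), mul_one]

theorem el_zw : el zw = mz 11 := by
  refine Subtype.ext ?_
  rw [coe_el (by decide), lw_zw, coe_mz]

/-- An evaluation of words in the cover `K`. -/
structure Eval (K : Cover (Fin 11) C) where
  /-- the isomorphism with the model -/
  φ : model 11 ≃* C
  π_φ : ∀ x, K.π (φ x) = proj 11 (x : cover 11)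
  φ_mz : φ (mz 11) = K.z

theorem exists_eval (K : Cover (Fin 11) C) : Nonempty (Eval K) := by
  obtain ⟨φ, h1, h2⟩ := exists_equiv K (by norm_num)
  exact ⟨⟨φ, h1, h2⟩⟩

namespace Eval

variable {K : Cover (Fin 11) C} (e : Eval K)

/-- the value of a word -/
noncomputable def val (w : List (Fin 11 × Fin 11)) : C := e.φ (el w)

theorem val_mul {v w : List (Fin 11 × Fin 11)} (hv : ok v = true) (hw : ok w = true) :
    e.val v * e.val w = e.val (v ++ w) := by
  rw [val, val, ← map_mul, el_mul hv hw]; rfl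

theorem val_inv {w : List (Fin 11 × Fin 11)} (hw : ok w = true) :
    (e.val w)⁻¹ = e.val w.reverse := by
  rw [val, ← map_inv, el_inv hw]; rfl

theorem val_nil : e.val [] = 1 := by
  rw [val]
  have : el [] = 1 := Subtype.ext (by rw [coe_el (by decide), lw_nil]; rfl)
  rw [this, map_one]

theorem val_zw : e.val zw = K.z := by rw [val, el_zw, e.φ_mz]

theorem val_eq {v w : List (Fin 11 × Fin 11)} (hv : ok v = true) (hw : ok w = true)
    (h : good (v ++ w.reverse) = true) : e.val v = e.val w := by
  rw [val, val, el_eq hv hw h]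

theorem π_val {w : List (Fin 11 × Fin 11)} (hw : ok w = true) (x : Fin 11) :
    K.π (e.val w) x = pw w x := by
  rw [val, e.π_φ, coe_el hw, proj_lw (ne_of_ok hw)]

/-- powers of a word -/
def npow (w : List (Fin 11 × Fin 11)) : ℕ → List (Fin 11 × Fin 11)
  | 0 => []
  | k + 1 => npow w k ++ w

theorem ok_npow {w : List (Fin 11 × Fin 11)} (hw : ok w = true) (k : ℕ) :
    ok (npow w k) = true := by
  induction k with
  | zero => rfl
  | succ k ih => exact ok_append ih hw

theorem val_pow {w : List (Fin 11 × Fin 11)} (hw : ok w = true) (k : ℕ) :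
    e.val w ^ k = e.val (npow w k) := by
  induction k with
  | zero => rw [pow_zero, npow, e.val_nil]
  | succ k ih => rw [pow_succ, ih, e.val_mul (ok_npow hw k) hw, npow]

end Eval

end Cfsg.Agent.R10.CliffWord
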