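import Cfsg.Agent.SporRec.LyG2.Rel
import Cfsg.Agent.SporRec.LyType
import Cfsg.Agent.R10.CliffWord

/-!
# The image of `d` in `A₁₁`

If `a, b, c, d, …` satisfy the relations 1–44 in a group of Lyons type, `a⁴ = t`, and the images of `a`, `b`, `c₅` are
`(0 1)(6 8 9 7)`, `(0 1 2 3 4)`, `(5 6 7 8 9)` then the image of `d` is `(5 10)(7 8)`.
-/

set_option autoImplicit false
set_option linter.unusedSimpArgs false

namespace Cfsg.Agent.R10.PiD

open Subgroup Equiv Cfsg.Agent.SporRec.TwoAn Cfsg.Agent.SporRec.LyType Cfsg.Agent.SporRec.LyG2.Rel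

/-- image of `a` -/
def pa : Perm (Fin 11) := swap 0 1 * swap 6 8 * swap 8 9 * swap 9 7
/-- image of `b` -/
def pb : Perm (Fin 11) := swap 0 1 * swap 1 2 * swap 2 3 * swap 3 4
/-- image of `c₅` -/
def pc : Perm (Fin 11) := swap 5 6 * swap 6 7 * swap 7 8 * swap 8 9
/-- image of `d` -/
def pd : Perm (Fin 11) := swap 10 5 * swap 7 8

/-- tables -/
def fa : Fin 11 → Fin 11 := fun x => pa x
/-- tables -/
def fb : Fin 11 → Fin 11 := fun x => pb x
/-- tables -/
def fc : Fin 11 → Fin 11 := fun x => pc x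
/-- inverse table -/
def fc' : Fin 11 → Fin 11 := fun x => pc⁻¹ x

/-- the function determined by the values at `0`, `6`, `5`, `10` -/
def fn (u v w s : Fin 11) : Fin 11 → Fin 11 :=
  ![u, fb u, fb (fb u), fb (fb (fb u)), fb (fb (fb (fb u))), w, v, fa v, fa (fa (fa v)), fa (fa v), s]

/-- the second candidate -/
def pd' : Perm (Fin 11) := swap 6 8 * swap 7 9

/-- the admissible values -/
def adm (u v w s : Fin 11) : Bool :=
  (List.finRange 11).all (fun x => decide (fn u v w s (fn u v w s x) = x)) &&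
  (List.finRange 11).all (fun x => decide (fn u v w s (fb x) = fb (fn u v w s x))) &&
  (List.finRange 11).all (fun x => decide (fn u v w s (fc (fn u v w s (fc' (fn u v w s (fc x))))) = fa (fa x)))

set_option maxRecDepth 100000 in
theorem adm_spec : ∀ u v w s : Fin 11, adm u v w s = true →
    (∀ x, fn u v w s x = pd x) ∨ (∀ x, fn u v w s x = pd' x) := by
  decide +kernel

/-- a permutation with these relations is one of two -/
theorem eq_pd {δ : Perm (Fin 11)} (h2 : δ * δ = 1) (hb : pb * δ = δ * pb) (ha : pa * δ = δ * pa ^ 3)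
    (hc : δ * pc * δ * pc⁻¹ * δ * pc = pa ^ 2) : δ = pd ∨ δ = pd' := by
  have kb : ∀ x, δ (fb x) = fb (δ x) := fun x => (congrArg (fun f : Perm (Fin 11) => f x) hb).symm
  have ka : ∀ x, fa (δ x) = δ (fa (fa (fa x))) := fun x => by
    have := congrArg (fun f : Perm (Fin 11) => f x) ha
    simp only [Perm.mul_apply, pow_succ, pow_zero, Perm.one_apply] at this
    exact this
  have kc : ∀ x, δ (fc (δ (fc' (δ (fc x))))) = fa (fa x) := fun x => by
    have := congrArg (fun f : Perm (Fin 11) => f x) hc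
    simp only [Perm.mul_apply, pow_succ, pow_zero, Perm.one_apply] at this
    exact this
  have k2 : ∀ x, δ (δ x) = x := fun x => congrArg (fun f : Perm (Fin 11) => f x) h2
  have hfn : ∀ x, fn (δ 0) (δ 6) (δ 5) (δ 10) x = δ x := by
    have e1 : δ 1 = fb (δ 0) := kb 0
    have e2 : δ 2 = fb (δ 1) := kb 1
    have e3 : δ 3 = fb (δ 2) := kb 2
    have e4 : δ 4 = fb (δ 3) := kb 3
    have e7 : δ 7 = fa (δ 6) := (ka 6).symm
    have e9 : δ 9 = fa (δ 7) := (ka 7).symm
    have e8 : δ 8 = fa (δ 9) := (ka 9).symm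
    intro x
    fin_cases x
    · rfl
    · exact e1.symm
    · show fb (fb (δ 0)) = δ 2; rw [e2, e1]
    · show fb (fb (fb (δ 0))) = δ 3; rw [e3, e2, e1]
    · show fb (fb (fb (fb (δ 0)))) = δ 4; rw [e4, e3, e2, e1]
    · rfl
    · rfl
    · exact e7.symm
    · show fa (fa (fa (δ 6))) = δ 8; rw [e8, e9, e7]
    · show fa (fa (δ 6)) = δ 9; rw [e9, e7]
    · rfl
  have key : adm (δ 0) (δ 6) (δ 5) (δ 10) = true := by
    rw [adm]
    simp only [Bool.and_eq_true, List.all_eq_true, List.mem_finRange, forall_const, decide_eq_true_eq, hfn]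
    exact ⟨⟨k2, kb⟩, kc⟩
  rcases adm_spec _ _ _ _ key with h | h
  · exact Or.inl (Perm.ext fun x => by rw [← hfn x, h])
  · exact Or.inr (Perm.ext fun x => by rw [← hfn x, h])

/-! ### The sign -/

section sign

open Cfsg.Agent.R10.CliffWord Cfsg.Agent.R10.CliffSign Cfsg.Agent.R10.CliffWord.Eval

/-- lift of `a` -/
def wa : List (Fin 11 × Fin 11) := [(0, 1), (6, 8), (8, 9), (9, 7)]
/-- lift of the second candidate -/
def wd' : List (Fin 11 × Fin 11) := [(6, 8), (7, 9)]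

theorem good_sign : good ((wd'.reverse ++ wa ++ wd') ++ (npow wa 3 ++ zw).reverse) = true := by
  decide +kernel

variable {C : Type*} [Group C] {K : Cover (Fin 11) C}

theorem lift_word (ev : Eval K) {w : List (Fin 11 × Fin 11)} (hw : ok w = true) {g : C}
    (hg : ∀ x, K.π g x = pw w x) :
    ∃ ζ : C, (∀ h : C, h * ζ = ζ * h) ∧ ζ * ζ = 1 ∧ g = ev.val w * ζ := by
  have h1 : K.π g = K.π (ev.val w) := Perm.ext fun x => by rw [hg, ev.π_val hw]
  rcases K.lift_eq h1 with h | h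
  · exact ⟨1, fun h => by rw [mul_one, one_mul], mul_one 1, by rw [h, mul_one]⟩
  · exact ⟨K.z, fun h => K.z_comm h, K.z_mul_z, h⟩

theorem false_of_sign {ga gd : C} (ha : K.π ga = pa) (hd : K.π gd = pd') (hrel : gd⁻¹ * ga * gd = ga ^ 3) :
    False := by
  obtain ⟨ev⟩ := exists_eval K
  obtain ⟨ζ, hζ, hζζ, rfl⟩ := lift_word ev (w := wa) rfl (g := ga) (fun x => by rw [ha]; revert x; decide)
  obtain ⟨δ, hδ, -, rfl⟩ := lift_word ev (w := wd') rfl (g := gd) (fun x => by rw [hd]; revert x; decide)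
  have h1 : (ev.val wd' * δ)⁻¹ * (ev.val wa * ζ) * (ev.val wd' * δ) =
      (ev.val wd')⁻¹ * ev.val wa * ev.val wd' * ζ := by
    calc (ev.val wd' * δ)⁻¹ * (ev.val wa * ζ) * (ev.val wd' * δ)
        = δ⁻¹ * ((ev.val wd')⁻¹ * ev.val wa * (ζ * ev.val wd') * δ) := by group
      _ = δ⁻¹ * ((ev.val wd')⁻¹ * ev.val wa * (ev.val wd' * ζ) * δ) := by rw [hζ]
      _ = δ⁻¹ * (δ * ((ev.val wd')⁻¹ * ev.val wa * (ev.val wd' * ζ))) := by rw [hδ]
      _ = _ := by group
  have h2 : (ev.val wa * ζ) ^ 3 = ev.val wa ^ 3 * ζ := by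
    have hc : Commute (ev.val wa) ζ := hζ _
    rw [hc.mul_pow, pow_succ ζ 2, pow_two, hζζ, one_mul]
  rw [h1, h2] at hrel
  have h3 := mul_right_cancel hrel
  have h4 : (ev.val wd')⁻¹ * ev.val wa * ev.val wd' = ev.val (wd'.reverse ++ wa ++ wd') := by
    rw [ev.val_inv (w := wd') rfl, ev.val_mul (v := wd'.reverse) (w := wa) rfl rfl,
      ev.val_mul (v := wd'.reverse ++ wa) (w := wd') rfl rfl]
  have h5 : ev.val wa ^ 3 * K.z = ev.val (npow wa 3 ++ zw) := by
    rw [ev.val_pow (w := wa) rfl, ← ev.val_zw, ev.val_mul (v := npow wa 3) (w := zw) rfl rfl]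
  have h6 : ev.val (wd'.reverse ++ wa ++ wd') = ev.val (npow wa 3 ++ zw) := ev.val_eq rfl rfl good_sign
  rw [← h4, ← h5, h3] at h6
  exact K.mul_z_ne _ h6.symm

end sign

variable {G : Type*} [Group G] {L : LyType G} {a b c d e c1 c2 c3 c4 c5 : G}

theorem d_comm (h : Rel44 a b c d e c1 c2 c3 c4 c5) (ht : a ^ 4 = L.t) : d * L.t = L.t * d := by
  have h1 := mul_inv_eq_one.1 h.r40
  rw [← ht, ← h1]
  rw [← pow_succ, ← pow_succ']

/-- The image of `d`. -/
theorem π_d (h : Rel44 a b c d e c1 c2 c3 c4 c5) (ht : a ^ 4 = L.t) (ca : a * L.t = L.t * a)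
    (cb : b * L.t = L.t * b) (cc : c5 * L.t = L.t * c5) (cd : d * L.t = L.t * d)
    (ha : L.K.π ⟨a, L.mem_iff.2 ca⟩ = pa) (hb : L.K.π ⟨b, L.mem_iff.2 cb⟩ = pb)
    (hc : L.K.π ⟨c5, L.mem_iff.2 cc⟩ = pc) : L.K.π ⟨d, L.mem_iff.2 cd⟩ = pd := by
  let A : centralizer ({L.t} : Set G) := ⟨a, L.mem_iff.2 ca⟩
  let B : centralizer ({L.t} : Set G) := ⟨b, L.mem_iff.2 cb⟩
  let C : centralizer ({L.t} : Set G) := ⟨c5, L.mem_iff.2 cc⟩
  let D : centralizer ({L.t} : Set G) := ⟨d, L.mem_iff.2 cd⟩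
  have hA : L.K.π A = pa := ha
  have hB : L.K.π B = pb := hb
  have hC : L.K.π C = pc := hc
  have r40 : D * D = L.K.z := Subtype.ext (by
    show d * d = (L.K.z : G)
    rw [L.hz, ← ht, ← mul_inv_eq_one.1 h.r40, pow_two])
  have r41 : B⁻¹ * D⁻¹ * B * D = 1 := Subtype.ext h.r41
  have r42 : D⁻¹ * A * D = A ^ 3 := Subtype.ext (mul_inv_eq_one.1 h.r42)
  have r44 : D * C * D * C⁻¹ * D * C = A ^ 2 := Subtype.ext (mul_inv_eq_one.1 h.r44)
  show L.K.π D = pd
  have k40 := congrArg L.K.π r40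
  have k41 := congrArg L.K.π r41
  have k42 := congrArg L.K.π r42
  have k44 := congrArg L.K.π r44
  simp only [map_mul, map_inv, map_pow, map_one, hA, hB, hC, L.K.π_z] at k40 k41 k42 k44
  have key : L.K.π D = pd ∨ L.K.π D = pd' := by
    generalize L.K.π D = δ at k40 k41 k42 k44
    refine eq_pd k40 ?_ ?_ k44
    · have : pb * δ = δ * pb * (pb⁻¹ * δ⁻¹ * pb * δ) := by group
      rw [this, k41, mul_one]
    · rw [← k42]; group
  rcases key with h1 | h1
  · exact h1
  · exact (false_of_sign hA h1 r42).elim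

end Cfsg.Agent.R10.PiD
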