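import Cfsg.Agent.R10.NGenMain
import Cfsg.Agent.SporRec.LyHexFinal

/-!
Relations 1–44 from the generators of `N_G(⟨f⟩)`.
-/

set_option autoImplicit false
set_option linter.dupNamespace false

namespace Cfsg.Agent.R10.Rel44Of

open Subgroup Equiv Cfsg.Agent.SporRec.TwoAn Cfsg.Agent.SporRec.LyType Cfsg.Agent.SporRec.LyFive
open Cfsg.Agent.SporRec.LyHexOf Cfsg.Agent.SporRec.LyG2.Rel Cfsg.Agent.R10.NGenMain

variable {G : Type*} [Group G] {L : LyType G} {F : LyFive L} {a b c z : G}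

theorem f_ne (F : LyFive L) : F.f ≠ 1 := by
  intro h
  have e : (⟨F.f, L.mem_iff.2 F.f_comm⟩ : centralizer ({L.t} : Set G)) = 1 := Subtype.ext h
  have k := F.f_cycle
  rw [e, map_one, Perm.cycleType_one] at k
  exact absurd k (by decide)

theorem data28 (k : NGen F a b c z) :
    Data28 F a b c (a⁻¹ * c * a) (b⁻¹ * c * b) ((b⁻¹)⁻¹ * c * (b⁻¹)) F.f where
  rel := k.rel28
  ka := k.ca
  kb := k.cb
  k5 := F.f_comm
  a4 := k.a4
  mc := k.cE
  m5 := mem_zpowers _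
  c5_ne := f_ne F
  πa := k.πa
  πb := k.πb
  π5 := k.πf

/-- **Relations 1–44** from the generators of `N_G(⟨f⟩)`. -/
theorem exists_rel44_of_nGen [Finite G] (k : NGen F a b c z) :
    ∃ d e : G, Rel44 a b c d e c (a⁻¹ * c * a) (b⁻¹ * c * b) ((b⁻¹)⁻¹ * c * (b⁻¹)) F.f ∧
      ∃ hd : d * L.t = L.t * d, L.K.π ⟨d, L.mem_iff.2 hd⟩ = swap 5 10 * swap 7 8 :=
  Cfsg.Agent.SporRec.LyHexFinal.exists_rel44 (data28 k)

end Cfsg.Agent.R10.Rel44Of
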