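import Cfsg.Agent.R10.NGenMain
import Cfsg.Agent.R10.PiD
import Cfsg.Agent.R10.EndAll
import Cfsg.Agent.R10.Rel44Of

/-!
# Recognition of the Lyons group: the homomorphism
-/

set_option autoImplicit false

namespace Cfsg.Agent.R10.Final

open Subgroup Equiv Cfsg.Agent.SporRec.TwoAn Cfsg.Agent.SporRec.LyType Cfsg.Agent.SporRec.LyFive
  Cfsg.Agent.R10.NGenMain Cfsg.Agent.SporRec.LyG2.Rel Cfsg.Agent.SporRec.LyG2.Rel28
  Cfsg.Agent.R10.EndGlue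

variable {G : Type*} [Group G] {L : LyType G} {F : LyFive L} {a b c z : G}

theorem rel10 (h : NGen F a b c z) (d : G) :
    Rel10 a b c d z c (a⁻¹ * c * a) (b⁻¹ * c * b) ((b⁻¹)⁻¹ * c * (b⁻¹)) F.f where
  r73 := h.r73 d
  r74 := h.r74 d
  r75 := h.r75 d
  r76 := h.r76 d
  r77 := h.r77 d
  r78 := h.r78 d
  r79 := h.r79 d
  r80 := h.r80 d
  r81 := h.r81
  r82 := h.r82

theorem images (h : NGen F a b c z) {d e c1 c2 c3 c4 : G} (h44 : Rel44 a b c d e c1 c2 c3 c4 F.f) :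
    Images L a b F.f d z where
  ht := h.a4
  a := ⟨⟨a, L.mem_iff.2 h.ca⟩, rfl, fun i => by rw [h.πa]; revert i; decide⟩
  b := ⟨⟨b, L.mem_iff.2 h.cb⟩, rfl, fun i => by rw [h.πb]; revert i; decide⟩
  e := ⟨⟨F.f, L.mem_iff.2 F.f_comm⟩, rfl, fun i => by rw [h.πf]; revert i; decide⟩
  d := ⟨⟨d, L.mem_iff.2 (PiD.d_comm h44 h.a4)⟩, rfl, fun i => by
    rw [PiD.π_d h44 h.a4 h.ca h.cb F.f_comm (PiD.d_comm h44 h.a4) h.πa h.πb h.πf]; revert i; decide⟩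
  z := ⟨⟨z, L.mem_iff.2 h.cz⟩, rfl, fun i => by rw [h.πz]; revert i; decide⟩

/-- The homomorphism from the Lyons group. -/
theorem exists_hom (h : NGen F a b c z) {d e : G}
    (h44 : Rel44 a b c d e c (a⁻¹ * c * a) (b⁻¹ * c * b) ((b⁻¹)⁻¹ * c * (b⁻¹)) F.f) :
    ∃ φ : Cfsg.Spor.Ly →* G, φ ≠ 1 := by
  obtain ⟨φ, ha, -⟩ := (EndAll.input_of h44 (rel10 h d) (images h h44)).exists_hom
  refine ⟨φ, fun h1 => ?_⟩
  rw [h1, MonoidHom.one_apply] at ha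
  have h2 := h.a4
  rw [← ha, one_pow] at h2
  exact L.K.z_ne (Subtype.ext (L.hz.trans h2.symm))

end Cfsg.Agent.R10.Final
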