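import Cfsg.Agent.R10.TCalc
import Cfsg.Agent.SporadicRecognition.CosetCert

/-!
# Exact evaluation of words in the centraliser of an involution which is a double cover of `A_n`

`exists_E` : the embedding of a double cover of `A_n` into the Clifford double cover of `S_n`.
`EV E x s w` : `x` lies in the centraliser and has value `sg s * val w`.
-/

set_option autoImplicit false

namespace Cfsg.Agent.R10.TEval

open Equiv Subgroup
open Cfsg.Agent.CharactersDeep.DoubleCover
open Cfsg.Agent.SporadicRecognition.AltCover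
open Cfsg.Agent.SporadicRecognition.CosetCert (ev ev_nil ev_cons ev_append)
open Cfsg.Agent.R10.TCalc
open Cfsg.Agent.SporRec

/-- The embedding into the Clifford model. -/
theorem exists_E {n : ℕ} (hn : 5 ≤ n) {C : Type*} [Group C] (K : TwoAn.Cover (Fin n) C) :
    ∃ E : C →* cover n, Function.Injective E ∧ (∀ x, proj n (E x) = K.π x) ∧ E K.z = zz n := by
  have h : IsCover (K.π.codRestrict (alternatingGroup (Fin n)) K.mem_alternating) K.z := by
    refine ⟨K.z_ne, K.z_mul_z, K.z_comm, ?_, ?_, ?_⟩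
    · rintro ⟨σ, hσ⟩
      obtain ⟨g, hg⟩ := K.exists_lift hσ
      exact ⟨g, Subtype.ext hg⟩
    · intro x
      rw [← K.ker x, Subtype.ext_iff]
      rfl
    · intro s hs
      obtain ⟨k, rfl⟩ : ∃ k, n = k + 4 := ⟨n - 4, by omega⟩
      have hne : ∀ i j : ℕ, i < 4 → j < 4 → i ≠ j → (Fin.ofNat (k + 4) i) ≠ Fin.ofNat (k + 4) j := by
        intro i j hi hj hij h
        have := congrArg Fin.val h
        simp only [Fin.ofNat, Nat.mod_eq_of_lt (show i < k + 4 by omega),
          Nat.mod_eq_of_lt (show j < k + 4 by omega)] at this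
        exact hij this
      generalize ha : Fin.ofNat (k + 4) 0 = a
      generalize hb : Fin.ofNat (k + 4) 1 = b
      generalize hc : Fin.ofNat (k + 4) 2 = c
      generalize hd : Fin.ofNat (k + 4) 3 = d
      have hab : a ≠ b := by rw [← ha, ← hb]; exact hne _ _ (by omega) (by omega) (by omega)
      have hac : a ≠ c := by rw [← ha, ← hc]; exact hne _ _ (by omega) (by omega) (by omega)
      have had : a ≠ d := by rw [← ha, ← hd]; exact hne _ _ (by omega) (by omega) (by omega)
      have hbc : b ≠ c := by rw [← hb, ← hc]; exact hne _ _ (by omega) (by omega) (by omega)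
      have hbd : b ≠ d := by rw [← hb, ← hd]; exact hne _ _ (by omega) (by omega) (by omega)
      have hcd : c ≠ d := by rw [← hc, ← hd]; exact hne _ _ (by omega) (by omega) (by omega)
      have hmem := TwoAn.Cover.swap_mul_swap_mem a b c d hab hcd
      have hsq : (⟨_, hmem⟩ : alternatingGroup (Fin (k + 4))) * ⟨_, hmem⟩ = 1 := by
        apply Subtype.ext
        have hd1 : Commute (swap a b) (swap c d) :=
          (Perm.disjoint_swap_swap (by simp [hab, hac, had, hbc, hbd, hcd])).commute
        change swap a b * swap c d * (swap a b * swap c d) = 1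
        rw [mul_assoc, ← mul_assoc (swap c d), ← hd1.eq, mul_assoc, swap_mul_self, mul_one, swap_mul_self]
      have h1 := K.dbl a b c d hab hac had hbc hbd hcd (s ⟨_, hmem⟩) (congrArg Subtype.val (hs ⟨_, hmem⟩))
      rw [← map_mul, hsq, map_one] at h1
      exact K.z_ne h1.symm
  obtain ⟨e, he, hez⟩ := h.exists_model hn
  refine ⟨(model n).subtype.comp e.toMonoidHom, ?_, ?_, ?_⟩
  · intro x y hxy
    exact e.injective (Subtype.ext hxy)
  · intro x
    have := congrArg Subtype.val (he x)
    rw [coe_mproj] at this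
    exact this
  · show ((e K.z : model n) : cover n) = _
    rw [hez, coe_mz]

variable {n : ℕ} {G : Type*} [Group G] {t : G} (E : centralizer ({t} : Set G) →* cover n)

/-- `x` lies in the centraliser of `t` and has value `sg s * val w` -/
def EV (x : G) (s : Bool) (w : List (Fin n × Fin n)) : Prop :=
  ∃ hx : x ∈ centralizer ({t} : Set G), E ⟨x, hx⟩ = sg s * val w

variable {E}

theorem EV.mem {x : G} {s : Bool} {w : List (Fin n × Fin n)} (h : EV E x s w) : x ∈ centralizer ({t} : Set G) :=
  h.1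

theorem EV.one : EV E (1 : G) false [] := by
  refine ⟨one_mem _, ?_⟩
  have : (⟨1, one_mem _⟩ : centralizer ({t} : Set G)) = 1 := rfl
  rw [this, map_one, sg_false, val_nil, one_mul]

theorem EV.mul {x y : G} {s s' : Bool} {w w' : List (Fin n × Fin n)} (h : EV E x s w) (h' : EV E y s' w') :
    EV E (x * y) (xor s s') (w ++ w') := by
  obtain ⟨hx, h1⟩ := h
  obtain ⟨hy, h2⟩ := h'
  refine ⟨mul_mem hx hy, ?_⟩
  have : (⟨x * y, mul_mem hx hy⟩ : centralizer ({t} : Set G)) = ⟨x, hx⟩ * ⟨y, hy⟩ := rfl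
  rw [this, map_mul, h1, h2, val_append, ← sg_mul]
  rw [mul_assoc, ← mul_assoc (val w), sg_comm, mul_assoc, mul_assoc]

theorem EV.inv {x : G} {s : Bool} {w : List (Fin n × Fin n)} (h : EV E x s w) : EV E x⁻¹ s w.reverse := by
  obtain ⟨hx, h1⟩ := h
  refine ⟨inv_mem hx, ?_⟩
  have : (⟨x⁻¹, inv_mem hx⟩ : centralizer ({t} : Set G)) = ⟨x, hx⟩⁻¹ := rfl
  rw [this, map_inv, h1, val_reverse, mul_inv_rev, sg_inv, sg_comm]

/-- sign of a word -/
def wsg (s : ℕ → Bool) (w : List ℕ) : Bool := w.foldr (fun k r => xor (s k) r) false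

/-- transposition word of a word -/
def wtw (f : ℕ → List (Fin n × Fin n)) (w : List ℕ) : List (Fin n × Fin n) := w.flatMap f

theorem EV.word {g : ℕ → G} {s : ℕ → Bool} {f : ℕ → List (Fin n × Fin n)} (w : List ℕ)
    (h : ∀ k ∈ w, EV E (g k) (s k) (f k)) : EV E (ev g w) (wsg s w) (wtw f w) := by
  induction w with
  | nil => exact EV.one
  | cons k w ih =>
    rw [ev_cons]
    exact (h k List.mem_cons_self).mul (ih fun j hj => h j (List.mem_cons_of_mem _ hj))

/-- changing the word -/
theorem EV.congr {x : G} {s s' : Bool} {w w' : List (Fin n × Fin n)} (h : EV E x s w)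
    (h' : (xor s (nf w).1, (nf w).2) = (xor s' (nf w').1, (nf w').2)) : EV E x s' w' := by
  obtain ⟨hx, h1⟩ := h
  refine ⟨hx, ?_⟩
  rw [Prod.mk.injEq] at h'
  rw [h1, val_eq w, val_eq w', ← mul_assoc, ← mul_assoc, sg_mul, sg_mul, h'.1, h'.2]

/-- equality from the computation -/
theorem EV.eq (hE : Function.Injective E) {x y : G} {s s' : Bool} {w w' : List (Fin n × Fin n)} (h : EV E x s w)
    (h2 : EV E y s' w') (h' : (xor s (nf w).1, (nf w).2) = (xor s' (nf w').1, (nf w').2)) : x = y := by
  obtain ⟨hx, h1⟩ := h.congr h'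
  obtain ⟨hy, h3⟩ := h2
  exact congrArg Subtype.val (hE (h1.trans h3.symm))

/-- signs from equality -/
theorem EV.sign {x y : G} {s s' : Bool} {w w' : List (Fin n × Fin n)} (h : EV E x s w) (h2 : EV E y s' w')
    (hxy : x = y) (h' : (nf w).2 = (nf w').2) (hz : zz n ≠ 1) : xor s (nf w).1 = xor s' (nf w').1 := by
  subst hxy
  obtain ⟨hx, h1⟩ := h
  obtain ⟨_, h3⟩ := h2
  rw [h1, val_eq w, val_eq w', ← mul_assoc, ← mul_assoc, sg_mul, sg_mul, h'] at h3
  exact sg_injective (mul_right_cancel h3) hz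

/-- values up to sign from the permutation -/
theorem EV.exists {x : G} (hx : x ∈ centralizer ({t} : Set G)) {w : List (Fin n × Fin n)}
    (h : proj n (E ⟨x, hx⟩) = pm w) : ∃ s : Bool, EV E x s w := by
  obtain ⟨s, hs⟩ := exists_sign h
  exact ⟨s, hx, hs⟩

theorem EV.proj {x : G} {s : Bool} {w : List (Fin n × Fin n)} (h : EV E x s w) : proj n (E ⟨x, h.1⟩) = pm w := by
  obtain ⟨hx, h1⟩ := h
  rw [h1, map_mul, proj_sg, one_mul, proj_val]

end Cfsg.Agent.R10.TEval
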