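import Cfsg.Agent.SporadicRecognition.AltCover

/-!
# Deciding signs in the double cover `2.S_11`

`lw w` is the product of the lifts `T i j` along a word `w`.  `Good w` is a kernel decidable
criterion for `lw w = 1`: the permutation is trivial, and the coefficient of the vacuum vector,
computed with bit-sliced vectors over `ZMod 3` of length `2 ^ 11`, is `1`.
-/

set_option autoImplicit false

namespace Cfsg.Agent.R10.CliffSign

open Cfsg.Agent.CharactersDeep.DoubleCover Cfsg.Agent.SporadicRecognition.AltCover Equiv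

/-! ### bit tricks -/

theorem xor_two_pow_of_false : ∀ (i m : ℕ), m.testBit i = false → m ^^^ 2 ^ i = m + 2 ^ i := by
  intro i
  induction i with
  | zero =>
    intro m hm
    have h0 : m % 2 = 0 := by
      rw [Nat.testBit_zero] at hm
      simpa using hm
    have h1 : (m ^^^ 2 ^ 0) / 2 = m / 2 := by
      have := Nat.xor_div_two_pow (a := m) (b := 2 ^ 0) (n := 1)
      simpa using this
    have h2 : (m ^^^ 2 ^ 0) % 2 = 1 := by
      have := Nat.xor_mod_two_pow (a := m) (b := 2 ^ 0) (n := 1)
      rw [pow_one] at this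
      rw [this, h0]
      rfl
    have h3 := Nat.div_add_mod (m ^^^ 2 ^ 0) 2
    have h4 := Nat.div_add_mod m 2
    rw [h1, h2] at h3
    rw [← h3]
    omega
  | succ i ih =>
    intro m hm
    have h1 : (m ^^^ 2 ^ (i + 1)) / 2 = m / 2 ^^^ 2 ^ i := by
      have := Nat.xor_div_two_pow (a := m) (b := 2 ^ (i + 1)) (n := 1)
      rw [pow_one] at this
      rw [this, pow_succ, Nat.mul_div_cancel _ (by norm_num)]
    have h2 : (m ^^^ 2 ^ (i + 1)) % 2 = m % 2 := by
      have := Nat.xor_mod_two_pow (a := m) (b := 2 ^ (i + 1)) (n := 1)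
      rw [pow_one] at this
      rw [this, pow_succ, Nat.mul_mod_left, Nat.xor_zero]
    have h5 : (m / 2).testBit i = false := by
      rw [← Nat.testBit_succ]; exact hm
    rw [ih _ h5] at h1
    have h3 := Nat.div_add_mod (m ^^^ 2 ^ (i + 1)) 2
    have h4 := Nat.div_add_mod m 2
    rw [h1, h2] at h3
    rw [← h3, pow_succ]
    omega

theorem xor_two_pow_of_true {i m : ℕ} (hm : m.testBit i = true) : m ^^^ 2 ^ i = m - 2 ^ i := by
  have h1 : (m ^^^ 2 ^ i).testBit i = false := by
    rw [Nat.testBit_xor, hm, Nat.testBit_two_pow_self]; rfl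
  have h2 := xor_two_pow_of_false i _ h1
  rw [Nat.xor_assoc, Nat.xor_self, Nat.xor_zero] at h2
  omega

/-! ### bit-sliced vectors -/

/-- value of a pair of bits -/
def cf (b c : Bool) : ZMod 3 := if b then (if c then 0 else 1) else (if c then -1 else 0)

/-- coefficient of a bit-sliced vector -/
def coef (s : ℕ × ℕ) (m : ℕ) : ZMod 3 := cf (s.1.testBit m) (s.2.testBit m)

/-- sign change at the positions in `S` -/
def sgn (S : ℕ) (s : ℕ × ℕ) : ℕ × ℕ :=
  (s.1 ^^^ ((s.1 ^^^ s.2) &&& S), s.2 ^^^ ((s.1 ^^^ s.2) &&& S))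

theorem coef_sgn (S : ℕ) (s : ℕ × ℕ) (m : ℕ) :
    coef (sgn S s) m = if S.testBit m then - coef s m else coef s m := by
  simp only [coef, sgn, Nat.testBit_xor, Nat.testBit_and]
  cases s.1.testBit m <;> cases s.2.testBit m <;> cases S.testBit m <;> decide

/-- the translation by `2 ^ i`; `B` is the mask of all positions with bit `i` -/
def flip (i B x : ℕ) : ℕ := ((x &&& B) >>> 2 ^ i) ||| ((x ^^^ (x &&& B)) <<< 2 ^ i)

theorem testBit_flip {n i B x m : ℕ} (hB : ∀ k, B.testBit k = (decide (k < 2 ^ n) && k.testBit i))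
    (hi : i < n) (hm : m < 2 ^ n) : (flip i B x).testBit m = x.testBit (m ^^^ 2 ^ i) := by
  have hlt : m ^^^ 2 ^ i < 2 ^ n := Nat.xor_lt_two_pow hm (Nat.pow_lt_pow_right (by norm_num) hi)
  rw [flip, Nat.testBit_or, Nat.testBit_shiftRight, Nat.testBit_shiftLeft, Nat.testBit_and,
    Nat.testBit_xor, Nat.testBit_and, hB, hB]
  cases hmi : m.testBit i with
  | false =>
    have h1 := xor_two_pow_of_false i m hmi
    rw [h1] at hlt ⊢
    have h2 : (m + 2 ^ i).testBit i = true := by
      rw [← h1, Nat.testBit_xor, hmi, Nat.testBit_two_pow_self]; rfl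
    rw [add_comm (2 ^ i) m, h2, decide_eq_true hlt]
    by_cases h3 : 2 ^ i ≤ m
    · have h4 : (m - 2 ^ i).testBit i = true := by
        by_contra h5
        have h5' : (m - 2 ^ i).testBit i = false := by simpa using h5
        have h6 := xor_two_pow_of_false i _ h5'
        have h7 : (m - 2 ^ i) + 2 ^ i = m := by omega
        rw [h7] at h6
        have h8 : m.testBit i = true := by
          rw [← h6, Nat.testBit_xor, h5', Nat.testBit_two_pow_self]; rfl
        rw [hmi] at h8
        exact Bool.noConfusion h8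
      rw [h4, decide_eq_true (lt_of_le_of_lt (Nat.sub_le m (2 ^ i)) hm)]
      simp
    · simp [h3]
  | true =>
    have h1 := xor_two_pow_of_true hmi
    have hge : 2 ^ i ≤ m := Nat.ge_two_pow_of_testBit hmi
    have h2 : (m ^^^ 2 ^ i).testBit i = false := by
      rw [Nat.testBit_xor, hmi, Nat.testBit_two_pow_self]; rfl
    have h3 : (2 ^ i + m).testBit i = false := by
      rw [Nat.testBit_two_pow_add_eq, hmi]; rfl
    rw [h1] at h2 ⊢
    rw [h2, h3]
    simp [hge]

/-- addition modulo three -/
def add (s t : ℕ × ℕ) : ℕ × ℕ :=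
  let a := s.1 ^^^ (s.1 &&& s.2)
  let b := s.2 ^^^ (s.1 &&& s.2)
  let c := t.1 ^^^ (t.1 &&& t.2)
  let d := t.2 ^^^ (t.1 &&& t.2)
  ((a ^^^ (a &&& (c ||| d))) ||| (c ^^^ (c &&& (a ||| b))) ||| (b &&& d),
    (b ^^^ (b &&& (c ||| d))) ||| (d ^^^ (d &&& (a ||| b))) ||| (a &&& c))

theorem coef_add (s t : ℕ × ℕ) (m : ℕ) : coef (add s t) m = coef s m + coef t m := by
  simp only [coef, add, Nat.testBit_xor, Nat.testBit_and, Nat.testBit_or]
  cases s.1.testBit m <;> cases s.2.testBit m <;> cases t.1.testBit m <;> cases t.2.testBit m <;>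
    decide

/-! ### representation of vectors -/

/-- decoding of a bit mask -/
def dec (n m : ℕ) : Fin n → ZMod 2 := fun i => if m.testBit i then 1 else 0

theorem dec_xor {n : ℕ} (m : ℕ) (i : Fin n) :
    dec n (m ^^^ 2 ^ (i : ℕ)) = dec n m + Pi.single i 1 := by
  funext j
  rw [dec, Nat.testBit_xor, Pi.add_apply, dec, Nat.testBit_two_pow]
  by_cases h : j = i
  · subst h
    rw [Pi.single_eq_same]
    cases m.testBit j
    · simp
    · simp only [Bool.true_xor]
      decide
  · rw [Pi.single_eq_of_ne h, add_zero, decide_eq_false (fun h2 => h (Fin.ext h2.symm)),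
      Bool.xor_false]

/-- the bit-sliced vector `s` represents `f` -/
def Rep {n : ℕ} (s : ℕ × ℕ) (f : V n) : Prop := ∀ m, m < 2 ^ n → f (dec n m) = coef s m

/-- masks -/
structure Masks (n : ℕ) where
  B : ℕ → ℕ
  hB : ∀ i, i < n → ∀ k, (B i).testBit k = (decide (k < 2 ^ n) && k.testBit i)

variable {n : ℕ} (K : Masks n)

/-- the mask of all positions whose lowest `i` bits have odd sum -/
def Masks.S : ℕ → ℕ
  | 0 => 0
  | i + 1 => Masks.S i ^^^ K.B i

theorem eps_sum {i : ℕ} (hi : i ≤ n) {m : ℕ} (hm : m < 2 ^ n) (b : Fin n → ZMod 2)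
    (hb : ∀ j : Fin n, b j = if (j : ℕ) < i then 1 else 0) :
    eps (b ⬝ᵥ dec n m) = if (K.S i).testBit m then -1 else 1 := by
  induction i generalizing b with
  | zero =>
    have : b = 0 := by funext j; rw [hb]; simp
    rw [this, zero_dotProduct, eps_zero, Masks.S]
    simp
  | succ i ih =>
    have hi' : i < n := hi
    let c : Fin n → ZMod 2 := fun j => if (j : ℕ) < i then 1 else 0
    have h1 : b = c + Pi.single ⟨i, hi'⟩ 1 := by
      funext j
      rw [hb, Pi.add_apply]
      by_cases h : j = ⟨i, hi'⟩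
      · subst h
        simp [c]
      · have h2 : (j : ℕ) ≠ i := fun h3 => h (Fin.ext h3)
        rw [Pi.single_eq_of_ne h, add_zero]
        have h3 : ((j : ℕ) < i + 1) ↔ ((j : ℕ) < i) := by omega
        simp only [h3, c]
    rw [h1, add_dotProduct, eps_add, ih (by omega) c (fun j => rfl), single_dotProduct, one_mul,
      Masks.S, Nat.testBit_xor, K.hB i hi', decide_eq_true hm, Bool.true_and, dec]
    simp only
    cases (K.S i).testBit m <;> cases m.testBit i <;> decide

/-- the operator `L i` on bit-sliced vectors -/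
def Masks.stepL (i : ℕ) (s : ℕ × ℕ) : ℕ × ℕ :=
  sgn (K.S i) (flip i (K.B i) s.1, flip i (K.B i) s.2)

theorem rep_L {s : ℕ × ℕ} {f : V n} (h : Rep s f) (i : Fin n) : Rep (K.stepL i s) (L i f) := by
  intro m hm
  have hlt : m ^^^ 2 ^ (i : ℕ) < 2 ^ n :=
    Nat.xor_lt_two_pow hm (Nat.pow_lt_pow_right (by norm_num) i.2)
  rw [L_def, P_apply, ← dec_xor, h _ hlt, Masks.stepL, coef_sgn,
    eps_sum K i.2.le hm _ (fun j => by simp only [Fin.lt_def])]
  have h1 : coef (flip i (K.B i) s.1, flip i (K.B i) s.2) m = coef s (m ^^^ 2 ^ (i : ℕ)) := by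
    rw [coef, coef, testBit_flip (K.hB i i.2) i.2 hm, testBit_flip (K.hB i i.2) i.2 hm]
  rw [h1]
  cases (K.S i).testBit m
  · simp
  · simp

theorem rep_D {s : ℕ × ℕ} {f : V n} (h : Rep s f) : Rep (sgn (K.S n) s) ((D : E n) f) := by
  intro m hm
  rw [D_def, P_apply, add_zero, h _ hm, coef_sgn,
    eps_sum K le_rfl hm _ (fun j => by simp)]
  cases (K.S n).testBit m
  · simp
  · simp

theorem coef_swap (s : ℕ × ℕ) (m : ℕ) : coef s.swap m = - coef s m := by
  simp only [coef, Prod.swap]
  cases s.1.testBit m <;> cases s.2.testBit m <;> decide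

/-- the operator `t i j` on bit-sliced vectors -/
def Masks.stepT (i j : ℕ) (s : ℕ × ℕ) : ℕ × ℕ :=
  let s' := sgn (K.S n) s
  add (K.stepL i s') (K.stepL j s').swap

theorem rep_t {s : ℕ × ℕ} {f : V n} (h : Rep s f) (i j : Fin n) :
    Rep (K.stepT i j s) ((t i j : E n) f) := by
  intro m hm
  have h1 := rep_L K (rep_D K h) i m hm
  have h2 := rep_L K (rep_D K h) j m hm
  rw [t_def, sub_mul, Masks.stepT, coef_add, coef_swap, ← h1, ← h2]
  change (L i * D : E n) f (dec n m) - (L j * D : E n) f (dec n m) = _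
  rw [sub_eq_add_neg]
  rfl

/-- evaluation of a word on the vacuum vector -/
def Masks.run (w : List (Fin n × Fin n)) : ℕ × ℕ :=
  w.foldr (fun p s => K.stepT p.1 p.2 s) (1, 0)

theorem rep_vac : Rep (n := n) (1, 0) (vac n) := by
  intro m hm
  rw [coef]
  by_cases h : m = 0
  · subst h
    have : dec n 0 = 0 := by funext i; simp [dec]
    rw [this, vac_zero]
    simp [cf]
  · have h1 : dec n m ≠ 0 := by
      intro h2
      apply h
      refine Nat.eq_of_testBit_eq fun i => ?_
      rw [Nat.zero_testBit]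
      by_cases hi : i < n
      · have h3 := congrFun h2 ⟨i, hi⟩
        rw [dec] at h3
        cases h4 : m.testBit i with
        | false => rfl
        | true =>
          exfalso
          simp only [h4, if_true, Pi.zero_apply] at h3
          exact absurd h3 (by decide)
      · exact Nat.testBit_lt_two_pow (lt_of_lt_of_le hm (Nat.pow_le_pow_right (by norm_num) (by omega)))
    rw [vac_of_ne h1]
    have h5 : (1 : ℕ).testBit m = false := by
      rw [← pow_zero 2, Nat.testBit_two_pow]
      exact decide_eq_false (fun h6 => h h6.symm)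
    simp [h5, cf]

/-- the product of the operators `t i j` along a word -/
def tw (w : List (Fin n × Fin n)) : E n := (w.map fun p => t p.1 p.2).prod

theorem rep_run (w : List (Fin n × Fin n)) : Rep (K.run w) (tw w (vac n)) := by
  induction w with
  | nil => exact rep_vac
  | cons p w ih =>
    have : tw (p :: w) (vac n) = (t p.1 p.2 : E n) (tw w (vac n)) := by
      rw [tw, List.map_cons, List.prod_cons, Module.End.mul_apply]; rfl
    rw [this]
    exact rep_t K ih p.1 p.2

/-- the product of the lifts along a word -/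
def lw (w : List (Fin n × Fin n)) : cover n := (w.map fun p => T p.1 p.2).prod

theorem lw_nil : lw ([] : List (Fin n × Fin n)) = 1 := rfl

theorem lw_append (v w : List (Fin n × Fin n)) : lw (v ++ w) = lw v * lw w := by
  rw [lw, List.map_append, List.prod_append]; rfl

theorem lw_cons (p : Fin n × Fin n) (w : List (Fin n × Fin n)) : lw (p :: w) = T p.1 p.2 * lw w :=
  rfl

theorem T_inv (i j : Fin n) : (T i j)⁻¹ = T i j := by
  by_cases h : i = j
  · rw [T, dif_pos h, inv_one]
  · exact inv_eq_of_mul_eq_one_left (T_mul_self h)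

theorem lw_reverse (w : List (Fin n × Fin n)) : lw w.reverse = (lw w)⁻¹ := by
  induction w with
  | nil => rw [List.reverse_nil, lw_nil, inv_one]
  | cons p w ih =>
    rw [List.reverse_cons, lw_append, ih, lw_cons, lw_cons, lw_nil, mul_one, mul_inv_rev, T_inv]

/-- the permutation of a word, as a function -/
def pw (w : List (Fin n × Fin n)) (x : Fin n) : Fin n :=
  w.foldr (fun p y => if y = p.1 then p.2 else if y = p.2 then p.1 else y) x

theorem proj_lw {w : List (Fin n × Fin n)} (hw : ∀ p ∈ w, p.1 ≠ p.2) (x : Fin n) :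
    proj n (lw w) x = pw w x := by
  induction w with
  | nil => rfl
  | cons p w ih =>
    rw [lw_cons, map_mul, proj_T (hw p List.mem_cons_self), Perm.mul_apply,
      ih (fun q hq => hw q (List.mem_cons_of_mem _ hq)), swap_apply_def]
    rfl

theorem val_lw {w : List (Fin n × Fin n)} (hw : ∀ p ∈ w, p.1 ≠ p.2) :
    (((lw w : cover n) : (E n)ˣ × Perm (Fin n)).1 : E n) = tw w := by
  induction w with
  | nil => rfl
  | cons p w ih =>
    rw [lw_cons, val_mul, val_T (hw p List.mem_cons_self),
      ih (fun q hq => hw q (List.mem_cons_of_mem _ hq)), tw, tw, List.map_cons, List.prod_cons]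

/-- criterion for a word of lifts to be trivial -/
def Masks.good (w : List (Fin n × Fin n)) : Bool :=
  w.all (fun p => decide (p.1 ≠ p.2)) && (List.finRange n).all (fun x => decide (pw w x = x)) &&
    (K.run w).1.testBit 0 && !(K.run w).2.testBit 0

theorem lw_eq_one {w : List (Fin n × Fin n)} (h : K.good w = true) : lw w = 1 := by
  rw [Masks.good, Bool.and_eq_true, Bool.and_eq_true, Bool.and_eq_true] at h
  obtain ⟨⟨⟨h1, h2⟩, h3⟩, h4⟩ := h
  have hw : ∀ p ∈ w, p.1 ≠ p.2 := by
    intro p hp
    have := List.all_eq_true.1 h1 p hp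
    exact of_decide_eq_true this
  have hp : proj n (lw w) = 1 := by
    refine Equiv.ext fun x => ?_
    rw [proj_lw hw, Perm.one_apply]
    have := List.all_eq_true.1 h2 x (List.mem_finRange x)
    exact of_decide_eq_true this
  rcases eq_one_or_eq_zz_of_proj_eq_one hp with h5 | h5
  · exact h5
  · exfalso
    have h6 := val_lw hw
    rw [h5, val_zz] at h6
    have h7 := rep_run K w 0 (by positivity)
    rw [← h6, coef] at h7
    have h8 : dec n 0 = 0 := by funext i; simp [dec]
    rw [h8, LinearMap.neg_apply, Cfsg.Agent.CharactersDeep.DoubleCover.neg_apply, Module.End.one_apply, vac_zero, h3] at h7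
    have h9 : (K.run w).2.testBit 0 = false := by simpa using h4
    rw [h9] at h7
    exact absurd h7 (by decide)

/-! ### the masks for `n = 11` -/

/-- the mask of all positions below `2 ^ 11` with bit `i` -/
def B11 (i : ℕ) : ℕ :=
  ((2 ^ 2048 - 1) / (2 ^ (2 ^ (i + 1)) - 1)) * ((2 ^ (2 ^ i) - 1) * 2 ^ (2 ^ i))

/-- kernel check of the masks -/
def chk11 : Bool := (List.range 11).all fun i => decide (B11 i < 2 ^ 2048) &&
  (List.range 2048).all fun k => (B11 i).testBit k == k.testBit i

theorem chk11_eq : chk11 = true := by decide +kernel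

theorem B11_spec (i : ℕ) (hi : i < 11) (k : ℕ) :
    (B11 i).testBit k = (decide (k < 2 ^ 11) && k.testBit i) := by
  have h1 := List.all_eq_true.1 chk11_eq i (List.mem_range.2 hi)
  rw [Bool.and_eq_true] at h1
  obtain ⟨h1, h2⟩ := h1
  have h1' : B11 i < 2 ^ 2048 := of_decide_eq_true h1
  by_cases hk : k < 2048
  · have h3 := List.all_eq_true.1 h2 k (List.mem_range.2 hk)
    have h4 : (B11 i).testBit k = k.testBit i := by simpa using h3
    rw [h4, decide_eq_true (show k < 2 ^ 11 from hk), Bool.true_and]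
  · have h3 : (B11 i).testBit k = false :=
      Nat.testBit_lt_two_pow (lt_of_lt_of_le h1' (Nat.pow_le_pow_right (by norm_num) (by omega)))
    rw [h3, decide_eq_false (show ¬ k < 2 ^ 11 from hk), Bool.false_and]

/-- the masks for `n = 11` -/
def K11 : Masks 11 := ⟨B11, B11_spec⟩

/-- criterion for a word to be trivial in `2.S_11` -/
def good (w : List (Fin 11 × Fin 11)) : Bool := K11.good w

theorem lw_eq_one_of_good {w : List (Fin 11 × Fin 11)} (h : good w = true) : lw w = 1 :=
  lw_eq_one K11 h

/-- two words with the same value -/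
theorem lw_eq_of_good {v w : List (Fin 11 × Fin 11)} (h : good (v ++ w.reverse) = true) :
    lw v = lw w := by
  have h1 := lw_eq_one_of_good h
  rw [lw_append, lw_reverse] at h1
  exact mul_inv_eq_one.1 h1

end Cfsg.Agent.R10.CliffSign
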