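import Cfsg.Agent.SporRec.LyG2.Hom

/-!
# Words in the generators of the Lyons group

`gl` : letters; `hw` : equality of words in `a, b, c, d, c₅` from an equality of `7 × 7` matrices;
`Rel82` : the relations 73–82; `zK` : conjugation by `z`.
-/

set_option autoImplicit false

namespace Cfsg.Agent.R10.EndBase

open Cfsg.Agent.Lib.PackMat
open Cfsg.Agent.SporadicRecognition.CosetCert (ev ev_nil ev_cons ev_append)
open Cfsg.Agent.SporRec.LyG2.Rel Cfsg.Agent.SporRec.LyG2.M7 Cfsg.Agent.SporRec.LyG2.Hom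
open Cfsg.Agent.SporRec.LyG2.M7Data

variable {G : Type*} [Group G]

/-- letters `a b c d` (`0–7`), `c₅` (`16, 17`), `z` (`46, 47`), `y` (`48, 49`) -/
def gl (a b c d f z y : G) : ℕ → G
  | 0 => a
  | 1 => a⁻¹
  | 2 => b
  | 3 => b⁻¹
  | 4 => c
  | 5 => c⁻¹
  | 6 => d
  | 7 => d⁻¹
  | 16 => f
  | 17 => f⁻¹
  | 46 => z
  | 47 => z⁻¹
  | 48 => y
  | 49 => y⁻¹
  | _ => 1

/-- `c₅` as a word -/
def ex : ℕ → List ℕ
  | 16 => [5, 1, 5, 0, 4, 1, 4, 0]
  | 17 => [1, 5, 0, 5, 1, 4, 0, 4]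
  | k => [k]

/-- letters in the free group -/
def fw : ℕ → FreeGroup (Fin 4)
  | 0 => FreeGroup.of 0
  | 1 => (FreeGroup.of 0)⁻¹
  | 2 => FreeGroup.of 1
  | 3 => (FreeGroup.of 1)⁻¹
  | 4 => FreeGroup.of 2
  | 5 => (FreeGroup.of 2)⁻¹
  | 6 => FreeGroup.of 3
  | 7 => (FreeGroup.of 3)⁻¹
  | _ => 1

theorem map_ev {A B : Type*} [Group A] [Group B] (φ : A →* B) (g : ℕ → A) (w : List ℕ) :
    φ (ev g w) = ev (fun k => φ (g k)) w := by
  unfold ev
  rw [map_list_prod, List.map_map]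
  rfl

theorem ev_congr {g g' : ℕ → G} {w : List ℕ} (h : ∀ k ∈ w, g k = g' k) : ev g w = ev g' w := by
  unfold ev
  rw [List.map_congr_left h]

theorem ev_flatMap (g : ℕ → G) (f : ℕ → List ℕ) (w : List ℕ) :
    ev g (w.flatMap f) = ev (fun k => ev g (f k)) w := by
  induction w with
  | nil => rfl
  | cons k w ih => rw [List.flatMap_cons, ev_append, ih, ev_cons]

theorem lift_X (w : List ℕ) (hw : ∀ k ∈ w, k < 8) : FreeGroup.lift gen7 (ev fw w) = ev X w := by
  rw [map_ev]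
  refine ev_congr fun k hk => ?_
  have h8 := hw k hk
  have hX : ∀ k, k < 46 → X (k ^^^ 1) = (X k)⁻¹ := X_iv
  interval_cases k
  · simp [fw, gen7]
  · simp only [fw, map_inv, FreeGroup.lift_apply_of, gen7]
    exact (hX 0 (by norm_num)).symm
  · simp [fw, gen7]
  · simp only [fw, map_inv, FreeGroup.lift_apply_of, gen7]
    exact (hX 2 (by norm_num)).symm
  · simp [fw, gen7]
  · simp only [fw, map_inv, FreeGroup.lift_apply_of, gen7]
    exact (hX 4 (by norm_num)).symm
  · simp [fw, gen7]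
  · simp only [fw, map_inv, FreeGroup.lift_apply_of, gen7]
    exact (hX 6 (by norm_num)).symm

variable {a b c d e c1 c2 c3 c4 c5 z y : G}

theorem lift_gl (f z y : G) (w : List ℕ) (hw : ∀ k ∈ w, k < 8) :
    FreeGroup.lift ![a, b, c, d] (ev fw w) = ev (gl a b c d f z y) w := by
  rw [map_ev]
  refine ev_congr fun k hk => ?_
  have h8 := hw k hk
  interval_cases k <;> simp [fw, gl]

theorem c5_word (h : Rel44 a b c d e c1 c2 c3 c4 c5) :
    c5 = c⁻¹ * a⁻¹ * c⁻¹ * a * c * a⁻¹ * c * a := by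
  have h6 := mul_inv_eq_one.1 h.r6
  have h7 := mul_inv_eq_one.1 h.r7
  have h10 := mul_inv_eq_one.1 h.r10
  rw [h10, h6, h7]
  group

theorem ex_gl (h : Rel44 a b c d e c1 c2 c3 c4 c5) (k : ℕ) :
    ev (gl a b c d c5 z y) (ex k) = gl a b c d c5 z y k := by
  unfold ex
  split
  · simp only [ev, List.map_cons, List.map_nil, List.prod_cons, List.prod_nil, gl]
    rw [c5_word h]
    group
  · simp only [ev, List.map_cons, List.map_nil, List.prod_cons, List.prod_nil, gl]
    rw [c5_word h]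
    group
  · simp [ev]

/-- the check for an equality of words in `a, b, c, d, c₅` -/
noncomputable def chk (w w' : List ℕ) : Bool :=
  (w.flatMap ex).all (fun k => Nat.blt k 8) && (w'.flatMap ex).all (fun k => Nat.blt k 8) &&
    checkEq C7 ((w.flatMap ex).map cd) ((w'.flatMap ex).map cd) 0 7

/-- Words in `a, b, c, d, c₅` with equal matrices are equal. -/
theorem hw (h : Rel44 a b c d e c1 c2 c3 c4 c5) {w w' : List ℕ} (hc : chk w w' = true) :
    ev (gl a b c d c5 z y) w = ev (gl a b c d c5 z y) w' := by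
  unfold chk at hc
  rw [Bool.and_eq_true, Bool.and_eq_true, List.all_eq_true, List.all_eq_true] at hc
  obtain ⟨⟨h1, h2⟩, h3⟩ := hc
  have h1' : ∀ k ∈ w.flatMap ex, k < 8 := fun k hk => by simpa using h1 k hk
  have h2' : ∀ k ∈ w'.flatMap ex, k < 8 := fun k hk => by simpa using h2 k hk
  have key := eq_of_mat h (ev fw (w.flatMap ex)) (ev fw (w'.flatMap ex)) (by
    rw [lift_X _ h1', lift_X _ h2']
    exact ev_eq _ _ h3)
  rw [lift_gl c5 z y _ h1', lift_gl c5 z y _ h2', ev_flatMap, ev_flatMap] at key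
  simp only [ex_gl h] at key
  exact key

end Cfsg.Agent.R10.EndBase
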