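import Cfsg.Agent.R10.EndThree
import Cfsg.Agent.R10.ToHom
import Cfsg.Agent.Ly.T1

/-!
# Relations (83), (84), (85) in the form of `RelZ`
-/

set_option autoImplicit false
set_option linter.unusedVariables false
set_option linter.unusedSimpArgs false
set_option linter.unusedSectionVars false

namespace Cfsg.Agent.R10.EndGlue

open Subgroup Equiv Cfsg.Agent.SporRec.TwoAn Cfsg.Agent.SporRec.LyType Cfsg.Agent.R10.CliffWord
  Cfsg.Agent.R10.CliffSign Cfsg.Agent.R10.EndThree Cfsg.Agent.R10.ToHom Cfsg.Agent.SporRec.LyG2.Rel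
open Cfsg.Agent.Ly.Mat7 Cfsg.Agent.Ly.Walk Cfsg.Agent.Ly.WalkData Cfsg.Agent.Ly.Pres Cfsg.Agent.Ly.WalkFacts
  Cfsg.Agent.Ly.WalkCtx

/-- Relations (73)–(82). -/
structure Rel10 {G : Type*} [Group G] (a b c d z c1 c2 c3 c4 c5 : G) : Prop where
  r73 : (z⁻¹ * c1 * z) * ((x162 a b c d)⁻¹) = 1
  r74 : (z⁻¹ * c2 * z) * ((x163 a b c d)⁻¹) = 1
  r75 : (z⁻¹ * c3 * z) * ((x164 a b c d)⁻¹) = 1
  r76 : (z⁻¹ * c4 * z) * ((x165 a b c d)⁻¹) = 1
  r77 : (z⁻¹ * c5 * z) * ((x166 a b c d)⁻¹) = 1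
  r78 : (z⁻¹ * a * z) * ((x167 a b c d)⁻¹) = 1
  r79 : (z⁻¹ * ((b⁻¹)⁻¹ * a * (b⁻¹)) * z) * ((x168 a b c d)⁻¹) = 1
  r80 : (z⁻¹ * (((b ^ 2)⁻¹)⁻¹ * a * ((b ^ 2)⁻¹)) * z) * ((x169 a b c d)⁻¹) = 1
  r81 : (z ^ 2) * ((a ^ 2)⁻¹) = 1
  r82 : ((((b ^ 2)⁻¹ * a * (b ^ 2)) * z) ^ 3) * (a ^ 2) = 1

variable {G : Type*} [Group G] {a b c d z e c1 c2 c3 c4 c5 : G}

/-- the five elements -/
def X5 (a b c d z : G) : Fin 5 → G := ![a, b, c, d, z]

theorem X4_eq : X4 (X5 a b c d z) = ![a, b, c, d] := by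
  funext i
  fin_cases i <;> rfl

theorem c5_eq (h : Rel44 a b c d e c1 c2 c3 c4 c5) : c5 = ev (X4 (X5 a b c d z)) c5w := by
  rw [mul_inv_eq_one.1 h.r10, mul_inv_eq_one.1 h.r6, mul_inv_eq_one.1 h.r7, X4_eq]
  simp only [c5w, ev_cons, ev_nil, letter]
  change _ = c⁻¹ * (a⁻¹ * (c⁻¹ * (a * (c * (a⁻¹ * (c * (a * 1)))))))
  group

theorem wp_of (h : Rel44 a b c d e c1 c2 c3 c4 c5) {v w : List ℕ} (hvw : eqW v w = true) :
    ev (X4 (X5 a b c d z)) v = ev (X4 (X5 a b c d z)) w := by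
  rw [X4_eq]
  exact Cfsg.Agent.Ly.T1.ev_eq_of h (word_eq hvw)

theorem hz_of (h : Rel44 a b c d e c1 c2 c3 c4 c5) (k : Rel10 a b c d z c1 c2 c3 c4 c5) :
    ∀ w ∈ relZ, FreeGroup.lift (X5 a b c d z) (FreeGroup.mk w) = 1 := by
  have h1 := mul_inv_eq_one.1 h.r6
  have h2 := mul_inv_eq_one.1 h.r7
  have h3 := mul_inv_eq_one.1 h.r8
  have h4 := mul_inv_eq_one.1 h.r9
  have h5 := mul_inv_eq_one.1 h.r10
  have X0 : X5 a b c d z 0 = a := rfl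
  have X1 : X5 a b c d z 1 = b := rfl
  have X2 : X5 a b c d z 2 = c := rfl
  have X3 : X5 a b c d z 3 = d := rfl
  have X4 : X5 a b c d z 4 = z := rfl
  simp only [relZ, List.forall_mem_cons, List.not_mem_nil, false_imp_iff, implies_true, and_true]
  refine ⟨?_, ?_, ?_, ?_, ?_, ?_, ?_, ?_, ?_, ?_⟩
  · have q := k.r73
    rw [h1] at q
    simp only [rel73, lift_cons, lift_nil, cond_true, cond_false, X0, X1, X2, X3, X4]
    simpa only [x162, mul_inv_rev, inv_inv, mul_assoc, pow_two, mul_one] using q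
  · have q := k.r74
    rw [h2] at q
    simp only [rel74, lift_cons, lift_nil, cond_true, cond_false, X0, X1, X2, X3, X4]
    simpa only [x163, mul_inv_rev, inv_inv, mul_assoc, pow_two, mul_one] using q
  · have q := k.r75
    rw [h3] at q
    simp only [rel75, lift_cons, lift_nil, cond_true, cond_false, X0, X1, X2, X3, X4]
    simpa only [x164, mul_inv_rev, inv_inv, mul_assoc, pow_two, mul_one] using q
  · have q := k.r76
    rw [h4] at q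
    simp only [rel76, lift_cons, lift_nil, cond_true, cond_false, X0, X1, X2, X3, X4]
    simpa only [x165, mul_inv_rev, inv_inv, mul_assoc, pow_two, mul_one] using q
  · have q := k.r77
    rw [h5, h2, h1] at q
    simp only [rel77, lift_cons, lift_nil, cond_true, cond_false, X0, X1, X2, X3, X4]
    simpa only [x166, mul_inv_rev, inv_inv, mul_assoc, pow_two, mul_one] using q
  · have q := k.r78
    simp only [rel78, lift_cons, lift_nil, cond_true, cond_false, X0, X1, X2, X3, X4]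
    simpa only [x167, mul_inv_rev, inv_inv, mul_assoc, pow_two, pow_succ, pow_zero, one_mul, mul_one] using q
  · have q := k.r79
    simp only [rel79, lift_cons, lift_nil, cond_true, cond_false, X0, X1, X2, X3, X4]
    simpa only [x168, mul_inv_rev, inv_inv, mul_assoc, pow_two, mul_one] using q
  · have q := k.r80
    simp only [rel80, lift_cons, lift_nil, cond_true, cond_false, X0, X1, X2, X3, X4]
    simpa only [x169, mul_inv_rev, inv_inv, mul_assoc, pow_two, mul_one] using q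
  · have q := k.r81
    simp only [rel81, lift_cons, lift_nil, cond_true, cond_false, X0, X1, X2, X3, X4]
    simpa only [mul_inv_rev, inv_inv, mul_assoc, pow_two, mul_one] using q
  · have q := k.r82
    simp only [rel82, lift_cons, lift_nil, cond_true, cond_false, X0, X1, X2, X3, X4]
    simpa only [mul_inv_rev, inv_inv, mul_assoc, pow_two, pow_succ, pow_zero, one_mul, mul_one] using q

/-- The images of the generators in `A₁₁`. -/
structure Images (L : LyType G) (a b c5 d z : G) : Prop where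
  ht : a ^ 4 = L.t
  a : ∃ A : centralizer ({L.t} : Set G), (A : G) = a ∧ ∀ i, L.K.π A i = pw wa i
  b : ∃ A : centralizer ({L.t} : Set G), (A : G) = b ∧ ∀ i, L.K.π A i = pw wb i
  e : ∃ A : centralizer ({L.t} : Set G), (A : G) = c5 ∧ ∀ i, L.K.π A i = pw we i
  d : ∃ A : centralizer ({L.t} : Set G), (A : G) = d ∧ ∀ i, L.K.π A i = pw wd i
  z : ∃ A : centralizer ({L.t} : Set G), (A : G) = z ∧ ∀ i, L.K.π A i = pw wz i

theorem frame_of {L : LyType G} (h : Rel44 a b c d e c1 c2 c3 c4 c5) (k : Rel10 a b c d z c1 c2 c3 c4 c5)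
    (f : Images L a b c5 d z) : Frame L (X5 a b c d z) where
  wp _ _ hvw := wp_of h hvw
  hz := hz_of h k
  ht := f.ht
  a := f.a
  b := f.b
  e := by
    rw [← c5_eq h]
    exact f.e
  d := f.d
  z := f.z

theorem r83_of {L : LyType G} (h : Rel44 a b c d e c1 c2 c3 c4 c5) (k : Rel10 a b c d z c1 c2 c3 c4 c5)
    (f : Images L a b c5 d z) : x47 a b c d * z * x364 a b c d * z * x368 a b c d * z = 1 := by
  have q := (frame_of h k f).rel83'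
  rw [X4_eq] at q
  simp only [ev_cons, ev_nil] at q
  change (c⁻¹ * (d⁻¹ * (a⁻¹ * (c⁻¹ * (a⁻¹ * (b * (c⁻¹ * (d⁻¹ * 1)))))))) * z *
    (a⁻¹ * (d * (b⁻¹ * (c⁻¹ * (a⁻¹ * (b * (c⁻¹ * (d⁻¹ * (b * (c⁻¹ * (b⁻¹ * (a⁻¹ * (c⁻¹ * (a * (b⁻¹ * (a * (b *
      (a * (b⁻¹ * 1))))))))))))))))))) * z *
    (a⁻¹ * (c⁻¹ * (d⁻¹ * (a * (c⁻¹ * (b⁻¹ * (a * (c⁻¹ * (d⁻¹ * (a⁻¹ * (c⁻¹ * (a * (c * (b⁻¹ * (b⁻¹ * (c⁻¹ * (b⁻¹ *
      (a⁻¹ * (b⁻¹ * (b⁻¹ * 1)))))))))))))))))))) * z = 1 at q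
  simpa only [x47, x364, x368, mul_inv_rev, mul_assoc, pow_two, mul_one] using q

theorem r84_of {L : LyType G} (h : Rel44 a b c d e c1 c2 c3 c4 c5) (k : Rel10 a b c d z c1 c2 c3 c4 c5)
    (f : Images L a b c5 d z) : (z⁻¹) * x24 a b c d * (z⁻¹) * x369 a b c d * z * x23 a b c d * z * x29 a b c d = 1 := by
  have q := (frame_of h k f).rel84'
  rw [X4_eq] at q
  simp only [ev_cons, ev_nil] at q
  change 1 * z⁻¹ * (d⁻¹ * 1) * z⁻¹ * (a⁻¹ * (c⁻¹ * (d⁻¹ * (b * (a⁻¹ * (b⁻¹ * (c⁻¹ * (d⁻¹ * (b * (a⁻¹ * (b⁻¹ *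
    (c⁻¹ * (b⁻¹ * (a * (b⁻¹ * (b⁻¹ * (a * (b⁻¹ * 1)))))))))))))))))) * z * (d * 1) * z * (a * (b * (a⁻¹ *
    (b * (b * (a⁻¹ * (b * (b * (c⁻¹ * (a * (c * (b * (c * (b⁻¹ * (d * (c * (b⁻¹ * (b⁻¹ * (d * (c * (b *
    (c * 1)))))))))))))))))))))) = 1 at q
  simpa only [x24, x369, x23, x29, mul_inv_rev, mul_assoc, pow_two, mul_one, one_mul] using q

theorem r85_of {L : LyType G} (h : Rel44 a b c d e c1 c2 c3 c4 c5) (k : Rel10 a b c d z c1 c2 c3 c4 c5)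
    (f : Images L a b c5 d z) : z * x366 a b c d * z * x365 a b c d * (z⁻¹) * x367 a b c d * (z⁻¹) * x370 a b c d = 1 := by
  have q := (frame_of h k f).rel85'
  rw [X4_eq] at q
  simp only [ev_cons, ev_nil] at q
  change 1 * z * (b * (a * (b⁻¹ * (a⁻¹ * (b⁻¹ * (b⁻¹ * (a⁻¹ * (b⁻¹ * (c * (b * (b * (c * (b * (d * (c * (b⁻¹ *
    (b⁻¹ * (d * (c * (b * (c * 1))))))))))))))))))))) * z * (a * (b⁻¹ * (b⁻¹ * (a⁻¹ * (c * (b * (c⁻¹ * (b *
    (a⁻¹ * (c⁻¹ * (c⁻¹ * (d * (c * (a * (c * (a⁻¹ * (c * (b⁻¹ * (d⁻¹ * 1))))))))))))))))))) * z⁻¹ * (c⁻¹ *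
    (b⁻¹ * (c⁻¹ * (d⁻¹ * (b * (b * (c⁻¹ * (d⁻¹ * (b⁻¹ * (c⁻¹ * (b⁻¹ * (b⁻¹ * (c⁻¹ * (b * (a * (b * (b *
    (a * (b * (a⁻¹ * (b⁻¹ * 1))))))))))))))))))))) * z⁻¹ * (d⁻¹ * (a * (c * (b * (c * (a⁻¹ * (c⁻¹ * (d⁻¹ *
    (a * (b⁻¹ * (a⁻¹ * (c * (a⁻¹ * (b⁻¹ * (b⁻¹ * (a⁻¹ * (b * (a⁻¹ * 1)))))))))))))))))) = 1 at q
  simpa only [x366, x365, x367, x370, mul_inv_rev, mul_assoc, pow_two, mul_one, one_mul] using q

/-- Relations (83), (84), (85). -/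
theorem three {L : LyType G} (h : Rel44 a b c d e c1 c2 c3 c4 c5) (k : Rel10 a b c d z c1 c2 c3 c4 c5)
    (f : Images L a b c5 d z) :
    x47 a b c d * z * x364 a b c d * z * x368 a b c d * z = 1 ∧
      (z⁻¹) * x24 a b c d * (z⁻¹) * x369 a b c d * z * x23 a b c d * z * x29 a b c d = 1 ∧
      z * x366 a b c d * z * x365 a b c d * (z⁻¹) * x367 a b c d * (z⁻¹) * x370 a b c d = 1 :=
  ⟨r83_of h k f, r84_of h k f, r85_of h k f⟩

end Cfsg.Agent.R10.EndGlue
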