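import Cfsg.Agent.R10.CliffWord
import Cfsg.Agent.SporRec.LyType
import Cfsg.Agent.Ly.WalkCtx

/-!
# Relators (83), (84), (85) of the Lyons group inside the centraliser of an involution

`Frame`: a group of Lyons type with elements `x 0, …, x 4 = a, b, c, d, z` such that words in `a, b, c, d` with equal
`7 × 7` matrices are equal, the relators (73)–(82) hold, `a ^ 4 = t`, and the images of `a, b, c5, d, z` in `A₁₁` are
known.  The closed paths of (83), (84), (85) are fixed by an involution, hence the relators are (conjugate to) words in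
`a, b, c5, d, z, Y ∈ C(t)`, `Y = ρ⁻¹ z ρ`.
-/

set_option autoImplicit false

namespace Cfsg.Agent.R10.EndThree

open Subgroup Equiv Cfsg.Agent.SporRec.TwoAn Cfsg.Agent.SporRec.LyType Cfsg.Agent.R10.CliffWord
  Cfsg.Agent.R10.CliffSign
open Cfsg.Agent.Ly.Mat7 Cfsg.Agent.Ly.Walk Cfsg.Agent.Ly.WalkData Cfsg.Agent.Ly.Pres Cfsg.Agent.Ly.WalkFacts
  Cfsg.Agent.Ly.WalkCtx

/-! ### Words -/

/-- lifts of `a` -/
def wa : List (Fin 11 × Fin 11) := [(1, 0), (6, 8), (8, 9), (9, 7)]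
/-- lift of `b` -/
def wb : List (Fin 11 × Fin 11) := [(1, 0), (1, 2), (2, 3), (3, 4)]
/-- lift of `c5` -/
def we : List (Fin 11 × Fin 11) := [(6, 5), (6, 7), (7, 8), (8, 9)]
/-- lift of `d` -/
def wd : List (Fin 11 × Fin 11) := [(10, 5), (7, 8)]
/-- lift of `z` -/
def wz : List (Fin 11 × Fin 11) := [(10, 4), (6, 8), (8, 9), (9, 7)]
/-- a lift of `Y` : `(0 9 2 7 1 6 3 8)(4 10)` -/
def wy : List (Fin 11 × Fin 11) := [(0, 9), (9, 2), (2, 7), (7, 1), (1, 6), (6, 3), (3, 8), (4, 10)]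

/-- `c5` as a word in `a, c` -/
def c5w : List ℕ := [6, 4, 6, 0, 2, 4, 2, 0]

/-- `ρ` -/
def rho : List ℕ := [6, 5, 5, 0, 3, 6, 4, 6, 3, 6, 5, 6, 1, 4, 2]

/-- `ρ⁻¹` -/
def rhoi : List ℕ := [6, 0, 5, 2, 1, 2, 7, 2, 0, 2, 7, 4, 1, 1, 2]

/-- letters of `C_H(t)`: `0 1 2 3 = a b c5 d`, `4 5 6 7` their inverses, as words in `a, b, c, d` -/
def hl : ℕ → List ℕ
  | 0 => [0]
  | 1 => [1]
  | 2 => c5w
  | 3 => [3]
  | 4 => [4]
  | 5 => [5]
  | 6 => [4, 6, 0, 6, 4, 2, 0, 2]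
  | 7 => [7]
  | _ => []

/-- letters of `C_H(t)` as words in transpositions -/
def tl : ℕ → List (Fin 11 × Fin 11)
  | 0 => wa
  | 1 => wb
  | 2 => we
  | 3 => wd
  | 4 => wa.reverse
  | 5 => wb.reverse
  | 6 => we.reverse
  | 7 => wd.reverse
  | _ => []

/-- expansion -/
def hw : List ℕ → List ℕ
  | [] => []
  | l :: w => hl l ++ hw w

/-- expansion -/
def tw : List ℕ → List (Fin 11 × Fin 11)
  | [] => []
  | l :: w => tl l ++ tw w

theorem ok_tl (l : ℕ) : ok (tl l) = true := by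
  match l with
  | 0 | 1 | 2 | 3 | 4 | 5 | 6 | 7 => decide
  | _ + 8 => rfl

theorem ok_tw (w : List ℕ) : ok (tw w) = true := by
  induction w with
  | nil => rfl
  | cons l w ih => exact ok_append (ok_tl l) ih

/-! ### The relators used -/

/-- relators (73)–(82) -/
def relZ : List (List (Fin 5 × Bool)) := [rel73, rel74, rel75, rel76, rel77, rel78, rel79, rel80, rel81, rel82]

/-- `A⁻¹ B` is conjugate to a relator or its inverse -/
def chk (A B g r : List (Fin 5 × Bool)) (s : Bool) : Bool :=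
  decide (r ∈ relZ) &&
    decide ((FreeGroup.mk A)⁻¹ * FreeGroup.mk B =
      FreeGroup.mk g * (cond s (FreeGroup.mk r) (FreeGroup.mk r)⁻¹) * (FreeGroup.mk g)⁻¹)

section

variable {G : Type*} [Group G] (x : Fin 5 → G) (hz : ∀ w ∈ relZ, FreeGroup.lift x (FreeGroup.mk w) = 1)

include hz

theorem chk_sound {A B g r : List (Fin 5 × Bool)} {s : Bool} (h : chk A B g r s = true) :
    FreeGroup.lift x (FreeGroup.mk A) = FreeGroup.lift x (FreeGroup.mk B) := by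
  rw [chk, Bool.and_eq_true, decide_eq_true_iff, decide_eq_true_iff] at h
  obtain ⟨hr, h⟩ := h
  have h1 := congrArg (FreeGroup.lift x) h
  have h2 : FreeGroup.lift x (cond s (FreeGroup.mk r) (FreeGroup.mk r)⁻¹) = 1 := by
    cases s
    · rw [cond_false, map_inv, hz r hr, inv_one]
    · rw [cond_true, hz r hr]
  rw [map_mul, map_mul, map_mul, h2, mul_one, map_inv, map_inv, mul_inv_cancel] at h1
  exact inv_mul_eq_one.mp h1

end

/-- check a list of conjugacy certificates for conjugation by `z` -/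
def chkK : List (List ℕ) → List (List ℕ) → List (List (Fin 5 × Bool) × List (Fin 5 × Bool) × Bool) → Bool
  | [], [], _ => true
  | k :: ks, l :: ls, (g, r, s) :: cs => chk (fw k ++ [(4, true)]) ((4, true) :: fw l) g r s && chkK ks ls cs
  | _, _, _ => false

section

variable {G : Type*} [Group G] (x : Fin 5 → G) (hz : ∀ w ∈ relZ, FreeGroup.lift x (FreeGroup.mk w) = 1)

include hz

theorem chkK_sound (ks : List (List ℕ)) :
    ∀ (ls : List (List ℕ)) (cs : List (List (Fin 5 × Bool) × List (Fin 5 × Bool) × Bool)), chkK ks ls cs = true →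
      ∀ n, ev (X4 x) (nth ks n) * x 4 = x 4 * ev (X4 x) (nth ls n) := by
  induction ks with
  | nil =>
    intro ls cs h n
    match ls, h with
    | [], _ => rw [nth, ev_nil, one_mul, mul_one]
  | cons k ks ih =>
    intro ls cs h n
    match ls, cs, h with
    | l :: ls, (g, r, s) :: cs, h =>
      rw [chkK, Bool.and_eq_true] at h
      cases n with
      | zero =>
        have h1 := chk_sound x hz h.1
        rw [lift_append, lift_cons, lift_nil, mul_one, lift_cons, cond_true, ← ev_fw, ← ev_fw] at h1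
        exact h1
      | succ n => exact ih ls cs h.2 n

theorem hK (n : ℕ) : ev (X4 x) (nth tK n) * x 4 = x 4 * ev (X4 x) (nth tS n) :=
  chkK_sound x hz tK tS certK (by decide +kernel) n

theorem hKex (k : List ℕ) : ev (X4 x) (ex tK k) * x 4 = x 4 * ev (X4 x) (ex tS k) := ex_conj (hK x hz) k

theorem hKex' (k : List ℕ) : ev (X4 x) (ex tS k) * (x 4)⁻¹ = (x 4)⁻¹ * ev (X4 x) (ex tK k) := by
  rw [mul_inv_eq_iff_eq_mul, mul_assoc, hKex x hz k, inv_mul_cancel_left]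

end

section edges

variable {G : Type*} [Group G] (x : Fin 5 → G) (hz : ∀ w ∈ relZ, FreeGroup.lift x (FreeGroup.mk w) = 1)
  (wp : ∀ v w : List ℕ, eqW v w = true → ev (X4 x) v = ev (X4 x) w)

/-- `Y = ρ⁻¹ z ρ` -/
def Yy : G := ev (X4 x) rhoi * x 4 * ev (X4 x) rho

include hz wp

/-- type A, exponent 1 -/
theorem edgeA {p q g g' k : List ℕ} (h1 : eqW p (hw g ++ ex tK k) = true) (h2 : eqW (ex tS k ++ q) (hw g') = true) :
    ev (X4 x) p * x 4 * ev (X4 x) q = ev (X4 x) (hw g) * x 4 * ev (X4 x) (hw g') := by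
  rw [wp _ _ h1, ← wp _ _ h2, ev_append, ev_append, mul_assoc (ev (X4 x) (hw g)), hKex x hz]
  group

/-- type A, exponent −1 -/
theorem edgeA' {p q g g' k : List ℕ} (h1 : eqW p (hw g ++ ex tS k) = true) (h2 : eqW (ex tK k ++ q) (hw g') = true) :
    ev (X4 x) p * (x 4)⁻¹ * ev (X4 x) q = ev (X4 x) (hw g) * (x 4)⁻¹ * ev (X4 x) (hw g') := by
  rw [wp _ _ h1, ← wp _ _ h2, ev_append, ev_append, mul_assoc (ev (X4 x) (hw g)), hKex' x hz]
  group

omit hz in
theorem rho_inv : ev (X4 x) rhoi = (ev (X4 x) rho)⁻¹ := by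
  rw [eq_inv_iff_mul_eq_one, ← ev_append, wp _ [] (by decide +kernel), ev_nil]

/-- type B, exponent 1 -/
theorem edgeB {p q g g' k : List ℕ} (h1 : eqW p (hw g ++ (rhoi ++ ex tK k)) = true)
    (h2 : eqW (rhoi ++ (ex tS k ++ q)) (hw g') = true) :
    ev (X4 x) p * x 4 * ev (X4 x) q = ev (X4 x) (hw g) * Yy x * ev (X4 x) (hw g') := by
  rw [wp _ _ h1, ← wp _ _ h2, ev_append, ev_append, ev_append, ev_append, Yy,
    mul_assoc (ev (X4 x) (hw g)) (ev (X4 x) rhoi * ev (X4 x) (ex tK k)), mul_assoc (ev (X4 x) rhoi) _ (x 4),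
    hKex x hz, rho_inv x wp]
  group

/-- type B, exponent −1 -/
theorem edgeB' {p q g g' k : List ℕ} (h1 : eqW p (hw g ++ (rhoi ++ ex tS k)) = true)
    (h2 : eqW (rhoi ++ (ex tK k ++ q)) (hw g') = true) :
    ev (X4 x) p * (x 4)⁻¹ * ev (X4 x) q = ev (X4 x) (hw g) * (Yy x)⁻¹ * ev (X4 x) (hw g') := by
  rw [wp _ _ h1, ← wp _ _ h2, ev_append, ev_append, ev_append, ev_append, Yy,
    mul_assoc (ev (X4 x) (hw g)) (ev (X4 x) rhoi * ev (X4 x) (ex tS k)), mul_assoc (ev (X4 x) rhoi) _ (x 4)⁻¹,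
    hKex' x hz, rho_inv x wp]
  group

/-- conjugation by `Y` -/
theorem conjY {g g' k : List ℕ} (h1 : eqW (hw g ++ rhoi) (rhoi ++ ex tK k) = true)
    (h2 : eqW (rhoi ++ ex tS k) (hw g' ++ rhoi) = true) :
    ev (X4 x) (hw g) * Yy x = Yy x * ev (X4 x) (hw g') := by
  have e1 := wp _ _ h1
  have e2 := wp _ _ h2
  rw [ev_append, ev_append] at e1 e2
  rw [Yy, ← mul_assoc, ← mul_assoc, e1, mul_assoc (ev (X4 x) rhoi), hKex x hz]
  have e3 : ev (X4 x) (ex tS k) * ev (X4 x) rho = ev (X4 x) rho * ev (X4 x) (hw g') := by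
    rw [rho_inv x wp] at e2
    rw [inv_mul_eq_iff_eq_mul, ← mul_assoc, eq_mul_inv_iff_mul_eq] at e2
    exact e2
  rw [mul_assoc, mul_assoc, mul_assoc, e3]
  simp only [mul_assoc]

end edges

/-! ### The frame -/

/-- The elements `x 0, …, x 4 = a, b, c, d, z` with the relators (73)–(82) and the images in `A₁₁`. -/
structure Frame {G : Type*} [Group G] (L : LyType G) (x : Fin 5 → G) : Prop where
  /-- words with the same matrix have the same value -/
  wp : ∀ v w : List ℕ, eqW v w = true → ev (X4 x) v = ev (X4 x) w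
  hz : ∀ w ∈ relZ, FreeGroup.lift x (FreeGroup.mk w) = 1
  ht : x 0 ^ 4 = L.t
  a : ∃ A : centralizer ({L.t} : Set G), (A : G) = x 0 ∧ ∀ i, L.K.π A i = pw wa i
  b : ∃ A : centralizer ({L.t} : Set G), (A : G) = x 1 ∧ ∀ i, L.K.π A i = pw wb i
  e : ∃ A : centralizer ({L.t} : Set G), (A : G) = ev (X4 x) c5w ∧ ∀ i, L.K.π A i = pw we i
  d : ∃ A : centralizer ({L.t} : Set G), (A : G) = x 3 ∧ ∀ i, L.K.π A i = pw wd i
  z : ∃ A : centralizer ({L.t} : Set G), (A : G) = x 4 ∧ ∀ i, L.K.π A i = pw wz i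

namespace Frame

variable {G : Type*} [Group G] {L : LyType G} {x : Fin 5 → G} (F : Frame L x)

/-- An element with given image is one of two words. -/
theorem cases_of (v : Eval L.K) {A : centralizer ({L.t} : Set G)} {w : List (Fin 11 × Fin 11)} (hw : ok w = true)
    (h : ∀ i, L.K.π A i = pw w i) : A = v.val w ∨ A = v.val (w ++ zw) := by
  rw [← v.val_mul hw (by decide), v.val_zw]
  refine L.K.lift_eq (Equiv.ext fun i => ?_)
  rw [h, v.π_val hw]

/-- A word which is both trivial and the central involution. -/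
theorem absurd_of (v : Eval L.K) {w : List (Fin 11 × Fin 11)} (hw : ok w = true) (h : v.val w = 1)
    (hg : good (w ++ zw.reverse) = true) : False := by
  rw [v.val_eq hw (by decide) hg, v.val_zw] at h
  exact L.K.z_ne h

/-- words with a general assignment of words to the letters -/
def twG (T : ℕ → List (Fin 11 × Fin 11)) : List ℕ → List (Fin 11 × Fin 11)
  | [] => []
  | l :: w => T l ++ twG T w

theorem tw_eq (w : List ℕ) : tw w = twG tl w := by
  induction w with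
  | nil => rfl
  | cons l w ih => rw [tw, twG, ih]

theorem evG (v : Eval L.K) (T : ℕ → List (Fin 11 × Fin 11)) (w : List ℕ)
    (hT : ∀ l ∈ w, ok (T l) = true ∧ (v.val (T l) : G) = ev (X4 x) (hl l)) :
    ok (twG T w) = true ∧ (v.val (twG T w) : G) = ev (X4 x) (hw w) := by
  induction w with
  | nil =>
    refine ⟨rfl, ?_⟩
    rw [twG, v.val_nil, hw, ev_nil]
    rfl
  | cons l w ih =>
    obtain ⟨h1, h2⟩ := ih (fun k hk => hT k (List.mem_cons_of_mem _ hk))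
    obtain ⟨h3, h4⟩ := hT l List.mem_cons_self
    refine ⟨ok_append h3 h1, ?_⟩
    rw [twG, ← v.val_mul h3 h1, Subgroup.coe_mul, h2, h4, hw, ev_append]

theorem ev_hl0 : ev (X4 x) (hl 0) = x 0 := by rw [hl, ev_cons, ev_nil, mul_one]; rfl

theorem ev_hl1 : ev (X4 x) (hl 1) = x 1 := by rw [hl, ev_cons, ev_nil, mul_one]; rfl

theorem ev_hl3 : ev (X4 x) (hl 3) = x 3 := by rw [hl, ev_cons, ev_nil, mul_one]; rfl

/-- assignment with exact values -/
structure Good (L : LyType G) (x : Fin 5 → G) (v : Eval L.K) (T : ℕ → List (Fin 11 × Fin 11)) : Prop where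
  ok : ∀ l < 4, ok (T l) = true
  inv : ∀ l < 4, T (l + 4) = (T l).reverse
  a : (v.val (T 0) : G) = x 0
  b : (v.val (T 1) : G) = x 1
  e : (v.val (T 2) : G) = ev (X4 x) c5w
  d : (v.val (T 3) : G) = x 3

theorem ev_hl (l : ℕ) (h : l < 4) : ev (X4 x) (hl (l + 4)) = (ev (X4 x) (hl l))⁻¹ := by
  match l, h with
  | 0, _ | 1, _ | 2, _ | 3, _ =>
    simp only [hl, c5w, ev, letter, List.map_cons, List.map_nil, List.prod_cons, List.prod_nil]
    group

theorem Good.letter {v : Eval L.K} {T : ℕ → List (Fin 11 × Fin 11)} (h : Good L x v T) (l : ℕ) (hl8 : l < 8) :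
    CliffWord.ok (T l) = true ∧ (v.val (T l) : G) = ev (X4 x) (hl l) := by
  have h4 : ∀ l < 4, (v.val (T l) : G) = ev (X4 x) (hl l) := by
    intro l hl
    match l, hl with
    | 0, _ => rw [h.a, ev_hl0]
    | 1, _ => rw [h.b, ev_hl1]
    | 2, _ => rw [h.e]; rfl
    | 3, _ => rw [h.d, ev_hl3]
  by_cases hl4 : l < 4
  · exact ⟨h.ok l hl4, h4 l hl4⟩
  · obtain ⟨k, rfl⟩ : ∃ k, l = k + 4 := ⟨l - 4, by omega⟩
    rw [h.inv k (by omega)]
    refine ⟨ok_reverse (h.ok k (by omega)), ?_⟩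
    rw [← v.val_inv (h.ok k (by omega)), ev_hl k (by omega), ← h4 k (by omega)]
    rfl

theorem Good.ev {v : Eval L.K} {T : ℕ → List (Fin 11 × Fin 11)} (h : Good L x v T) (w : List ℕ)
    (hw8 : w.all (fun l => decide (l < 8)) = true) :
    CliffWord.ok (twG T w) = true ∧ (v.val (twG T w) : G) = ev (X4 x) (hw w) :=
  evG v T w fun l hl => h.letter l (of_decide_eq_true (List.all_eq_true.1 hw8 l hl))

/-! ### Exact lifts -/

include F

theorem ev_eq {v w : List ℕ} (h : eqW v w = true) : ev (X4 x) v = ev (X4 x) w := F.wp _ _ h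

omit F in
/-- a lift is exact if a relation holds -/
theorem exact_of (v : Eval L.K) {A : centralizer ({L.t} : Set G)} {w : List (Fin 11 × Fin 11)} (hw : ok w = true)
    (h : ∀ i, L.K.π A i = pw w i) (hn : A ≠ v.val (w ++ zw)) : (v.val w : G) = A := by
  rcases cases_of v hw h with h1 | h1
  · rw [h1]
  · exact absurd h1 hn

theorem exact_b (v : Eval L.K) : (v.val wb : G) = x 1 := by
  obtain ⟨A, hA, hπ⟩ := F.b
  rw [← hA]
  refine exact_of v (by decide) hπ fun h => ?_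
  obtain ⟨h1, h2⟩ := evG (x := x) v (fun _ => wb ++ zw) [1, 1, 1, 1, 1] (by
    intro l hl
    have hl1 : l = 1 := by simpa using hl
    subst hl1
    refine ⟨by decide, ?_⟩
    rw [← h, hA, ev_hl1])
  refine absurd_of v h1 ?_ (by decide +kernel)
  refine Subtype.ext ?_
  rw [h2, F.ev_eq (w := []) (by decide +kernel)]
  rfl

theorem exact_e (v : Eval L.K) : (v.val we : G) = ev (X4 x) c5w := by
  obtain ⟨A, hA, hπ⟩ := F.e
  rw [← hA]
  refine exact_of v (by decide) hπ fun h => ?_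
  obtain ⟨h1, h2⟩ := evG (x := x) v (fun _ => we ++ zw) [2, 2, 2, 2, 2] (by
    intro l hl
    have hl1 : l = 2 := by simpa using hl
    subst hl1
    refine ⟨by decide, ?_⟩
    rw [← h, hA]
    rfl)
  refine absurd_of v h1 ?_ (by decide +kernel)
  refine Subtype.ext ?_
  rw [h2, F.ev_eq (w := []) (by decide +kernel)]
  rfl

theorem exact_d (v : Eval L.K) : (v.val wd : G) = x 3 := by
  obtain ⟨A, hA, hπ⟩ := F.d
  rw [← hA]
  refine exact_of v (by decide) hπ fun h => ?_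
  obtain ⟨h1, h2⟩ := evG (x := x) v (fun l => if l = 2 then we else wd ++ zw) [3, 2, 3, 2, 3, 2, 3, 2, 3, 2] (by
    intro l hl
    have hl1 : l = 2 ∨ l = 3 := by
      simp only [List.mem_cons, List.not_mem_nil, or_false] at hl
      omega
    rcases hl1 with rfl | rfl
    · exact ⟨by decide, F.exact_e v⟩
    · refine ⟨by decide, ?_⟩
      rw [if_neg (by decide), ← h, hA, ev_hl3])
  refine absurd_of v h1 ?_ (by decide +kernel)
  refine Subtype.ext ?_
  rw [h2, F.ev_eq (w := []) (by decide +kernel)]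
  rfl

theorem chi (k : List ℕ) {g g' : List ℕ} (h1 : eqW (hw g ++ rhoi) (rhoi ++ ex tK k) = true)
    (h2 : eqW (rhoi ++ ex tS k) (hw g' ++ rhoi) = true) :
    ev (X4 x) (hw g) * Yy x = Yy x * ev (X4 x) (hw g') := conjY x F.hz F.wp h1 h2

theorem c0 : ev (X4 x) (hw [0, 0]) * Yy x = Yy x * ev (X4 x) (hw [0, 1, 1, 4, 5, 5]) :=
  F.chi [12, 10, 14, 12, 10] (by decide +kernel) (by decide +kernel)

theorem c1 : ev (X4 x) (hw [0, 1, 1, 4, 5, 5]) * Yy x = Yy x * ev (X4 x) (hw [0, 0]) :=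
  F.chi [12, 10, 14, 13, 11] (by decide +kernel) (by decide +kernel)

theorem c2 : ev (X4 x) (hw [3, 2, 3]) * Yy x = Yy x * ev (X4 x) (hw [1, 0, 1, 1, 4]) :=
  F.chi [0, 3, 10, 14, 3, 0] (by decide +kernel) (by decide +kernel)

theorem c3 : ev (X4 x) (hw [1, 0, 1, 1, 4]) * Yy x = Yy x * ev (X4 x) (hw [3, 6, 6, 3]) :=
  F.chi [10, 12, 2, 12, 15] (by decide +kernel) (by decide +kernel)

theorem t_eq : L.t = ev (X4 x) (hw [0, 0]) * ev (X4 x) (hw [0, 0]) := by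
  rw [← F.ht, ← ev_append]
  change x 0 ^ 4 = ev (X4 x) (hl 0 ++ (hl 0 ++ (hl 0 ++ (hl 0 ++ []))))
  rw [ev_append, ev_append, ev_append, ev_append, ev_hl0, ev_nil]
  simp only [pow_succ, pow_zero, one_mul, mul_one, mul_assoc]

theorem Y_mem : Yy x ∈ centralizer ({L.t} : Set G) := by
  rw [L.mem_iff]
  have h1 : L.t = ev (X4 x) (hw [0, 1, 1, 4, 5, 5]) * ev (X4 x) (hw [0, 1, 1, 4, 5, 5]) := by
    rw [F.t_eq, ← ev_append, ← ev_append]
    exact F.ev_eq (by decide +kernel)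
  have h2 : L.t * Yy x = Yy x * L.t := by
    rw [F.t_eq, mul_assoc, F.c0, ← mul_assoc, F.c0, mul_assoc, ← h1, F.t_eq]
  exact h2.symm

/-- `Y` in the centraliser -/
def Yc : centralizer ({L.t} : Set G) := ⟨Yy x, F.Y_mem⟩

end Frame

/-! ### The permutation of `Y` -/

/-- words of the conjugation relations, left side -/
def wP : ℕ → List ℕ
  | 0 => [0, 0]
  | 1 => [0, 1, 1, 4, 5, 5]
  | 2 => [3, 2, 3]
  | _ => [1, 0, 1, 1, 4]

/-- words of the conjugation relations, right side -/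
def wQ : ℕ → List ℕ
  | 0 => [0, 1, 1, 4, 5, 5]
  | 1 => [0, 0]
  | 2 => [1, 0, 1, 1, 4]
  | _ => [3, 6, 6, 3]

/-- table -/
def tabP : ℕ → List (Fin 11)
  | 0 => [0, 1, 2, 3, 4, 5, 9, 8, 7, 6, 10]
  | 1 => [1, 0, 3, 2, 4, 5, 6, 7, 8, 9, 10]
  | 2 => [0, 1, 2, 3, 4, 5, 8, 9, 7, 10, 6]
  | _ => [4, 3, 0, 2, 1, 5, 6, 7, 8, 9, 10]

/-- table -/
def tabQ : ℕ → List (Fin 11)
  | 0 => [1, 0, 3, 2, 4, 5, 6, 7, 8, 9, 10]
  | 1 => [0, 1, 2, 3, 4, 5, 9, 8, 7, 6, 10]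
  | 2 => [4, 3, 0, 2, 1, 5, 6, 7, 8, 9, 10]
  | _ => [0, 1, 2, 3, 4, 5, 9, 6, 10, 8, 7]

/-- lookup -/
def lk (l : List (Fin 11)) (i : Fin 11) : Fin 11 := l.getD i.val 0

/-- the tables are correct for an assignment -/
def tabOk (T : ℕ → List (Fin 11 × Fin 11)) : Bool :=
  (List.range 4).all fun k => (List.finRange 11).all fun i =>
    decide (pw (Frame.twG T (wP k)) i = lk (tabP k) i) && decide (pw (Frame.twG T (wQ k)) i = lk (tabQ k) i)

/-- values on the first orbit -/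
def f0 (v : Fin 11) (i : ℕ) : Fin 11 :=
  match i with
  | 0 => v
  | 1 => lk (tabP 0) v
  | 4 => lk (tabP 2) v
  | 3 => lk (tabP 2) (lk (tabP 0) v)
  | 2 => lk (tabP 0) (lk (tabP 2) (lk (tabP 0) v))
  | _ => 0

/-- values on the last orbit -/
def f6 (v : Fin 11) (i : ℕ) : Fin 11 :=
  match i with
  | 6 => v
  | 9 => lk (tabP 1) v
  | 8 => lk (tabP 3) (lk (tabP 1) v)
  | 7 => lk (tabP 1) (lk (tabP 3) (lk (tabP 1) v))
  | 10 => lk (tabP 3) (lk (tabP 3) (lk (tabP 1) v))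
  | _ => 0

theorem sol0 : ∀ v : Fin 11, (∀ k : Fin 4, ∀ i : Fin 5, lk (tabP k.val) (f0 v i.val) =
    f0 v (lk (tabQ k.val) ⟨i.val, by omega⟩).val) → v = 5 ∨ v = 9 := by
  decide +kernel

theorem sol5 : ∀ v : Fin 11, (∀ k : Fin 4, lk (tabP k.val) v = v) → v = 5 := by
  decide +kernel

theorem sol6 : ∀ v : Fin 11, (∀ k : Fin 4, ∀ i : Fin 5, lk (tabP k.val) (f6 v (i.val + 6)) =
    f6 v (lk (tabQ k.val) ⟨i.val + 6, by omega⟩).val) → v = 3 ∨ v = 5 := by
  decide +kernel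

theorem q0 : ∀ k : Fin 4, ∀ i : Fin 5, (lk (tabQ k.val) ⟨i.val, by omega⟩).val < 5 := by decide +kernel

theorem q6 : ∀ k : Fin 4, ∀ i : Fin 5, 6 ≤ (lk (tabQ k.val) ⟨i.val + 6, by omega⟩).val := by decide +kernel

theorem q5 : ∀ k : Fin 4, lk (tabQ k.val) 5 = 5 := by decide +kernel

theorem pin {σ : Perm (Fin 11)} (h : ∀ k : Fin 4, ∀ i, lk (tabP k.val) (σ i) = σ (lk (tabQ k.val) i)) (i : Fin 11) :
    σ i = pw wy i := by
  have e1 : σ 1 = lk (tabP 0) (σ 0) := (h 0 0).symm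
  have e4 : σ 4 = lk (tabP 2) (σ 0) := (h 2 0).symm
  have e3 : σ 3 = lk (tabP 2) (lk (tabP 0) (σ 0)) := by rw [← e1]; exact (h 2 1).symm
  have e2 : σ 2 = lk (tabP 0) (lk (tabP 2) (lk (tabP 0) (σ 0))) := by rw [← e3]; exact (h 0 3).symm
  have e9 : σ 9 = lk (tabP 1) (σ 6) := (h 1 6).symm
  have e8 : σ 8 = lk (tabP 3) (lk (tabP 1) (σ 6)) := by rw [← e9]; exact (h 3 9).symm
  have e7 : σ 7 = lk (tabP 1) (lk (tabP 3) (lk (tabP 1) (σ 6))) := by rw [← e8]; exact (h 1 8).symm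
  have e10 : σ 10 = lk (tabP 3) (lk (tabP 3) (lk (tabP 1) (σ 6))) := by rw [← e8]; exact (h 3 8).symm
  have g0 : ∀ i : Fin 5, σ ⟨i.val, by omega⟩ = f0 (σ 0) i.val := by
    intro i
    fin_cases i
    · rfl
    · exact e1
    · exact e2
    · exact e3
    · exact e4
  have g6 : ∀ i : Fin 5, σ ⟨i.val + 6, by omega⟩ = f6 (σ 6) (i.val + 6) := by
    intro i
    fin_cases i
    · rfl
    · exact e7
    · exact e8
    · exact e9
    · exact e10
  have s0 := sol0 (σ 0) (by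
    intro k i
    rw [← g0 i, h k]
    exact g0 ⟨_, q0 k i⟩)
  have s5 := sol5 (σ 5) (by
    intro k
    rw [h k, q5 k])
  have s6 := sol6 (σ 6) (by
    intro k i
    rw [← g6 i, h k]
    have h1 := g6 ⟨(lk (tabQ k.val) ⟨i.val + 6, by omega⟩).val - 6, by omega⟩
    have h2 : (lk (tabQ k.val) ⟨i.val + 6, by omega⟩).val - 6 + 6 = (lk (tabQ k.val) ⟨i.val + 6, by omega⟩).val :=
      Nat.sub_add_cancel (q6 k i)
    simp only [h2] at h1
    exact h1)
  have n0 : σ 0 ≠ 5 := by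
    intro h0
    have : σ 0 = σ 5 := h0.trans s5.symm
    exact absurd (σ.injective this) (by decide)
  have n6 : σ 6 ≠ 5 := by
    intro h0
    have : σ 6 = σ 5 := h0.trans s5.symm
    exact absurd (σ.injective this) (by decide)
  have s0' : σ 0 = 9 := s0.resolve_left n0
  have s6' : σ 6 = 3 := s6.resolve_right n6
  rw [s0'] at e1 e2 e3 e4
  rw [s6'] at e7 e8 e9 e10
  fin_cases i
  · exact s0'
  · exact e1
  · exact e2
  · exact e3
  · exact e4
  · exact s5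
  · exact s6'
  · exact e7
  · exact e8
  · exact e9
  · exact e10

namespace Frame

variable {G : Type*} [Group G] {L : LyType G} {x : Fin 5 → G} (F : Frame L x)

include F in
theorem conj_c (k : ℕ) : ev (X4 x) (hw (wP k)) * Yy x = Yy x * ev (X4 x) (hw (wQ k)) := by
  match k with
  | 0 => exact F.c0
  | 1 => exact F.c1
  | 2 => exact F.c2
  | _ + 3 => exact F.c3

theorem wP_lt (k : ℕ) : (wP k).all (fun l => decide (l < 8)) = true := by
  match k with
  | 0 | 1 | 2 => decide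
  | _ + 3 => rfl

theorem wQ_lt (k : ℕ) : (wQ k).all (fun l => decide (l < 8)) = true := by
  match k with
  | 0 | 1 | 2 => decide
  | _ + 3 => rfl

theorem pi_Y {v : Eval L.K} {T : ℕ → List (Fin 11 × Fin 11)} (g : Good L x v T) (hT : tabOk T = true) (i : Fin 11) :
    L.K.π F.Yc i = pw wy i := by
  refine pin (fun k i => ?_) i
  have h1 := List.all_eq_true.1 hT k.val (List.mem_range.2 k.isLt)
  have h2 := List.all_eq_true.1 h1 i (List.mem_finRange i)
  have h1' := List.all_eq_true.1 h1 (L.K.π F.Yc i) (List.mem_finRange _)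
  rw [Bool.and_eq_true, decide_eq_true_iff, decide_eq_true_iff] at h2 h1'
  obtain ⟨a1, a2⟩ := g.ev (wP k.val) (wP_lt _)
  obtain ⟨b1, b2⟩ := g.ev (wQ k.val) (wQ_lt _)
  have h3 : v.val (twG T (wP k.val)) * F.Yc = F.Yc * v.val (twG T (wQ k.val)) := by
    refine Subtype.ext ?_
    rw [Subgroup.coe_mul, Subgroup.coe_mul, a2, b2]
    exact F.conj_c k.val
  have h4 := congrArg (fun c => L.K.π c i) h3
  simp only [map_mul, Perm.mul_apply] at h4
  rw [v.π_val a1, v.π_val b1, h1'.1, h2.2] at h4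
  exact h4

/-- second assignment -/
def tl2 : ℕ → List (Fin 11 × Fin 11)
  | 0 => wa ++ zw
  | 4 => (wa ++ zw).reverse
  | l => tl l

theorem tabOk1 : tabOk tl = true := by decide +kernel

theorem tabOk2 : tabOk tl2 = true := by decide +kernel

include F

theorem zz : x 4 * x 4 = x 0 * x 0 := by
  have h := F.hz rel81 (by simp [relZ])
  rw [rel81, lift_cons, lift_cons, lift_cons, lift_cons, lift_nil] at h
  change x 4 * (x 4 * ((x 0)⁻¹ * ((x 0)⁻¹ * 1))) = 1 at h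
  rw [mul_one, ← mul_assoc, ← mul_inv_rev, mul_inv_eq_one] at h
  exact h

theorem Y_sq : Yy x * Yy x = ev (X4 x) (hw [0, 5, 0, 1, 4, 1, 1]) := by
  have h1 : Yy x * Yy x = ev (X4 x) (rhoi ++ (([0] ++ [0]) ++ rho)) := by
    rw [ev_append, ev_append, ev_append]
    have h0 : ev (X4 x) [0] = x 0 := ev_hl0
    rw [h0, ← F.zz, Yy, rho_inv x F.wp]
    group
  rw [h1]
  exact F.ev_eq (by decide +kernel)

theorem good_a (v : Eval L.K) (h : (v.val wa : G) = x 0) : Good L x v tl where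
  ok l _ := ok_tl l
  inv l hl := by
    match l, hl with
    | 0, _ | 1, _ | 2, _ | 3, _ => rfl
  a := h
  b := F.exact_b v
  e := F.exact_e v
  d := F.exact_d v

theorem good_a2 (v : Eval L.K) (h : (v.val (wa ++ zw) : G) = x 0) : Good L x v tl2 where
  ok l hl := by
    match l, hl with
    | 0, _ | 1, _ | 2, _ | 3, _ => decide
  inv l hl := by
    match l, hl with
    | 0, _ | 1, _ | 2, _ | 3, _ => rfl
  a := h
  b := F.exact_b v
  e := F.exact_e v
  d := F.exact_d v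

theorem exact_a (v : Eval L.K) : (v.val wa : G) = x 0 := by
  obtain ⟨A, hA, hπ⟩ := F.a
  rw [← hA]
  refine exact_of v (by decide) hπ fun h => ?_
  have g := F.good_a2 v (by rw [← h, hA])
  obtain ⟨h1, h2⟩ := g.ev [0, 5, 0, 1, 4, 1, 1] (by decide)
  have h3 : F.Yc * F.Yc = v.val (twG tl2 [0, 5, 0, 1, 4, 1, 1]) := by
    refine Subtype.ext ?_
    rw [h2, ← F.Y_sq]
    rfl
  rcases cases_of v (by decide) (F.pi_Y g tabOk2) with hy | hy
  · rw [hy, v.val_mul (by decide) (by decide), ← mul_inv_eq_one, v.val_inv h1,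
      v.val_mul (by decide) (ok_reverse h1)] at h3
    exact absurd_of v (by decide +kernel) h3 (by decide +kernel)
  · rw [hy, v.val_mul (by decide) (by decide), ← mul_inv_eq_one, v.val_inv h1,
      v.val_mul (by decide) (ok_reverse h1)] at h3
    exact absurd_of v (by decide +kernel) h3 (by decide +kernel)

theorem goodL (v : Eval L.K) : Good L x v tl := F.good_a v (F.exact_a v)

theorem r82 : ev (X4 x) (hw [5, 5, 0, 1, 1]) * x 4 * (ev (X4 x) (hw [5, 5, 0, 1, 1]) * x 4) *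
    (ev (X4 x) (hw [5, 5, 0, 1, 1]) * x 4) * (x 0 * x 0) = 1 := by
  have h := F.hz rel82 (by simp [relZ])
  rw [rel82] at h
  simp only [lift_cons, lift_nil, cond_true, cond_false, mul_one] at h
  have h0 : ev (X4 x) (hw [5, 5, 0, 1, 1]) = (x 1)⁻¹ * ((x 1)⁻¹ * (x 0 * (x 1 * x 1))) := by
    change ev (X4 x) [5, 5, 0, 1, 1] = _
    simp only [ev_cons, ev_nil, mul_one]
    rfl
  rw [h0]
  simp only [mul_assoc]
  exact h

theorem exact_z (v : Eval L.K) : (v.val wz : G) = x 4 := by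
  obtain ⟨A, hA, hπ⟩ := F.z
  rw [← hA]
  refine exact_of v (by decide) hπ fun h => ?_
  obtain ⟨h1, h2⟩ := (F.goodL v).ev [5, 5, 0, 1, 1] (by decide)
  have h3 : v.val (twG tl [5, 5, 0, 1, 1]) * v.val (wz ++ zw) * (v.val (twG tl [5, 5, 0, 1, 1]) * v.val (wz ++ zw)) *
      (v.val (twG tl [5, 5, 0, 1, 1]) * v.val (wz ++ zw)) * (v.val wa * v.val wa) = 1 := by
    refine Subtype.ext ?_
    simp only [Subgroup.coe_mul]
    rw [h2, ← h, hA, F.exact_a v]
    exact F.r82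
  rw [v.val_mul h1 (by decide), v.val_mul (by decide +kernel) (by decide +kernel),
    v.val_mul (by decide +kernel) (by decide +kernel), v.val_mul (by decide) (by decide),
    v.val_mul (by decide +kernel) (by decide +kernel)] at h3
  exact absurd_of v (by decide +kernel) h3 (by decide +kernel)

/-- The lift of `Y`. -/
theorem Y_cases (v : Eval L.K) : (v.val wy : G) = Yy x ∨ (v.val (wy ++ zw) : G) = Yy x := by
  rcases cases_of v (by decide) (F.pi_Y (F.goodL v) tabOk1) with h | h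
  · exact Or.inl (congrArg Subtype.val h).symm
  · exact Or.inr (congrArg Subtype.val h).symm

end Frame

/-! ### The closed paths -/

/-- inverse letter -/
def il : ℕ → ℕ
  | 0 => 4
  | 1 => 5
  | 2 => 6
  | 3 => 7
  | 4 => 0
  | 5 => 1
  | 6 => 2
  | 7 => 3
  | _ => 8

/-- inverse word -/
def iw : List ℕ → List ℕ
  | [] => []
  | l :: w => iw w ++ [il l]

theorem ev_iw {G : Type*} [Group G] (X : Fin 4 → G) (w : List ℕ) : ev X (iw w) = (ev X w)⁻¹ := by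
  induction w with
  | nil => rw [iw, ev_nil, inv_one]
  | cons l w ih =>
    rw [iw, ev_append, ih, ev_cons, ev_cons, ev_nil, mul_one, mul_inv_rev]
    congr 1
    match l with
    | 0 | 1 | 2 | 3 => rfl
    | 4 | 5 | 6 | 7 => exact (inv_inv _).symm
    | _ + 8 => exact inv_one.symm

theorem close3 {G : Type*} [Group G] {K0 K1 K2 g1 g2 g3 z : G}
    (h : ((K0 * g3) * z * K2⁻¹) * ((K2 * g2) * z * K1⁻¹) * ((K1 * g1) * z * K0⁻¹) = 1) :
    g3 * z * g2 * z * g1 * z = 1 := by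
  have h1 : K0 * (g3 * z * g2 * z * g1 * z) * K0⁻¹ = 1 := by
    rw [← h]
    group
  exact (conj_eq_one_iff).1 h1

theorem close4 {G : Type*} [Group G] {K0 K1 K2 K3 g0 g1 g2 g3 g4 z1 z2 z3 z4 : G}
    (h : ((K0 * g4) * z4 * K3⁻¹) * ((K3 * g3) * z3 * K2⁻¹) * ((K2 * g2) * z2 * K1⁻¹) *
      ((K1 * g1) * z1 * (g0 * K0⁻¹)) = 1) :
    g4 * z4 * g3 * z3 * g2 * z2 * g1 * z1 * g0 = 1 := by
  have h1 : K0 * (g4 * z4 * g3 * z3 * g2 * z2 * g1 * z1 * g0) * K0⁻¹ = 1 := by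
    rw [← h]
    group
  exact (conj_eq_one_iff).1 h1

namespace Frame

variable {G : Type*} [Group G] {L : LyType G} {x : Fin 5 → G} (F : Frame L x)

theorem br {v : Eval L.K} {T : ℕ → List (Fin 11 × Fin 11)} (g : Good L x v T) {y : List (Fin 11 × Fin 11)} {Y' : G}
    (hy : ok y = true) (h : (v.val y : G) = Y') (u w : List ℕ) (hu : u.all (fun l => decide (l < 8)) = true)
    (hw8 : w.all (fun l => decide (l < 8)) = true) :
    ok (twG T u ++ y ++ twG T w) = true ∧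
      ev (X4 x) (hw u) * Y' * ev (X4 x) (hw w) = (v.val (twG T u ++ y ++ twG T w) : G) := by
  obtain ⟨a1, a2⟩ := g.ev u hu
  obtain ⟨b1, b2⟩ := g.ev w hw8
  refine ⟨ok_append (ok_append a1 hy) b1, ?_⟩
  rw [← a2, ← b2, ← h, ← v.val_mul (ok_append a1 hy) b1, ← v.val_mul a1 hy]
  rfl

theorem fin3 (v : Eval L.K) {w1 w2 w3 : List (Fin 11 × Fin 11)} (h1 : ok w1 = true) (h2 : ok w2 = true)
    (h3 : ok w3 = true) (h : good (w3 ++ w2 ++ w1 ++ ([] : List (Fin 11 × Fin 11)).reverse) = true) :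
    (v.val w3 : G) * (v.val w2 : G) * (v.val w1 : G) = 1 := by
  have h4 : v.val w3 * v.val w2 * v.val w1 = 1 := by
    rw [v.val_mul h3 h2, v.val_mul (ok_append h3 h2) h1,
      v.val_eq (ok_append (ok_append h3 h2) h1) (by decide) h, v.val_nil]
  exact congrArg Subtype.val h4

theorem fin4 (v : Eval L.K) {w1 w2 w3 w4 : List (Fin 11 × Fin 11)} (h1 : ok w1 = true) (h2 : ok w2 = true)
    (h3 : ok w3 = true) (h4 : ok w4 = true)
    (h : good (w4 ++ w3 ++ w2 ++ w1 ++ ([] : List (Fin 11 × Fin 11)).reverse) = true) :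
    (v.val w4 : G) * (v.val w3 : G) * (v.val w2 : G) * (v.val w1 : G) = 1 := by
  have h4 : v.val w4 * v.val w3 * v.val w2 * v.val w1 = 1 := by
    rw [v.val_mul h4 h3, v.val_mul (ok_append h4 h3) h2, v.val_mul (ok_append (ok_append h4 h3) h2) h1,
      v.val_eq (ok_append (ok_append (ok_append h4 h3) h2) h1) (by decide) h, v.val_nil]
  exact congrArg Subtype.val h4

theorem y_inv {v : Eval L.K} {y : List (Fin 11 × Fin 11)} (hy : ok y = true) {Y' : G} (h : (v.val y : G) = Y') :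
    (v.val y.reverse : G) = Y'⁻¹ := by
  rw [← h, ← v.val_inv hy]
  rfl

include F

/-- relator (83) -/
theorem rel83' : ev (X4 x) [6, 7, 4, 6, 4, 1, 6, 7] * x 4 *
    ev (X4 x) [4, 3, 5, 6, 4, 1, 6, 7, 1, 6, 5, 4, 6, 0, 5, 0, 1, 0, 5] * x 4 *
    ev (X4 x) [4, 6, 7, 0, 6, 5, 0, 6, 7, 4, 6, 0, 2, 5, 5, 6, 5, 4, 5, 5] * x 4 = 1 := by
  obtain ⟨v⟩ := exists_eval L.K
  have e1 := edgeA x F.hz F.wp (p := [2, 1, 0, 3, 5, 2, 1, 0, 3, 5] ++
      [4, 6, 7, 0, 6, 5, 0, 6, 7, 4, 6, 0, 2, 5, 5, 6, 5, 4, 5, 5]) (q := iw [2, 1, 2, 4, 2, 4])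
    (g := [7]) (g' := [6, 0, 5]) (k := [0, 12, 4, 12, 10, 0]) (by decide +kernel) (by decide +kernel)
  have e2 := edgeB x F.hz F.wp (p := [2, 3, 5, 2, 5, 2, 3, 6, 4, 3] ++
      [4, 3, 5, 6, 4, 1, 6, 7, 1, 6, 5, 4, 6, 0, 5, 0, 1, 0, 5]) (q := iw [2, 1, 0, 3, 5, 2, 1, 0, 3, 5])
    (g := [1, 0, 2, 5, 4]) (g' := [4, 5, 4]) (k := [4, 14, 6, 13, 15]) (by decide +kernel) (by decide +kernel)
  have e3 := edgeB x F.hz F.wp (p := [2, 1, 2, 4, 2, 4] ++ [6, 7, 4, 6, 4, 1, 6, 7])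
    (q := iw [2, 3, 5, 2, 5, 2, 3, 6, 4, 3])
    (g := [3]) (g' := [0, 5, 6, 7]) (k := [11, 13, 7, 15, 7]) (by decide +kernel) (by decide +kernel)
  rw [ev_append, ev_iw] at e1 e2 e3
  refine close3 (K0 := ev (X4 x) [2, 1, 2, 4, 2, 4]) (K1 := ev (X4 x) [2, 1, 0, 3, 5, 2, 1, 0, 3, 5])
    (K2 := ev (X4 x) [2, 3, 5, 2, 5, 2, 3, 6, 4, 3]) ?_
  rw [e1, e2, e3]
  obtain ⟨a1, a2⟩ := br (F.goodL v) (y := wz) (by decide) (F.exact_z v) [7] [6, 0, 5] (by decide) (by decide)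
  rw [a2]
  rcases F.Y_cases v with hy | hy
  · obtain ⟨b1, b2⟩ := br (F.goodL v) (y := wy) (by decide) hy [1, 0, 2, 5, 4] [4, 5, 4] (by decide) (by decide)
    obtain ⟨c1, c2⟩ := br (F.goodL v) (y := wy) (by decide) hy [3] [0, 5, 6, 7] (by decide) (by decide)
    rw [b2, c2]
    exact fin3 v a1 b1 c1 (by decide +kernel)
  · obtain ⟨b1, b2⟩ := br (F.goodL v) (y := wy ++ zw) (by decide) hy [1, 0, 2, 5, 4] [4, 5, 4] (by decide) (by decide)
    obtain ⟨c1, c2⟩ := br (F.goodL v) (y := wy ++ zw) (by decide) hy [3] [0, 5, 6, 7] (by decide) (by decide)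
    rw [b2, c2]
    exact fin3 v a1 b1 c1 (by decide +kernel)

/-- relator (84) -/
theorem rel84' : ev (X4 x) [] * (x 4)⁻¹ *
    ev (X4 x) [7] * (x 4)⁻¹ *
    ev (X4 x) [4, 6, 7, 1, 4, 5, 6, 7, 1, 4, 5, 6, 5, 0, 5, 5, 0, 5] * x 4 *
    ev (X4 x) [3] * x 4 *
    ev (X4 x) [0, 1, 4, 1, 1, 4, 1, 1, 6, 0, 2, 1, 2, 5, 3, 2, 5, 5, 3, 2, 1, 2] = 1 := by
  obtain ⟨v⟩ := exists_eval L.K
  have e1 := edgeB x F.hz F.wp (p := [2, 1, 0, 3, 5, 2, 0, 3, 5, 2, 1] ++
      [3])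
    (q := [0, 1, 4, 1, 1, 4, 1, 1, 6, 0, 2, 1, 2, 5, 3, 2, 5, 5, 3, 2, 1, 2] ++ iw [])
    (g := [0, 1, 3, 2, 4, 5]) (g' := [1, 0, 5]) (k := [10, 14, 12]) (by decide +kernel) (by decide +kernel)
  have e2 := edgeB x F.hz F.wp (p := [] ++
      [4, 6, 7, 1, 4, 5, 6, 7, 1, 4, 5, 6, 5, 0, 5, 5, 0, 5])
    (q := iw [2, 1, 0, 3, 5, 2, 0, 3, 5, 2, 1])
    (g := [1, 1]) (g' := [0, 1, 0, 5, 4]) (k := [14, 12, 3]) (by decide +kernel) (by decide +kernel)
  have e3 := edgeA' x F.hz F.wp (p := [] ++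
      [7])
    (q := iw [])
    (g := [7]) (g' := []) (k := []) (by decide +kernel) (by decide +kernel)
  have e4 := edgeA' x F.hz F.wp (p := [] ++
      [])
    (q := iw [])
    (g := []) (g' := []) (k := []) (by decide +kernel) (by decide +kernel)
  rw [ev_append, ev_append, ev_iw] at e1
  rw [ev_append, ev_iw] at e2 e3 e4
  refine close4 (K0 := ev (X4 x) []) (K1 := ev (X4 x) [2, 1, 0, 3, 5, 2, 0, 3, 5, 2, 1]) (K2 := ev (X4 x) []) (K3 := ev (X4 x) []) ?_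
  rw [e1, e2, e3, e4]
  have zi := y_inv (y := wz) (by decide) (F.exact_z v)
  obtain ⟨c1, c2⟩ := br (F.goodL v) (y := wz.reverse) (by decide) zi [7] [] (by decide) (by decide)
  obtain ⟨d1, d2⟩ := br (F.goodL v) (y := wz.reverse) (by decide) zi [] [] (by decide) (by decide)
  rcases F.Y_cases v with hy | hy
  · obtain ⟨a1, a2⟩ := br (F.goodL v) (y := wy) (by decide) hy [0, 1, 3, 2, 4, 5] [1, 0, 5] (by decide) (by decide)
    obtain ⟨b1, b2⟩ := br (F.goodL v) (y := wy) (by decide) hy [1, 1] [0, 1, 0, 5, 4] (by decide) (by decide)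
    rw [a2, b2, c2, d2]
    exact fin4 v a1 b1 c1 d1 (by decide +kernel)
  · obtain ⟨a1, a2⟩ := br (F.goodL v) (y := (wy ++ zw)) (by decide) hy [0, 1, 3, 2, 4, 5] [1, 0, 5] (by decide) (by decide)
    obtain ⟨b1, b2⟩ := br (F.goodL v) (y := (wy ++ zw)) (by decide) hy [1, 1] [0, 1, 0, 5, 4] (by decide) (by decide)
    rw [a2, b2, c2, d2]
    exact fin4 v a1 b1 c1 d1 (by decide +kernel)

/-- relator (85) -/
theorem rel85' : ev (X4 x) [] * x 4 *
    ev (X4 x) [1, 0, 5, 4, 5, 5, 4, 5, 2, 1, 1, 2, 1, 3, 2, 5, 5, 3, 2, 1, 2] * x 4 *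
    ev (X4 x) [0, 5, 5, 4, 2, 1, 6, 1, 4, 6, 6, 3, 2, 0, 2, 4, 2, 5, 7] * (x 4)⁻¹ *
    ev (X4 x) [6, 5, 6, 7, 1, 1, 6, 7, 5, 6, 5, 5, 6, 1, 0, 1, 1, 0, 1, 4, 5] * (x 4)⁻¹ *
    ev (X4 x) [7, 0, 2, 1, 2, 4, 6, 7, 0, 5, 4, 2, 4, 5, 5, 4, 1, 4] = 1 := by
  obtain ⟨v⟩ := exists_eval L.K
  have e1 := edgeB' x F.hz F.wp (p := [2, 1, 2, 0, 3, 6, 6, 3, 6, 1, 2] ++
      [6, 5, 6, 7, 1, 1, 6, 7, 5, 6, 5, 5, 6, 1, 0, 1, 1, 0, 1, 4, 5])
    (q := [7, 0, 2, 1, 2, 4, 6, 7, 0, 5, 4, 2, 4, 5, 5, 4, 1, 4] ++ iw [2, 1, 0, 3, 5, 2, 0, 3, 5, 2, 1, 0])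
    (g := [1, 1, 6, 0, 1, 1]) (g' := [1, 2]) (k := [2, 13, 4, 6, 10, 12]) (by decide +kernel) (by decide +kernel)
  have e2 := edgeB' x F.hz F.wp (p := [2, 1, 2, 0, 3, 6, 6, 3, 6, 1, 2] ++
      [0, 5, 5, 4, 2, 1, 6, 1, 4, 6, 6, 3, 2, 0, 2, 4, 2, 5, 7])
    (q := iw [2, 1, 2, 0, 3, 6, 6, 3, 6, 1, 2])
    (g := [1, 3, 0]) (g' := [0, 0, 2]) (k := [2, 10, 4, 15, 7, 13]) (by decide +kernel) (by decide +kernel)
  have e3 := edgeB x F.hz F.wp (p := [2, 1, 0, 3, 5, 2, 0, 3, 5, 2, 1, 0] ++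
      [1, 0, 5, 4, 5, 5, 4, 5, 2, 1, 1, 2, 1, 3, 2, 5, 5, 3, 2, 1, 2])
    (q := iw [2, 1, 2, 0, 3, 6, 6, 3, 6, 1, 2])
    (g := [1]) (g' := [0, 1, 2, 3, 2, 4, 1]) (k := [14, 3, 12, 14, 4, 11]) (by decide +kernel) (by decide +kernel)
  have e4 := edgeB x F.hz F.wp (p := [2, 1, 0, 3, 5, 2, 0, 3, 5, 2, 1, 0] ++
      [])
    (q := iw [2, 1, 0, 3, 5, 2, 0, 3, 5, 2, 1, 0])
    (g := [4, 1, 1]) (g' := [5, 5, 0, 5, 5]) (k := [0, 10, 12, 14, 5, 12, 0]) (by decide +kernel) (by decide +kernel)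
  rw [ev_append, ev_append, ev_iw] at e1
  rw [ev_append, ev_iw] at e2 e3 e4
  refine close4 (K0 := ev (X4 x) [2, 1, 0, 3, 5, 2, 0, 3, 5, 2, 1, 0]) (K1 := ev (X4 x) [2, 1, 2, 0, 3, 6, 6, 3, 6, 1, 2]) (K2 := ev (X4 x) [2, 1, 2, 0, 3, 6, 6, 3, 6, 1, 2]) (K3 := ev (X4 x) [2, 1, 0, 3, 5, 2, 0, 3, 5, 2, 1, 0]) ?_
  rw [e1, e2, e3, e4]
  rcases F.Y_cases v with hy | hy
  · have yi := y_inv (y := wy) (by decide) hy
    obtain ⟨a1, a2⟩ := br (F.goodL v) (y := wy.reverse) (by decide) yi [1, 1, 6, 0, 1, 1] [1, 2] (by decide) (by decide)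
    obtain ⟨b1, b2⟩ := br (F.goodL v) (y := wy.reverse) (by decide) yi [1, 3, 0] [0, 0, 2] (by decide) (by decide)
    obtain ⟨c1, c2⟩ := br (F.goodL v) (y := wy) (by decide) hy [1] [0, 1, 2, 3, 2, 4, 1] (by decide) (by decide)
    obtain ⟨d1, d2⟩ := br (F.goodL v) (y := wy) (by decide) hy [4, 1, 1] [5, 5, 0, 5, 5] (by decide) (by decide)
    rw [a2, b2, c2, d2]
    exact fin4 v a1 b1 c1 d1 (by decide +kernel)
  · have yi := y_inv (y := (wy ++ zw)) (by decide) hy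
    obtain ⟨a1, a2⟩ := br (F.goodL v) (y := (wy ++ zw).reverse) (by decide) yi [1, 1, 6, 0, 1, 1] [1, 2] (by decide) (by decide)
    obtain ⟨b1, b2⟩ := br (F.goodL v) (y := (wy ++ zw).reverse) (by decide) yi [1, 3, 0] [0, 0, 2] (by decide) (by decide)
    obtain ⟨c1, c2⟩ := br (F.goodL v) (y := (wy ++ zw)) (by decide) hy [1] [0, 1, 2, 3, 2, 4, 1] (by decide) (by decide)
    obtain ⟨d1, d2⟩ := br (F.goodL v) (y := (wy ++ zw)) (by decide) hy [4, 1, 1] [5, 5, 0, 5, 5] (by decide) (by decide)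
    rw [a2, b2, c2, d2]
    exact fin4 v a1 b1 c1 d1 (by decide +kernel)

end Frame

end Cfsg.Agent.R10.EndThree
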