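import Mathlib

/-!
# Calculus in an extraspecial group `5^{1+4}` given by generators

`Heis G`: elements `c 0 … c 3, z` of order dividing 5, `z` central, with given commutators.
`N v m`: normal form, `N_mul`: product formula; `R v x`: `x` is in the coset `v` modulo `⟨z⟩`.
-/

set_option autoImplicit false

namespace Cfsg.Agent.R10.Heis

/-- vectors -/
abbrev V : Type := Fin 4 → ZMod 5

section pw

variable {G : Type*} [Group G]

/-- power with exponent modulo 5 -/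
def pw (g : G) (k : ZMod 5) : G := g ^ k.val

theorem pw_natCast {g : G} (hg : g ^ 5 = 1) (n : ℕ) : pw g (n : ZMod 5) = g ^ n := by
  rw [pw, ZMod.val_natCast, ← pow_eq_pow_mod n hg]

theorem pw_add {g : G} (hg : g ^ 5 = 1) (a b : ZMod 5) : pw g (a + b) = pw g a * pw g b := by
  have h : a + b = ((a.val + b.val : ℕ) : ZMod 5) := by
    push_cast; rw [ZMod.natCast_zmod_val, ZMod.natCast_zmod_val]
  rw [h, pw_natCast hg, pow_add]; rfl

theorem pw_zero (g : G) : pw g 0 = 1 := by simp [pw]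

theorem pw_one (g : G) : pw g 1 = g := by
  have : (1 : ZMod 5).val = 1 := rfl
  rw [pw, this, pow_one]

theorem pow_comm_aux {p q z : G} (hp : Commute z p) (hq : Commute z q) {k : ℕ} (h : p * q = q * p * z ^ k)
    (a b : ℕ) : p ^ a * q ^ b = q ^ b * p ^ a * z ^ (k * a * b) := by
  have h1 : ∀ b : ℕ, p * q ^ b = q ^ b * p * z ^ (k * b) := by
    intro b
    induction b with
    | zero => simp
    | succ b ih =>
      have e : z ^ (k * b) * q = q * z ^ (k * b) := (hq.pow_left _).eq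
      rw [pow_succ, ← mul_assoc, ih, mul_assoc (q ^ b * p), e, ← mul_assoc, mul_assoc (q ^ b) p, h, Nat.mul_succ,
        pow_add]
      simp only [mul_assoc]
      rw [← pow_add, ← pow_add, Nat.add_comm]
  induction a with
  | zero => simp
  | succ a ih =>
    have e : z ^ (k * a * b) * p = p * z ^ (k * a * b) := (hp.pow_left _).eq
    rw [pow_succ, mul_assoc, h1, ← mul_assoc, ← mul_assoc, ih, mul_assoc (q ^ b * p ^ a), e]
    simp only [mul_assoc]
    rw [← pow_add]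
    congr 4
    ring

theorem pw_comm {p q z : G} (hz5 : z ^ 5 = 1) (hp : Commute z p) (hq : Commute z q) {k : ℕ}
    (h : p * q = q * p * z ^ k) (a b : ZMod 5) : pw p a * pw q b = pw q b * (pw p a * pw z (k * a * b)) := by
  have e : (k : ZMod 5) * a * b = ((k * a.val * b.val : ℕ) : ZMod 5) := by
    push_cast; rw [ZMod.natCast_zmod_val, ZMod.natCast_zmod_val]
  rw [e, pw_natCast hz5, ← mul_assoc]
  exact pow_comm_aux hp hq h _ _

theorem commute_pw {p q : G} (h : Commute p q) (a b : ZMod 5) : Commute (pw p a) (pw q b) := h.pow_pow _ _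

end pw

/-- A group with five elements satisfying the relations of `5^{1+4}`. -/
structure Data (G : Type*) [Group G] where
  /-- generators -/
  c : Fin 4 → G
  /-- the central generator -/
  z : G
  c5 : ∀ i, c i ^ 5 = 1
  z5 : z ^ 5 = 1
  zc : ∀ i, z * c i = c i * z
  h01 : c 1 * c 0 = c 0 * c 1 * z ^ 4
  h02 : c 2 * c 0 = c 0 * c 2 * z ^ 2
  h03 : c 3 * c 0 = c 0 * c 3 * z ^ 3
  h12 : c 2 * c 1 = c 1 * c 2 * z ^ 1
  h13 : c 3 * c 1 = c 1 * c 3 * z ^ 0
  h23 : c 3 * c 2 = c 2 * c 3 * z ^ 1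

/-- the cocycle -/
def β (v w : V) : ZMod 5 := w 0 * (4 * v 1 + 2 * v 2 + 3 * v 3) + w 1 * v 2 + w 2 * v 3

namespace Data

variable {G : Type*} [Group G] (H : Data G)

/-- normal form -/
def N (v : V) (m : ZMod 5) : G :=
  pw (H.c 0) (v 0) * (pw (H.c 1) (v 1) * (pw (H.c 2) (v 2) * (pw (H.c 3) (v 3) * pw H.z m)))

theorem zmove (i : Fin 4) (m a : ZMod 5) : pw H.z m * pw (H.c i) a = pw (H.c i) a * pw H.z m :=
  (commute_pw (H.zc i) m a).eq

theorem zmove' (i : Fin 4) (m a : ZMod 5) (r : G) :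
    pw H.z m * (pw (H.c i) a * r) = pw (H.c i) a * (pw H.z m * r) := by
  rw [← mul_assoc, zmove, mul_assoc]

theorem s01 (a b : ZMod 5) : pw (H.c 1) a * pw (H.c 0) b = pw (H.c 0) b * (pw (H.c 1) a * pw H.z (4 * a * b)) := by
  have := pw_comm H.z5 (H.zc 1) (H.zc 0) H.h01 a b
  exact_mod_cast this

theorem s02 (a b : ZMod 5) : pw (H.c 2) a * pw (H.c 0) b = pw (H.c 0) b * (pw (H.c 2) a * pw H.z (2 * a * b)) := by
  have := pw_comm H.z5 (H.zc 2) (H.zc 0) H.h02 a b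
  exact_mod_cast this

theorem s03 (a b : ZMod 5) : pw (H.c 3) a * pw (H.c 0) b = pw (H.c 0) b * (pw (H.c 3) a * pw H.z (3 * a * b)) := by
  have := pw_comm H.z5 (H.zc 3) (H.zc 0) H.h03 a b
  exact_mod_cast this

theorem s12 (a b : ZMod 5) : pw (H.c 2) a * pw (H.c 1) b = pw (H.c 1) b * (pw (H.c 2) a * pw H.z (a * b)) := by
  have := pw_comm H.z5 (H.zc 2) (H.zc 1) H.h12 a b
  rw [Nat.cast_one, one_mul] at this
  exact this

theorem s13 (a b : ZMod 5) : pw (H.c 3) a * pw (H.c 1) b = pw (H.c 1) b * pw (H.c 3) a := by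
  have := pw_comm H.z5 (H.zc 3) (H.zc 1) H.h13 a b
  rw [Nat.cast_zero, zero_mul, zero_mul, pw_zero, mul_one] at this
  exact this

theorem s23 (a b : ZMod 5) : pw (H.c 3) a * pw (H.c 2) b = pw (H.c 2) b * (pw (H.c 3) a * pw H.z (a * b)) := by
  have := pw_comm H.z5 (H.zc 3) (H.zc 2) H.h23 a b
  rw [Nat.cast_one, one_mul] at this
  exact this

theorem s01' (a b : ZMod 5) (r : G) : pw (H.c 1) a * (pw (H.c 0) b * r) =
    pw (H.c 0) b * (pw (H.c 1) a * (pw H.z (4 * a * b) * r)) := by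
  rw [← mul_assoc, s01]; simp only [mul_assoc]

theorem s02' (a b : ZMod 5) (r : G) : pw (H.c 2) a * (pw (H.c 0) b * r) =
    pw (H.c 0) b * (pw (H.c 2) a * (pw H.z (2 * a * b) * r)) := by
  rw [← mul_assoc, s02]; simp only [mul_assoc]

theorem s03' (a b : ZMod 5) (r : G) : pw (H.c 3) a * (pw (H.c 0) b * r) =
    pw (H.c 0) b * (pw (H.c 3) a * (pw H.z (3 * a * b) * r)) := by
  rw [← mul_assoc, s03]; simp only [mul_assoc]

theorem s12' (a b : ZMod 5) (r : G) : pw (H.c 2) a * (pw (H.c 1) b * r) =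
    pw (H.c 1) b * (pw (H.c 2) a * (pw H.z (a * b) * r)) := by
  rw [← mul_assoc, s12]; simp only [mul_assoc]

theorem s13' (a b : ZMod 5) (r : G) : pw (H.c 3) a * (pw (H.c 1) b * r) = pw (H.c 1) b * (pw (H.c 3) a * r) := by
  rw [← mul_assoc, s13]; simp only [mul_assoc]

theorem s23' (a b : ZMod 5) (r : G) : pw (H.c 3) a * (pw (H.c 2) b * r) =
    pw (H.c 2) b * (pw (H.c 3) a * (pw H.z (a * b) * r)) := by
  rw [← mul_assoc, s23]; simp only [mul_assoc]

theorem cc (i : Fin 4) (a b : ZMod 5) (r : G) : pw (H.c i) a * (pw (H.c i) b * r) = pw (H.c i) (a + b) * r := by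
  rw [pw_add (H.c5 i), mul_assoc]

theorem zz (a b : ZMod 5) : pw H.z a * pw H.z b = pw H.z (a + b) := by
  rw [pw_add H.z5]

theorem zz' (a b : ZMod 5) (r : G) : pw H.z a * (pw H.z b * r) = pw H.z (a + b) * r := by
  rw [pw_add H.z5, mul_assoc]

theorem N_mul (v w : V) (m n : ZMod 5) : H.N v m * H.N w n = H.N (v + w) (m + n + β v w) := by
  unfold N
  simp only [mul_assoc, zmove', s01', s02', s03', s12', s13', s23']
  simp only [cc, zz]
  simp only [Pi.add_apply]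
  refine congrArg (fun t => pw (H.c 0) (v 0 + w 0) * (pw (H.c 1) (v 1 + w 1) * (pw (H.c 2) (v 2 + w 2) *
    (pw (H.c 3) (v 3 + w 3) * pw H.z t)))) ?_
  unfold β
  ring

theorem N_zero (m : ZMod 5) : H.N 0 m = pw H.z m := by
  simp [N, pw_zero]

theorem N_zero_zero : H.N 0 0 = 1 := by rw [N_zero, pw_zero]

/-- the coset of `v` modulo `⟨z⟩` -/
def R (v : V) (x : G) : Prop := ∃ m, x = H.N v m

variable {H}

theorem R.one : H.R 0 1 := ⟨0, H.N_zero_zero.symm⟩

theorem R.N (v : V) (m : ZMod 5) : H.R v (H.N v m) := ⟨m, rfl⟩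

theorem R.mul {v w : V} {x y : G} (hx : H.R v x) (hy : H.R w y) : H.R (v + w) (x * y) := by
  obtain ⟨m, rfl⟩ := hx
  obtain ⟨n, rfl⟩ := hy
  exact ⟨_, H.N_mul v w m n⟩

theorem R.pow {v : V} {x : G} (hx : H.R v x) (n : ℕ) : H.R (n • v) (x ^ n) := by
  induction n with
  | zero => rw [zero_smul, pow_zero]; exact R.one
  | succ n ih => rw [succ_nsmul, pow_succ]; exact ih.mul hx

theorem R.pw {v : V} {x : G} (hx : H.R v x) (k : ZMod 5) : H.R (k • v) (pw x k) := by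
  have h := hx.pow k.val
  rwa [← Nat.cast_smul_eq_nsmul (ZMod 5), ZMod.natCast_zmod_val] at h

theorem R.inv {v : V} {x : G} (hx : H.R v x) : H.R (-v) x⁻¹ := by
  obtain ⟨m, rfl⟩ := hx
  refine ⟨-m - β v (-v), ?_⟩
  rw [inv_eq_iff_mul_eq_one, N_mul, add_neg_cancel]
  have : m + (-m - β v (-v)) + β v (-v) = 0 := by ring
  rw [this, N_zero_zero]

theorem R.c (i : Fin 4) : H.R (Pi.single i 1) (H.c i) := by
  refine ⟨0, ?_⟩
  unfold Data.N
  fin_cases i <;> simp [pw_zero, pw_one]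

theorem R.z (k : ℕ) : H.R 0 (H.z ^ k) := ⟨k, by rw [N_zero, pw_natCast H.z5]⟩

/-- the action of a matrix, given by rows, on row vectors -/
def act (M : Fin 4 → V) (v : V) : V := v 0 • M 0 + (v 1 • M 1 + (v 2 • M 2 + v 3 • M 3))

/-- conjugation by an element acting as the matrix `M` -/
theorem R.conj {M : Fin 4 → V} {g : G} (hM : ∀ i, H.R (M i) (g⁻¹ * H.c i * g)) {k : ℕ}
    (hz : g⁻¹ * H.z * g = H.z ^ k) {v : V} {x : G} (hx : H.R v x) : H.R (act M v) (g⁻¹ * x * g) := by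
  obtain ⟨m, rfl⟩ := hx
  have hpw : ∀ (y : G) (k : ZMod 5), g⁻¹ * Heis.pw y k * g = Heis.pw (g⁻¹ * y * g) k := by
    intro y k
    have := conj_pow (a := g⁻¹) (b := y) (i := k.val)
    rw [inv_inv] at this
    exact this.symm
  have e : g⁻¹ * H.N v m * g = (g⁻¹ * Heis.pw (H.c 0) (v 0) * g) * ((g⁻¹ * Heis.pw (H.c 1) (v 1) * g) *
      ((g⁻¹ * Heis.pw (H.c 2) (v 2) * g) * ((g⁻¹ * Heis.pw (H.c 3) (v 3) * g) * (g⁻¹ * Heis.pw H.z m * g)))) := by
    unfold Data.N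
    group
  rw [e, hpw, hpw, hpw, hpw, hpw, hz]
  have h0 : H.R 0 (Heis.pw (H.z ^ k) m) := by
    have := (R.z (H := H) k).pw m
    rwa [smul_zero] at this
  have h := ((hM 0).pw (v 0)).mul (((hM 1).pw (v 1)).mul (((hM 2).pw (v 2)).mul (((hM 3).pw (v 3)).mul h0)))
  rw [add_zero] at h
  exact h

theorem num10 : (10 : ZMod 5) = 0 := by decide

theorem num11 : (11 : ZMod 5) = 1 := by decide

theorem num14 : (-14 : ZMod 5) = 1 := by decide

theorem ω_ne {v : V} (hv : v ≠ 0) : ∃ w : V, β v w - β w v = 1 := by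
  have hp : Fact (Nat.Prime 5) := ⟨by norm_num⟩
  by_cases h0 : v 0 = 0
  · by_cases h2 : v 2 = 0
    · by_cases h1 : v 1 = 0
      · have h3 : v 3 ≠ 0 := by
          intro h3
          apply hv
          funext i
          fin_cases i <;> assumption
        refine ⟨![0, 0, (v 3)⁻¹, 0], ?_⟩
        have e : β v ![0, 0, (v 3)⁻¹, 0] - β ![0, 0, (v 3)⁻¹, 0] v = v 3 * (v 3)⁻¹ := by
          simp only [β, Matrix.cons_val, h0, h1, h2]; ring
        rw [e, mul_inv_cancel₀ h3]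
      · refine ⟨![3 * (v 1)⁻¹, 0, (v 1)⁻¹, 0], ?_⟩
        have e : β v ![3 * (v 1)⁻¹, 0, (v 1)⁻¹, 0] - β ![3 * (v 1)⁻¹, 0, (v 1)⁻¹, 0] v =
            11 * (v 1 * (v 1)⁻¹) + 10 * (v 3 * (v 1)⁻¹) := by
          simp only [β, Matrix.cons_val, h0, h2]; ring
        rw [e, mul_inv_cancel₀ h1, num10, num11, zero_mul, add_zero, mul_one]
    · refine ⟨![0, -(v 2)⁻¹, 0, -(2 * (v 2)⁻¹)], ?_⟩
      have e : β v ![0, -(v 2)⁻¹, 0, -(2 * (v 2)⁻¹)] - β ![0, -(v 2)⁻¹, 0, -(2 * (v 2)⁻¹)] v =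
          1 * (v 2 * (v 2)⁻¹) := by
        simp only [β, Matrix.cons_val, h0]; ring
      rw [e, mul_inv_cancel₀ h2, mul_one]
  · refine ⟨![0, 2 * (v 0)⁻¹, 0, 2 * (v 0)⁻¹], ?_⟩
    have e : β v ![0, 2 * (v 0)⁻¹, 0, 2 * (v 0)⁻¹] - β ![0, 2 * (v 0)⁻¹, 0, 2 * (v 0)⁻¹] v =
        (-14) * (v 0 * (v 0)⁻¹) := by
      simp only [β, Matrix.cons_val]; ring
    rw [e, mul_inv_cancel₀ h0, num14, mul_one]

/-- All the elements of a coset `v ≠ 0` are conjugate. -/
theorem conj_of_ne {v : V} (hv : v ≠ 0) (m m' : ZMod 5) : ∃ y : G, y⁻¹ * H.N v m * y = H.N v m' := by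
  obtain ⟨w, hw⟩ := ω_ne hv
  refine ⟨H.N ((m' - m) • w) 0, ?_⟩
  rw [mul_assoc, inv_mul_eq_iff_eq_mul, N_mul, N_mul, add_comm ((m' - m) • w) v]
  congr 1
  have e1 : β v ((m' - m) • w) = (m' - m) * β v w := by simp only [β, Pi.smul_apply, smul_eq_mul]; ring
  have e2 : β ((m' - m) • w) v = (m' - m) * β w v := by simp only [β, Pi.smul_apply, smul_eq_mul]; ring
  rw [e1, e2]
  linear_combination (m' - m) * hw

end Data

end Cfsg.Agent.R10.Heis
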