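import Cfsg.Agent.Ly.WalkCtx
import Cfsg.Agent.R10.Heis

/-!
# Elements of order 5 of the Sylow 5-subgroup of the Lyons group commute with involutions

`x : Fin 5 → G` are elements satisfying the relations of the Lyons group (and the equalities of words of `G₂(5)`).
`good_of_Q`: every element of order 5 of the group `U = ⟨c₁, c₂, c₃, c₄, c₅, b⟩` commutes with a conjugate of `a ^ 4`.
-/

set_option autoImplicit false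

namespace Cfsg.Agent.R10.FiveCalc

open Cfsg.Agent.Ly.Mat7 Cfsg.Agent.Ly.Walk Cfsg.Agent.Ly.WalkData Cfsg.Agent.Ly.Pres Cfsg.Agent.Ly.WalkCtx
open Cfsg.Agent.R10.Heis Cfsg.Agent.R10.Heis.Data

/-- the words of c1, c2, c3, c4 -/
def cw : Fin 4 → List ℕ
  | 0 => [2]
  | 1 => [4, 2, 0]
  | 2 => [5, 2, 1]
  | 3 => [1, 2, 5]

/-- the word of c5 -/
def zw : List ℕ := [6, 4, 6, 0, 2, 4, 2, 0]

/-- the word of e -/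
def ew : List ℕ := [5, 5, 4, 6, 0, 2, 4, 2, 0, 3, 2, 1, 0, 5, 3, 2, 3]

/-- repeated word -/
def rep (w : List ℕ) : ℕ → List ℕ
  | 0 => []
  | n + 1 => w ++ rep w n

/-- word of a normal form -/
def nw (a b c d m : ℕ) : List ℕ :=
  rep (cw 0) a ++ (rep (cw 1) b ++ (rep (cw 2) c ++ (rep (cw 3) d ++ rep zw m)))

/-- a vector from natural numbers -/
def toV (v : ℕ × ℕ × ℕ × ℕ) : V := ![(v.1 : ZMod 5), (v.2.1 : ZMod 5), (v.2.2.1 : ZMod 5), (v.2.2.2 : ZMod 5)]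

/-! ### Kernel checks in `G₂(5)` -/

theorem k_c5 : ∀ i, eqW (rep (cw i) 5) [] = true := by decide +kernel

theorem k_z5 : eqW (rep zw 5) [] = true := by decide +kernel

theorem k_zc : ∀ i, eqW (zw ++ cw i) (cw i ++ zw) = true := by decide +kernel

theorem k01 : eqW (cw 1 ++ cw 0) (cw 0 ++ (cw 1 ++ rep zw 4)) = true := by decide +kernel

theorem k02 : eqW (cw 2 ++ cw 0) (cw 0 ++ (cw 2 ++ rep zw 2)) = true := by decide +kernel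

theorem k03 : eqW (cw 3 ++ cw 0) (cw 0 ++ (cw 3 ++ rep zw 3)) = true := by decide +kernel

theorem k12 : eqW (cw 2 ++ cw 1) (cw 1 ++ (cw 2 ++ rep zw 1)) = true := by decide +kernel

theorem k13 : eqW (cw 3 ++ cw 1) (cw 1 ++ (cw 3 ++ rep zw 0)) = true := by decide +kernel

theorem k23 : eqW (cw 3 ++ cw 2) (cw 2 ++ (cw 3 ++ rep zw 1)) = true := by decide +kernel

/-- rows of the action of `a`, `b`, `z` and `b⁻¹` with the exponents of `c5` -/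
def rows : ℕ → Fin 4 → ℕ × ℕ × ℕ × ℕ × ℕ
  | 0, 0 => (0, 1, 0, 0, 0)
  | 0, 1 => (3, 0, 0, 0, 0)
  | 0, 2 => (1, 0, 3, 1, 1)
  | 0, 3 => (2, 4, 4, 2, 2)
  | 1, 0 => (0, 0, 1, 0, 0)
  | 1, 1 => (4, 1, 1, 3, 2)
  | 1, 2 => (2, 0, 3, 1, 3)
  | 1, 3 => (1, 0, 0, 0, 0)
  | 2, 0 => (2, 0, 4, 4, 3)
  | 2, 1 => (3, 2, 2, 3, 4)
  | 2, 2 => (0, 1, 0, 2, 0)
  | 2, 3 => (1, 4, 3, 1, 0)
  | _, 0 => (0, 0, 0, 1, 0)
  | _, 1 => (3, 1, 2, 2, 4)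
  | _, 2 => (1, 0, 0, 0, 0)
  | _, 3 => (2, 0, 1, 3, 0)

/-- the word of a row -/
def rw' (r : ℕ × ℕ × ℕ × ℕ × ℕ) : List ℕ := nw r.1 r.2.1 r.2.2.1 r.2.2.2.1 r.2.2.2.2

/-- the vector of a row -/
def rv (r : ℕ × ℕ × ℕ × ℕ × ℕ) : V := toV (r.1, r.2.1, r.2.2.1, r.2.2.2.1)

theorem k_A : ∀ i, eqW ([4] ++ (cw i ++ [0])) (rw' (rows 0 i)) = true := by decide +kernel

theorem k_B : ∀ i, eqW ([5] ++ (cw i ++ [1])) (rw' (rows 1 i)) = true := by decide +kernel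

theorem k_Z : ∀ i : Fin 4, eqW (nth tS (2 * i)) (rw' (rows 2 i)) = true := by decide +kernel

theorem k_Zz : eqW (nth tS 8) (rep zw 2) = true := by decide +kernel

theorem k_K : ∀ i : Fin 4, nth tK (2 * i) = cw i := by decide

theorem k_Kz : nth tK 8 = zw := by decide

theorem k_Bi : ∀ i, eqW ([1] ++ (cw i ++ [5])) (rw' (rows 3 i)) = true := by decide +kernel

theorem k_Az : eqW ([4] ++ (zw ++ [0])) (rep zw 2) = true := by decide +kernel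

theorem k_Bz : eqW ([5] ++ (zw ++ [1])) (rep zw 1) = true := by decide +kernel

theorem k_Biz : eqW ([1] ++ (zw ++ [5])) (rep zw 1) = true := by decide +kernel

theorem k_b5 : eqW (rep [1] 5) [] = true := by decide +kernel

theorem k_eb : eqW (invW ew ++ ([1] ++ ew)) (nw 1 0 4 3 0) = true := by decide +kernel

theorem k_ez : eqW (invW ew ++ (zw ++ ew)) (nw 2 0 4 4 3) = true := by decide +kernel

theorem k_tz : eqW ([0, 0, 0, 0] ++ zw) (zw ++ [0, 0, 0, 0]) = true := by decide +kernel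

/-- a conjugate of `a ^ 4` -/
def tw' (g : List ℕ) : List ℕ := invW g ++ ([0, 0, 0, 0] ++ g)

theorem k_base0 : eqW (tw' [2, 0, 3, 5, 2, 3] ++ nw 0 1 1 0 4) (nw 0 1 1 0 4 ++ tw' [2, 0, 3, 5, 2, 3]) = true := by
  decide +kernel

theorem k_base1 : eqW (tw' [2, 4, 1, 2, 3] ++ nw 1 3 3 4 1) (nw 1 3 3 4 1 ++ tw' [2, 4, 1, 2, 3]) = true := by
  decide +kernel

theorem k_p1' : eqW (rep (rep (cw 1) 1 ++ [1]) 5) zw = true := by decide +kernel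

theorem k_p2 : eqW (rep (rep (cw 1) 2 ++ [1]) 5) (rep zw 4) = true := by decide +kernel

theorem k_p3 : eqW (rep (rep (cw 1) 3 ++ [1]) 5) (rep zw 4) = true := by decide +kernel

theorem k_p4 : eqW (rep (rep (cw 1) 4 ++ [1]) 5) zw = true := by decide +kernel

/-! ### The paths -/

/-- one step: the action of `a`, `b`, `z` or doubling -/
def step : ℕ → ℕ × ℕ × ℕ × ℕ → ℕ × ℕ × ℕ × ℕ
  | 0, (a, b, c, d) => ((3 * b + c + 2 * d) % 5, (a + 4 * d) % 5, (3 * c + 4 * d) % 5, (c + 2 * d) % 5)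
  | 1, (a, b, c, d) => ((4 * b + 2 * c + d) % 5, b % 5, (a + b + 3 * c) % 5, (3 * b + c) % 5)
  | 2, (a, b, c, d) => ((2 * a + 3 * b + d) % 5, (2 * b + c + 4 * d) % 5, (4 * a + 2 * b + 3 * d) % 5,
      (4 * a + 3 * b + 2 * c + d) % 5)
  | _, (a, b, c, d) => ((2 * a) % 5, (2 * b) % 5, (2 * c) % 5, (2 * d) % 5)

/-- a path -/
def run : List ℕ → ℕ × ℕ × ℕ × ℕ → ℕ × ℕ × ℕ × ℕ
  | [], v => v
  | k :: p, v => run p (step k v)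

/-- the two base vectors -/
def base' : ℕ → ℕ × ℕ × ℕ × ℕ
  | 0 => (0, 1, 1, 0)
  | _ => (1, 3, 3, 4)

/-- digits -/
def dec (n : ℕ) : ℕ × ℕ × ℕ × ℕ := (n / 125, n / 25 % 5, n / 5 % 5, n % 5)

/-- for the vector with number `n` the base vector and the path leading to it -/
def tbl : List (ℕ × List ℕ) := [
  (0, []), (1, [2, 1, 0, 1, 1, 1]), (1, [2, 1, 1, 1, 0, 2]), (1, [2, 1, 1, 1, 2, 0]), (1, [0, 2, 1, 0, 1, 1, 0]),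
  (1, [2, 1, 0]), (0, [0, 1, 2, 0, 1, 1, 3]), (0, [0, 1, 1, 1, 1]), (0, [0, 0, 0, 1, 1, 1]), (1, [0, 0, 2]),
  (1, [2, 1, 0, 3]), (0, [0, 1, 1, 1]), (0, [0, 1, 0, 2, 1, 1]), (1, [2]), (0, [0, 1, 1, 1, 1, 3]),
  (1, [0, 0, 2, 1, 0]), (0, [0, 0, 0, 1, 1, 1, 1]), (1, [0, 1, 2]), (0, [0, 1, 2, 0, 1, 1]), (0, [0, 1, 1, 1, 3, 3]),
  (1, [1, 0, 2, 1]), (1, [2, 3]), (0, [0, 1, 1, 1, 3]), (0, [0, 1, 1, 1, 1, 3, 3]), (0, [0, 1, 0, 2, 1, 1, 3]),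
  (1, [0, 0, 1, 2]), (1, [0, 2, 1, 1, 1, 3]), (1, [2, 1, 0, 2]), (1, [0, 0, 0]), (1, [0, 2, 1, 2, 1]),
  (0, []), (0, [0, 1, 1, 1, 2, 1]), (0, [2, 0, 1, 0, 1, 1, 1]), (1, [0, 2, 1, 1, 1, 1, 3]), (0, [0, 1, 1, 2, 1, 1, 2]),
  (0, [0, 0, 1, 0, 1, 0, 1]), (0, [1, 0, 1, 2, 1, 1, 2]), (0, [0, 0, 1, 0, 1, 0]), (0, [0, 1, 1, 1, 0, 1, 3, 3]), (0, [1, 0, 1, 0, 1, 1, 0]),
  (1, [0, 2, 1, 1, 3]), (0, [0, 0, 1, 0, 1, 1, 0, 1]), (0, [1, 0, 1, 2, 1, 1, 1, 1]), (0, [1, 0, 1, 2, 1]), (1, [1, 1, 3]),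
  (0, [1, 0, 1, 1, 2, 1, 3]), (0, [0, 0, 1, 0]), (0, [1, 0, 1, 2, 0]), (0, [1, 0, 1, 2, 1, 1, 1]), (0, [0, 1, 1, 1, 0, 1, 1, 2]),
  (1, [1, 2]), (1, [0]), (1, [2, 0, 1, 1, 1]), (1, [0, 2, 1, 0, 1]), (1, [1, 2, 1, 0]),
  (1, [2, 0, 1, 1]), (0, [1, 0, 1, 2, 1, 3]), (0, [1, 0, 1, 1, 0, 1]), (1, [0, 1, 1, 1]), (0, [1, 1, 1, 0, 1, 1, 2]),
  (0, [3]), (1, [0, 2, 1, 1, 1, 0]), (0, [0, 1, 1, 1, 2, 1, 3]), (0, [0, 1, 1, 0, 1, 1, 2]), (0, [1, 1, 1, 0, 1, 1]),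
  (0, [1, 0, 1, 1, 2, 1, 3, 3]), (0, [1, 1, 1, 1, 0, 2]), (0, [1, 0]), (0, [0, 1, 1, 0, 1, 1, 2, 1]), (0, [1, 0, 1, 2, 0, 3]),
  (0, [1, 0, 1, 0, 1]), (0, [0, 0, 0, 1, 1, 1, 0, 1]), (0, [0, 1, 2, 1, 1, 2, 1]), (0, [0, 1, 1, 0, 1, 1, 0, 1]), (0, [1, 0, 1, 0]),
  (1, [0, 1, 1, 2]), (1, [1, 1, 2, 1]), (1, [2, 0, 1, 0, 1]), (1, [0, 2, 1, 1, 1]), (1, [0, 1, 0]),
  (0, [0, 1, 1, 1, 1, 0]), (0, [1, 0, 1, 0, 3, 3]), (0, [1, 0, 2, 1, 0, 1, 1, 3]), (0, [1, 0, 2, 1, 2, 1, 1]), (0, [0, 1, 1, 1, 0, 1, 3]),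
  (0, [1, 0, 1, 1, 2, 1]), (0, [1, 0, 1, 0, 2, 3]), (0, [1, 1, 1, 2, 1, 1, 1, 3]), (0, [1, 0, 3, 3]), (0, [1, 1, 1, 1, 2, 0]),
  (0, [0, 0]), (0, [0, 1, 0, 1, 1, 2, 1, 3]), (0, [1, 1, 1, 2, 1, 1, 3]), (0, [1, 0, 1, 0, 2, 1, 0]), (1, [0, 2, 1, 1, 1, 1]),
  (1, [0, 2, 1, 1]), (0, [1, 1, 1, 1, 2, 0, 1]), (1, [1, 1]), (0, [1, 0, 1, 1, 0, 1, 3, 3]), (0, [0, 0, 1, 0, 1, 2, 1]),
  (1, [1, 2, 3]), (1, [2, 0, 1, 2, 1]), (1, [0, 3]), (1, [2, 1, 2, 0]), (1, [2, 0, 1, 1, 1, 3]),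
  (0, [0, 0, 1, 0, 1, 1, 2, 1]), (0, [1, 1, 1, 2, 1, 1, 1]), (0, [1, 1, 0, 1, 1, 2]), (0, [1, 0, 1, 0, 2]), (0, [1, 0, 3]),
  (1, [2, 0, 1, 1, 3]), (1, [0, 0, 1, 1]), (0, [1, 0, 1, 2, 1, 3, 3]), (0, [1, 1, 0, 1, 1, 2, 1]), (0, [1, 0, 1, 1, 0, 1, 3]),
  (0, [1, 0, 1, 0, 1, 3]), (0, [1, 0, 2, 1, 0, 1, 1]), (0, [0, 1, 1, 1, 0, 1]), (0, [1, 0, 1, 0, 3]), (0, [1, 1, 0, 2, 1, 2, 1]),
  (0, [3, 3]), (0, [1, 1, 1, 2, 1, 1]), (1, [2, 1, 1, 1, 1, 2]), (0, [0, 1, 0, 1, 1, 2, 1]), (0, [1, 1, 1, 2, 0, 1, 1]),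
  (1, [1, 2, 0]), (0, [1, 1, 0, 2, 1]), (0, [1, 2, 0, 1, 1, 1]), (0, [1, 0, 2, 3]), (1, [0, 1, 2, 1, 1]),
  (0, [1, 1, 0, 2, 1, 1]), (0, [0, 0, 0, 1, 2]), (0, [0, 1, 0, 2, 1, 1, 1]), (1, [2, 1, 1, 1, 1, 3]), (0, [1, 0, 1, 1, 0, 2, 3]),
  (0, [1, 2, 0, 1]), (0, [0, 1, 0, 2, 1]), (1, [1, 0]), (0, [0, 1, 2, 1, 1, 1, 1]), (0, [0, 3, 3]),
  (0, [1, 1, 1, 0, 1, 0]), (1, [0, 0, 2, 1]), (0, [0, 1, 2, 1]), (0, [1, 0, 2, 1, 1]), (1, [2, 0, 1, 1, 2, 1]),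
  (1, [2, 1, 1, 1]), (0, [0, 1, 2, 0]), (0, [0, 1, 1, 2, 0]), (1, [2, 0, 1, 1, 2]), (0, [0, 0, 0, 1]),
  (0, [1, 0, 1, 0, 1, 1, 1, 0]), (0, [0, 1, 1, 1, 0, 3, 3]), (0, [0, 1, 1, 1, 2, 1, 1, 1]), (0, [2, 1, 1, 1, 3]), (0, [0, 1, 0, 1, 1, 1, 0]),
  (0, [0, 2, 1, 1, 1, 0, 1]), (0, [1, 0, 1, 0, 1, 1, 2, 3]), (0, [2, 0, 1, 0]), (1, [2, 1, 0, 2, 1]), (1, [0, 2, 1, 2]),
  (0, [1, 1, 1, 0, 1, 1, 0]), (0, [0, 0, 1, 0, 1, 1, 1]), (1, [0, 2, 1, 3]), (0, [1, 1, 1, 0, 2]), (0, [1, 0, 2, 1, 2, 3]),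
  (0, [0, 1, 1, 1, 2]), (0, [1, 1, 0, 2, 1, 1, 0]), (0, [0, 2, 1, 2, 0, 1, 2]), (0, [0, 1, 1, 0, 1]), (0, [1, 0, 2, 1, 2, 0, 1]),
  (0, [2, 3]), (0, [0, 1, 0, 3, 3]), (0, [1, 1]), (0, [0, 1, 1, 1, 2, 0]), (0, [1]),
  (0, [1, 0, 1, 0, 1, 1, 1]), (1, [1, 2, 1, 0, 1, 1, 1]), (0, [1, 0, 1, 2, 1, 1, 3]), (0, [1, 1, 1, 0]), (0, [1, 0, 1, 1, 1, 0, 2]),
  (0, [1, 0, 1, 1, 0]), (0, [0, 0, 1, 1, 2]), (0, [0, 0, 1, 1, 2, 1]), (0, [1, 1, 0, 1, 0, 1, 1]), (0, [1, 0, 1]),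
  (0, [1, 1, 1, 1, 2, 1]), (1, [0, 2, 1, 0, 1, 1]), (0, [0, 2, 1, 1, 1, 1]), (0, [0, 1, 1, 0, 1, 1, 0]), (0, [0, 1, 0, 1, 1, 1, 2, 0]),
  (0, [1, 0, 1, 0, 1, 1, 1, 1, 0]), (0, [1, 1, 1, 0, 1]), (0, [1, 0, 1, 0, 1, 2, 0]), (0, [1, 1, 1, 0, 1, 1, 1]), (0, [1, 1, 0, 1, 0]),
  (0, [1, 0, 1, 0, 1, 1]), (0, [1, 2, 0, 1, 1, 0]), (0, [0, 1, 1, 1, 1, 0, 2, 1]), (0, [0, 1, 0, 2, 1, 2, 3]), (1, [1, 2, 1, 1, 1, 1]),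
  (0, [1, 2, 1, 1, 2]), (0, [0, 1, 1, 2]), (0, [2, 0, 1, 2]), (0, [0, 0, 1, 0, 1, 2]), (0, [0, 2, 1, 1, 1, 2, 1, 3]),
  (0, [1, 0, 1, 1, 0, 1, 0]), (0, [1, 0, 1, 1, 2]), (0, [2, 0]), (0, [0, 2, 1, 0, 2, 3]), (0, [2, 1, 1, 1, 1]),
  (0, [2, 0, 1]), (0, [2, 1]), (0, [0, 1, 1, 0, 1, 1, 0, 2]), (0, [0, 1, 2, 1, 1, 1, 2]), (1, [1, 1, 2]),
  (1, [1, 1, 0, 2]), (0, [1, 0, 2, 1, 0, 3]), (0, [1, 1, 1, 2, 1, 3]), (0, [1, 1, 1, 2, 3]), (1, []),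
  (0, [1, 0, 2, 1, 2, 1]), (0, [0, 1, 0, 2, 1, 1, 0]), (0, [0, 0, 1, 0, 1, 1, 1, 2]), (0, [1, 0, 1, 1, 3, 3]), (0, [1, 0, 1, 0, 1, 2]),
  (0, [1, 2, 1, 1, 0, 2]), (1, [2, 1, 1, 2, 1]), (0, [0, 2, 1, 1, 1, 2]), (0, [1, 1, 0]), (1, [0, 0, 1, 1, 0]),
  (0, [0, 2, 1, 0, 2, 1]), (1, [2, 0, 3]), (0, [1, 0, 1, 0, 1, 1, 1, 1, 3]), (0, [1, 1, 1, 3, 3]), (1, [2, 1, 2, 1, 1]),
  (0, [1, 0, 1, 1, 1, 1, 3]), (1, [2, 1, 2, 1]), (0, [0, 1, 0, 1, 2, 0, 1]), (0, [1, 0, 1, 0, 2, 1]), (0, [0, 1, 0, 1, 1, 1, 1]),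
  (0, [1, 1, 1, 1, 2, 3]), (1, [2, 1, 1, 1, 2, 1]), (0, [0, 1, 1, 2, 1, 0]), (0, [1, 1, 1, 1, 3, 3]), (0, [0, 1, 1, 2, 1, 0, 2]),
  (0, [1, 0, 2, 1, 0, 2]), (1, [0, 0, 1]), (1, [2, 1, 2]), (0, [0, 1, 0, 1, 1]), (0, [1, 0, 1, 0, 2, 1, 1, 0]),
  (1, [1, 2, 0, 3]), (0, [1, 2, 0]), (0, [2, 1, 1, 2, 1]), (1, [0, 0, 2, 1, 1]), (0, [1, 2, 0, 1, 1, 1, 3]),
  (0, [0, 1, 0, 1, 1, 2, 0]), (0, [1, 0, 2, 1, 1, 3]), (1, [2, 1]), (1, [2, 1, 0, 1, 1]), (0, [1, 1, 0, 2]),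
  (0, [1, 1, 2, 1, 1, 0]), (1, [0, 1, 2, 1, 1, 1, 1]), (0, [0, 1, 2]), (0, [1, 0, 1, 1, 2, 0]), (0, [0, 1, 0, 2, 1, 1, 1, 3]),
  (1, [2, 1, 1, 1, 3]), (1, [2, 1, 0, 1]), (0, [0, 1, 2, 0, 3]), (0, [0, 1]), (0, [0, 0, 0, 1, 1]),
  (0, [1, 2, 0, 1, 3]), (0, [1, 1, 0, 2, 1, 1, 1]), (0, [0, 1, 0, 2, 1, 3]), (0, [0, 0, 0]), (1, [1, 0, 3]),
  (0, [1, 1, 0, 1, 2]), (0, [1, 0, 1, 2]), (0, [0, 1, 1, 0]), (0, [0, 1, 0, 1, 2, 1, 1]), (0, [2, 0, 1, 2, 3]),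
  (1, [1, 1, 0, 2, 3]), (0, [1, 1, 1, 2, 3, 3]), (0, [1, 2, 0, 1, 0]), (1, [3]), (0, [1, 1, 0, 1, 2, 1, 0]),
  (0, [1, 0, 1, 0, 1, 1, 0, 1]), (0, [0, 2, 1, 2, 0]), (0, [1, 0, 1, 1, 2, 3]), (0, [2, 1, 1, 1, 1, 3]), (0, [2, 0, 3]),
  (0, [1, 1, 2, 0, 1, 2]), (0, [0, 0, 1, 0, 1, 1]), (0, [0, 1, 0, 2, 1, 1, 0, 3]), (0, [1, 0, 1, 0, 1, 2, 3]), (0, [1, 0, 1, 1, 1, 2]),
  (0, [2, 0, 1, 3]), (0, [1, 0, 1, 2, 0, 1, 1]), (0, [2, 1, 3]), (1, [1, 1, 2, 3]), (0, [0, 1, 1, 1, 2, 1, 1]),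
  (0, [1, 2, 0, 1, 1, 0, 1]), (0, [1, 2, 1, 1]), (0, [0, 0, 0, 1, 1, 1, 0]), (0, [0, 1, 0, 1, 1, 1, 0, 3]), (0, [0, 1, 1, 0, 1, 1, 2, 0, 1]),
  (0, [0, 1, 1, 1, 2, 3]), (0, [0, 2, 1, 1, 1]), (0, [0, 0, 1, 1, 2, 1, 1]), (0, [1, 0, 1, 0, 2, 1, 2]), (0, [1, 0, 1, 2, 1, 0]),
  (0, [0, 1, 0, 1, 1, 1, 1, 0]), (1, [1, 2, 1, 0, 1]), (0, [0, 0, 1, 1, 2, 1, 1, 1]), (1, [0, 2, 1, 0]), (0, [2, 0, 1, 0, 3]),
  (0, [2, 3, 3]), (0, [0, 1, 1, 1, 2, 0, 3]), (0, [0, 0, 0, 1, 0]), (0, [1, 3]), (0, [1, 1, 3]),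
  (0, [0, 1, 0, 1, 1, 2, 1, 0]), (0, [0, 2, 1, 0, 1, 2]), (0, [1, 0, 1, 1, 1]), (0, [1, 2, 0, 1, 2]), (1, [2, 0, 1]),
  (0, [1, 1, 0, 1, 0, 2]), (0, [2, 1, 1]), (1, [0, 2, 1, 1, 1, 2]), (1, [1, 1, 0]), (0, [0, 2, 1, 1, 1, 2, 3]),
  (0, [1, 1, 0, 1, 1, 2, 0]), (0, [0, 0, 1, 1, 1, 1]), (1, [0, 0, 2, 1, 1, 1, 0]), (0, [0, 1, 1, 0, 1, 0, 2]), (0, [0, 1, 1, 0, 1, 0]),
  (0, [1, 1, 2, 1, 0]), (0, [0, 0, 1, 1, 1]), (1, [0, 2]), (1, [2, 1, 1, 0, 1]), (0, [0, 1, 1, 1, 1, 0, 1, 1, 1]),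
  (0, [1, 0, 2, 1, 0, 2, 3]), (0, [0, 1, 0, 1, 1, 3]), (1, [1]), (0, [0, 0, 1, 1, 2, 1, 1, 2]), (1, [2, 1, 2, 3]),
  (0, [0, 1, 0, 1, 1, 0]), (0, [1, 0, 1, 0, 2, 1, 3]), (1, [2, 1, 1, 0]), (0, [0, 1, 0, 1, 1, 1, 1, 3]), (0, [1, 2, 1, 1, 2, 1]),
  (0, [1, 0, 1, 0, 1, 1, 1, 3]), (0, [0, 2, 1, 0, 1]), (1, [2, 1, 0, 1, 1, 0]), (0, [1, 0, 1, 0, 2, 1, 1, 1]), (0, [1, 0, 1, 2, 1, 1, 2, 0]),
  (0, [1, 0, 1, 0, 1, 1, 1, 2, 1]), (0, [0, 1, 0, 1, 1, 2, 1, 1]), (0, [0, 1, 0, 1, 1, 2]), (0, [0, 1, 0, 1]), (0, [0, 1, 1, 1, 1, 2]),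
  (0, [1, 0, 1, 1, 0, 3]), (0, [0, 1, 0, 1, 1, 1]), (0, [1, 1, 2]), (0, [1, 0, 1, 3]), (0, [1, 1, 2, 1]),
  (0, [1, 0, 1, 0, 1, 1, 3]), (0, [0, 1, 2, 0, 1, 2]), (0, [1, 2, 0, 1, 1, 0, 3]), (1, [2, 1, 1, 0, 1, 0]), (0, [0, 0, 1, 0, 1, 0, 1, 2, 1]),
  (0, [0, 1, 0, 1, 1, 1, 2]), (0, [1, 0, 2, 1, 0, 1]), (1, [2, 1, 1, 1, 2]), (0, [0, 1, 1, 1, 1, 2, 1]), (0, [0, 2, 1, 1, 1, 1, 3]),
  (1, [1, 0, 2, 3]), (0, [1, 0, 1, 1, 1, 0, 3]), (1, [2, 1, 1, 3]), (0, [0, 1, 2, 1, 1]), (0, [1, 0, 2]),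
  (0, [1, 0, 2, 1, 3]), (1, [0, 0, 1, 0]), (0, [0, 3]), (0, [0, 1, 2, 0, 1, 3]), (0, [1, 1, 2, 0, 1, 1, 1]),
  (1, [0, 0, 2, 1, 1, 1]), (0, [0, 1, 1, 3]), (0, [0, 1, 3, 3]), (0, [0, 1, 0, 2, 3]), (1, [0, 2, 1, 1, 0]),
  (0, [0, 1, 2, 1, 1, 1]), (0, [0, 1, 2, 0, 1, 1, 1, 3]), (0, [1, 0, 1, 1, 0, 2]), (0, [0, 1, 2, 3, 3]), (1, [2, 1, 1, 1, 1]),
  (0, [0, 1, 0, 1, 1, 0, 2]), (0, [1, 1, 2, 0]), (1, [0, 2, 1, 1, 0, 1]), (1, [0, 1, 2, 1]), (0, [1, 2, 0, 1, 1, 3]),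
  (0, [0, 0, 1, 0, 1, 0, 1, 1, 1]), (0, [1, 0, 1, 2, 1, 1]), (0, [1, 0, 1, 1, 1, 2, 0, 3]), (1, [0, 2, 1, 1, 0, 1, 0]), (0, [2, 0, 1, 0, 1]),
  (0, [0, 0, 1, 1, 1, 1, 2, 1]), (0, [0, 1, 1, 0, 1, 1]), (0, [1, 1, 1, 1, 2, 1, 0]), (1, [0, 2, 1, 2, 1, 1]), (0, [1, 2, 0, 1, 0, 1]),
  (0, [0, 0, 1, 0, 1, 0, 1, 1]), (0, [1, 0, 1, 0, 1, 2, 1, 3]), (1, [1, 2, 1, 1, 1, 0]), (0, [1, 0, 2, 1, 1, 0, 3]), (0, [0, 1, 0, 2, 1, 2]),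
  (0, [0, 0, 1, 0, 1, 1, 0]), (0, [1, 1, 2, 1, 3, 3]), (0, [0, 0, 1, 0, 1]), (0, [1, 1, 2, 3, 3]), (0, [1, 1, 1, 0, 1, 2, 1]),
  (0, [1, 0, 1, 0, 1, 1, 0, 1, 1]), (0, [1, 1, 0, 1, 2, 1, 1]), (0, [1, 2, 1, 1, 0]), (0, [2, 0, 1, 0, 1, 1]), (0, [0, 1, 0, 1, 1, 1, 1, 2]),
  (0, [0, 1, 0, 1, 2, 3]), (0, [0, 1, 1, 0, 1, 2]), (1, [0, 1, 1, 1, 0]), (1, [1, 2, 1, 0, 1, 1]), (0, [1, 2, 1]),
  (0, [1, 0, 1, 1, 1, 1]), (0, [1, 1, 1, 2, 1, 0]), (0, [1, 1, 0, 1, 0, 1, 1, 1]), (1, [1, 2, 1, 1]), (0, [1, 0, 1, 2, 0, 1, 3]),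
  (0, [1, 0, 2, 1, 2, 0, 3]), (1, [1, 2, 1]), (0, [1, 1, 2, 1, 1, 2, 3]), (1, [0, 1, 1]), (0, [1, 1, 0, 1, 0, 1]),
  (0, [0, 2, 1, 2, 0, 1, 3]), (0, [1, 0, 1, 0, 1, 1, 1, 1]), (1, [1, 2, 1, 1, 1]), (1, [2, 0]), (0, [1, 1, 1, 3]),
  (0, [1, 1, 1, 1, 2]), (0, [0, 2, 1, 1, 1, 0, 3]), (0, [0, 1, 1, 0, 1, 2, 0]), (1, [2, 1, 1, 1, 0, 3]), (0, [1, 1, 1, 1, 3]),
  (0, [1, 0, 1, 1, 0, 1, 2]), (0, [0, 1, 0, 2, 1, 1, 1, 2, 3]), (0, [0, 1, 1, 0, 1, 0, 1, 1]), (0, [0, 1, 1, 1, 0, 3]), (0, [2, 1, 1, 1]),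
  (0, [0, 1, 1, 1, 0, 1, 1, 3]), (1, [0, 2, 1]), (0, [1, 0, 2, 1, 2]), (0, [1, 0, 1, 1, 1, 3, 3]), (0, [1, 1, 1, 2, 0, 3]),
  (0, [2]), (0, [0, 0, 1, 1]), (0, [0, 0, 1]), (0, [0, 1, 0, 3]), (0, [0, 1, 1, 1, 0, 2, 3]),
  (0, [0, 1, 1, 0, 1, 0, 1]), (0, [0, 2, 1, 0, 3]), (1, [2, 0, 1, 0]), (0, [1, 0, 1, 0, 1, 1, 2]), (1, [1, 1, 2, 1, 1]),
  (0, [0, 0, 0, 1, 1, 1, 2]), (0, [1, 1, 2, 1, 0, 2]), (0, [1, 0, 1, 2, 0, 1, 2]), (0, [1, 1, 2, 1, 1, 3]), (0, [0, 1, 1, 2, 1]),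
  (0, [0, 1, 0, 1, 2, 0]), (0, [0, 2, 1, 2, 3]), (0, [0, 2, 1, 1, 1, 2, 1]), (0, [0, 2, 1, 1, 3]), (0, [1, 0, 1, 2, 3, 3]),
  (0, [0, 2, 1, 3]), (0, [1, 1, 1, 2, 1, 1, 0]), (1, [0, 0, 1, 1, 2]), (0, [1, 2, 3]), (0, [1, 0, 1, 0, 2, 1, 1]),
  (0, [1, 1, 0, 2, 1, 2]), (0, [1, 0, 1, 1, 1, 2, 3, 3]), (0, [0, 0, 1, 0, 1, 0, 1, 2]), (0, [0, 1, 2, 0, 1, 1, 0, 3]), (0, [1, 0, 1, 1, 3]),
  (0, [1, 0, 1, 0, 1, 1, 1, 2]), (0, [0, 2, 3]), (0, [1, 1, 0, 1, 1]), (0, [0, 0, 1, 0, 1, 1, 2]), (0, [0, 2, 1, 0, 2]),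
  (1, [1, 1, 2, 0, 3]), (0, [1, 1, 1, 2, 1]), (1, [0, 0]), (0, [1, 0, 2, 1, 0]), (0, [1, 1, 1, 2]),
  (1, [1, 0, 2]), (1, [2, 1, 1]), (0, [1, 2, 0, 3]), (0, [1, 0, 1, 1, 1, 0]), (0, [1, 1, 2, 0, 1]),
  (1, [0, 1, 2, 1, 1, 1]), (0, [0, 1, 3]), (1, [0, 2, 1, 1, 2]), (0, [0, 1, 1]), (0, [0, 1, 0, 2]),
  (0, [0, 1, 0, 1, 1, 2, 0, 3]), (1, [0, 2, 1, 1, 2, 1]), (0, [1, 2, 0, 1, 1]), (0, [2, 1, 1, 2]), (1, [2, 1, 3]),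
  (0, [1, 0, 2, 1]), (0, [0]), (0, [1, 1, 2, 1, 1, 0, 1]), (1, [0, 1, 1, 0]), (0, [0, 1, 2, 0, 1]),
  (0, [1, 1, 2, 0, 1, 1]), (0, [1, 0, 1, 1, 2, 0, 3]), (1, [2, 1, 1, 2, 1, 0]), (0, [0, 1, 2, 0, 1, 1, 1]), (0, [0, 1, 2, 3]),
  (0, [0, 1, 0, 1, 2]), (1, [1, 1, 0, 3]), (0, [2, 1, 1, 3]), (0, [0, 1, 0, 1, 2, 1]), (1, [2, 1, 0, 2, 1, 1]),
  (0, [1, 0, 2, 1, 2, 0]), (0, [1, 1, 2, 1, 1, 2]), (0, [1, 1, 1, 0, 1, 2]), (1, [0, 0, 1, 2, 1]), (1, [1, 3]),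
  (0, [0, 0, 1, 1, 1, 1, 2]), (0, [0, 1, 0, 1, 2, 1, 0]), (0, [1, 1, 1, 1]), (0, [0, 2, 1, 1, 1, 0]), (1, [2, 1, 1, 1, 0]),
  (0, [0, 1, 0, 1, 1, 0, 3]), (0, [0, 1, 1, 1, 0, 1, 0, 2]), (0, [1, 0, 1, 2, 0, 1]), (0, [1, 1, 0, 1, 2, 1]), (1, [2, 1, 1, 0, 3]),
  (0, [0, 2, 1, 2, 0, 1]), (1, [2, 1, 1, 0, 1, 3]), (0, [1, 1, 1]), (0, [0, 0, 1, 0, 1, 0, 1, 1, 1, 1]), (1, [0, 2, 3]),
  (0, [2, 1, 1, 1, 2]), (0, [0, 1, 1, 0, 1, 2, 1]), (0, [1, 0, 1, 2, 3]), (0, [0, 2, 1, 2]), (0, [0, 2, 1, 1]),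
  (0, [0, 1, 2, 1, 1, 2]), (0, [0, 1, 1, 1, 1, 0, 2]), (0, [1, 0, 1, 1]), (0, [1, 0, 1, 1, 1, 2, 3]), (0, [0, 1, 2, 0, 1, 1, 0]),
  (1, [1, 1, 2, 0]), (1, [0, 1]), (0, [0, 0, 1, 1, 1, 2]), (0, [0, 0, 1, 1, 1, 2, 1]), (0, [1, 2, 0, 1, 0, 3]),
  (0, [0, 2, 1]), (1, [0, 1, 1, 1, 2]), (0, [1, 1, 2, 1, 1, 0, 2]), (0, [0, 1, 1, 0, 1, 1, 2, 0]), (0, [1, 2]),
  (0, [0, 1, 1, 0, 1, 1, 0, 1, 1]), (0, [1, 1, 1, 1, 0]), (0, [0, 2, 1, 2, 0, 3]), (0, [0, 2]), (0, [1, 0, 1, 1, 2, 3, 3]),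
  (0, [0, 1, 1, 1, 1, 0, 1, 1]), (0, [1, 0, 1, 1, 1, 2, 0]), (0, [0, 2, 1, 0, 1, 3]), (0, [0, 0, 1, 0, 1, 2, 1, 1]), (1, [0, 2, 1, 1, 1, 2, 1]),
  (0, [0, 1, 1, 1, 1, 0, 1]), (1, [2, 1, 1, 0, 1, 1]), (0, [0, 1, 2, 0, 1, 2, 3]), (0, [1, 0, 1, 0, 1, 2, 1]), (0, [1, 0, 2, 1, 1, 0]),
  (0, [1, 0, 1, 1, 0, 1, 0, 1]), (0, [0, 1, 0, 1, 3]), (0, [0, 1, 1, 1, 0, 1, 0]), (0, [0, 1, 1, 1, 1, 2, 3]), (0, [0, 1, 0, 1, 1, 2, 3]),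
  (0, [0, 1, 0, 1, 1, 1, 2, 3]), (0, [0, 1, 0, 1, 1, 1, 0, 2]), (0, [1, 0, 2, 1, 0, 1, 3]), (0, [0, 1, 1, 2, 1, 1]), (1, [2, 0, 1, 0, 1, 1]),
  (0, [1, 0, 1, 1, 0, 3, 3]), (0, [1, 0, 1, 3, 3]), (0, [0, 1, 0, 1, 1, 1, 3]), (0, [1, 1, 2, 1, 3]), (0, [1, 1, 2, 3]),
  (0, [1, 2, 0, 1, 1, 0, 1, 3]), (0, [0, 1, 1, 1, 0, 1, 2, 1]), (0, [1, 1, 0, 1]), (0, [0, 1, 0, 2, 1, 1, 1, 2]), (0, [0, 1, 1, 1, 0]),
  (0, [0, 0, 2]), (0, [1, 3, 3]), (0, [0, 1, 1, 1, 0, 2]), (0, [1, 1, 3, 3]), (0, [0, 1, 0]),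
  (0, [1, 1, 1, 2, 0, 1]), (0, [1, 0, 2, 1, 0, 2, 1]), (0, [0, 2, 1, 1, 1, 3]), (0, [0, 2, 1, 0, 2, 1, 2]), (0, [1, 1, 2, 1, 1]),
  (0, [0, 1, 1, 1, 0, 1, 1]), (0, [1, 2, 0, 1, 2, 3]), (0, [1, 1, 1, 2, 0]), (1, [2, 0, 1, 3]), (0, [1, 0, 1, 1, 1, 3]),
  (0, [0, 1, 1, 1, 0, 1, 2]), (1, [2, 0, 1, 2]), (1, [2, 1, 1, 2]), (0, [0, 2, 1, 0]), (0, [1, 1, 2, 1, 1, 1])]

/-- check of the table -/
def chkT : ℕ → List (ℕ × List ℕ) → Bool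
  | n, [] => Nat.beq n 625
  | n, (b, p) :: t => (Nat.beq n 0 || decide (run p (base' b) = dec n)) && chkT (n + 1) t

set_option maxRecDepth 100000 in
theorem chk_tbl : chkT 0 tbl = true := by decide +kernel

/-! ### Generic facts -/

section generic

variable {G : Type*} [Group G]

theorem ev_rep (x : Fin 4 → G) (w : List ℕ) (n : ℕ) : ev x (rep w n) = ev x w ^ n := by
  induction n with
  | zero => rw [rep, ev_nil, pow_zero]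
  | succ n ih => rw [rep, ev_append, ih, pow_succ']

/-- `g` commutes with a conjugate of `τ` -/
def Good (τ g : G) : Prop := ∃ y : G, Commute (y⁻¹ * τ * y) g

theorem Good.conj {τ g : G} (h : Good τ g) (y : G) : Good τ (y⁻¹ * g * y) := by
  obtain ⟨w, hw⟩ := h
  refine ⟨w * y, ?_⟩
  have e : (w * y)⁻¹ * τ * (w * y) = y⁻¹ * (w⁻¹ * τ * w) * y := by group
  rw [e]
  have hw' : w⁻¹ * τ * w * g = g * (w⁻¹ * τ * w) := hw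
  show y⁻¹ * (w⁻¹ * τ * w) * y * (y⁻¹ * g * y) = y⁻¹ * g * y * (y⁻¹ * (w⁻¹ * τ * w) * y)
  calc y⁻¹ * (w⁻¹ * τ * w) * y * (y⁻¹ * g * y) = y⁻¹ * (w⁻¹ * τ * w * g) * y := by group
    _ = y⁻¹ * (g * (w⁻¹ * τ * w)) * y := by rw [hw']
    _ = _ := by group

theorem Good.of_conj {τ g y : G} (h : Good τ (y⁻¹ * g * y)) : Good τ g := by
  have h1 := h.conj y⁻¹
  have e : y⁻¹⁻¹ * (y⁻¹ * g * y) * y⁻¹ = g := by group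
  rwa [e] at h1

theorem Good.pow {τ g : G} (h : Good τ g) (n : ℕ) : Good τ (g ^ n) := by
  obtain ⟨w, hw⟩ := h
  exact ⟨w, hw.pow_right n⟩

theorem pw_mul {g : G} (hg : g ^ 5 = 1) (a b : ZMod 5) : Heis.pw (Heis.pw g a) b = Heis.pw g (a * b) := by
  have h : a * b = ((a.val * b.val : ℕ) : ZMod 5) := by
    push_cast; rw [ZMod.natCast_zmod_val, ZMod.natCast_zmod_val]
  rw [h, pw_natCast hg, pow_mul]; rfl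

end generic

section ctx

variable {G : Type*} [Group G] (x : Fin 5 → G)
  (wp : ∀ v w : List ℕ, eqW v w = true → ev (X4 x) v = ev (X4 x) w)

/-- the extraspecial group -/
def H : Heis.Data G where
  c i := ev (X4 x) (cw i)
  z := ev (X4 x) zw
  c5 i := by have := wp _ _ (k_c5 i); rwa [ev_rep, ev_nil] at this
  z5 := by have := wp _ _ k_z5; rwa [ev_rep, ev_nil] at this
  zc i := by have := wp _ _ (k_zc i); rwa [ev_append, ev_append] at this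
  h01 := by have := wp _ _ k01; rwa [ev_append, ev_append, ev_append, ev_rep, ← mul_assoc] at this
  h02 := by have := wp _ _ k02; rwa [ev_append, ev_append, ev_append, ev_rep, ← mul_assoc] at this
  h03 := by have := wp _ _ k03; rwa [ev_append, ev_append, ev_append, ev_rep, ← mul_assoc] at this
  h12 := by have := wp _ _ k12; rwa [ev_append, ev_append, ev_append, ev_rep, ← mul_assoc] at this
  h13 := by have := wp _ _ k13; rwa [ev_append, ev_append, ev_append, ev_rep, ← mul_assoc] at this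
  h23 := by have := wp _ _ k23; rwa [ev_append, ev_append, ev_append, ev_rep, ← mul_assoc] at this

/-- the involution `a ^ 4` -/
def τ : G := ev (X4 x) [0, 0, 0, 0]

local notation "HD" => H x wp

theorem ev_nw (a b c d m : ℕ) : ev (X4 x) (nw a b c d m) = (HD).N (toV (a, b, c, d)) m := by
  have e : (HD).N (toV (a, b, c, d)) m = Heis.pw ((HD).c 0) (a : ZMod 5) * (Heis.pw ((HD).c 1) (b : ZMod 5) *
      (Heis.pw ((HD).c 2) (c : ZMod 5) * (Heis.pw ((HD).c 3) (d : ZMod 5) * Heis.pw (HD).z (m : ZMod 5)))) := rfl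
  rw [e, pw_natCast ((HD).c5 0), pw_natCast ((HD).c5 1), pw_natCast ((HD).c5 2), pw_natCast ((HD).c5 3),
    pw_natCast (HD).z5, nw, ev_append, ev_append, ev_append, ev_append, ev_rep, ev_rep, ev_rep, ev_rep, ev_rep]
  rfl

theorem ev_rw (r : ℕ × ℕ × ℕ × ℕ × ℕ) : (HD).R (rv r) (ev (X4 x) (rw' r)) := by
  rw [rw', ev_nw x wp]
  exact R.N _ _

theorem rowsA (i : Fin 4) : (HD).R (rv (rows 0 i)) ((x 0)⁻¹ * (HD).c i * x 0) := by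
  have h := wp _ _ (k_A i)
  rw [ev_append, ev_append] at h
  have e : (x 0)⁻¹ * (HD).c i * x 0 = ev (X4 x) (rw' (rows 0 i)) := by
    rw [← h, mul_assoc]
    simp only [ev, List.map_cons, List.map_nil, List.prod_cons, List.prod_nil, mul_one]
    rfl
  rw [e]
  exact ev_rw x wp _

theorem rowsB (i : Fin 4) : (HD).R (rv (rows 1 i)) ((x 1)⁻¹ * (HD).c i * x 1) := by
  have h := wp _ _ (k_B i)
  rw [ev_append, ev_append] at h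
  have e : (x 1)⁻¹ * (HD).c i * x 1 = ev (X4 x) (rw' (rows 1 i)) := by
    rw [← h, mul_assoc]
    simp only [ev, List.map_cons, List.map_nil, List.prod_cons, List.prod_nil, mul_one]
    rfl
  rw [e]
  exact ev_rw x wp _

theorem rowsBi (i : Fin 4) : (HD).R (rv (rows 3 i)) ((x 1)⁻¹⁻¹ * (HD).c i * (x 1)⁻¹) := by
  have h := wp _ _ (k_Bi i)
  rw [ev_append, ev_append] at h
  have e : (x 1)⁻¹⁻¹ * (HD).c i * (x 1)⁻¹ = ev (X4 x) (rw' (rows 3 i)) := by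
    rw [← h, mul_assoc, inv_inv]
    simp only [ev, List.map_cons, List.map_nil, List.prod_cons, List.prod_nil, mul_one]
    rfl
  rw [e]
  exact ev_rw x wp _

theorem rowAz : (x 0)⁻¹ * (HD).z * x 0 = (HD).z ^ 2 := by
  have h := wp _ _ k_Az
  rw [ev_append, ev_append, ev_rep] at h
  rw [mul_assoc]
  simp only [ev, List.map_cons, List.map_nil, List.prod_cons, List.prod_nil, mul_one] at h
  exact h

theorem rowBz : (x 1)⁻¹ * (HD).z * x 1 = (HD).z ^ 1 := by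
  have h := wp _ _ k_Bz
  rw [ev_append, ev_append, ev_rep] at h
  rw [mul_assoc]
  simp only [ev, List.map_cons, List.map_nil, List.prod_cons, List.prod_nil, mul_one] at h
  exact h

theorem rowBiz : (x 1)⁻¹⁻¹ * (HD).z * (x 1)⁻¹ = (HD).z ^ 1 := by
  have h := wp _ _ k_Biz
  rw [ev_append, ev_append, ev_rep] at h
  rw [mul_assoc, inv_inv]
  simp only [ev, List.map_cons, List.map_nil, List.prod_cons, List.prod_nil, mul_one] at h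
  exact h

include wp in
theorem b5 : x 1 ^ 5 = 1 := by
  have h := wp _ _ k_b5
  rw [ev_rep, ev_nil] at h
  simp only [ev, List.map_cons, List.map_nil, List.prod_cons, List.prod_nil, mul_one] at h
  exact h

variable (hx : ∀ w ∈ relWords, FreeGroup.lift x (FreeGroup.mk w) = 1)

include hx in
theorem rowsZ (i : Fin 4) : (HD).R (rv (rows 2 i)) ((x 4)⁻¹ * (HD).c i * x 4) := by
  have h := hK x hx (2 * i)
  rw [k_K] at h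
  have h2 := wp _ _ (k_Z i)
  have e : (x 4)⁻¹ * (HD).c i * x 4 = ev (X4 x) (rw' (rows 2 i)) := by
    rw [← h2, mul_assoc, inv_mul_eq_iff_eq_mul]
    exact h
  rw [e]
  exact ev_rw x wp _

include hx in
theorem rowZz : (x 4)⁻¹ * (HD).z * x 4 = (HD).z ^ 2 := by
  have h := hK x hx 8
  rw [k_Kz] at h
  have h2 := wp _ _ k_Zz
  rw [ev_rep] at h2
  rw [mul_assoc, inv_mul_eq_iff_eq_mul]
  rw [h2] at h
  exact h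

/-- all the elements of the coset `v ≠ 0` commute with conjugates of `a ^ 4` -/
def S (v : V) : Prop := v ≠ 0 → ∀ y, (HD).R v y → Good (τ x) y

variable {x wp}

theorem S_of {v : V} {y : G} (hy : (HD).R v y) (hg : Good (τ x) y) : S x wp v := by
  intro hv y' hy'
  obtain ⟨m, rfl⟩ := hy
  obtain ⟨m', rfl⟩ := hy'
  obtain ⟨w, hw⟩ := conj_of_ne (H := HD) hv m m'
  rw [← hw]
  exact hg.conj w

theorem act_zero (M : Fin 4 → V) : act M 0 = 0 := by simp [act]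

theorem S_act {M : Fin 4 → V} {g : G} (hM : ∀ i, (HD).R (M i) (g⁻¹ * (HD).c i * g)) {k : ℕ}
    (hz : g⁻¹ * (HD).z * g = (HD).z ^ k) {v : V} (hS : S x wp v) : S x wp (act M v) := by
  intro hv
  have hv0 : v ≠ 0 := by
    rintro rfl
    exact hv (act_zero M)
  have h1 : Good (τ x) ((HD).N v 0) := hS hv0 _ (R.N v 0)
  exact S_of (R.conj hM hz (R.N v 0)) (h1.conj g) hv

theorem S_smul {v : V} (hS : S x wp v) : S x wp (2 • v) := by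
  intro hv
  have hv0 : v ≠ 0 := by
    rintro rfl
    exact hv (smul_zero _)
  have h1 : Good (τ x) ((HD).N v 0) := hS hv0 _ (R.N v 0)
  exact S_of ((R.N v 0).pow 2) (h1.pow 2) hv

theorem toV_step0 (v : ℕ × ℕ × ℕ × ℕ) : toV (step 0 v) = act (fun i => rv (rows 0 i)) (toV v) := by
  obtain ⟨a, b, c, d⟩ := v
  funext j
  fin_cases j <;> simp [toV, step, act, rv, rows, ZMod.natCast_mod] <;> ring

theorem toV_step1 (v : ℕ × ℕ × ℕ × ℕ) : toV (step 1 v) = act (fun i => rv (rows 1 i)) (toV v) := by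
  obtain ⟨a, b, c, d⟩ := v
  funext j
  fin_cases j <;> simp [toV, step, act, rv, rows, ZMod.natCast_mod] <;> ring

theorem toV_step2 (v : ℕ × ℕ × ℕ × ℕ) : toV (step 2 v) = act (fun i => rv (rows 2 i)) (toV v) := by
  obtain ⟨a, b, c, d⟩ := v
  funext j
  fin_cases j <;> simp [toV, step, act, rv, rows, ZMod.natCast_mod] <;> ring

theorem toV_step3 (k : ℕ) (v : ℕ × ℕ × ℕ × ℕ) : toV (step (k + 3) v) = 2 • toV v := by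
  obtain ⟨a, b, c, d⟩ := v
  funext j
  fin_cases j <;> simp [toV, step, ZMod.natCast_mod]

include hx in
theorem S_step (k : ℕ) (v : ℕ × ℕ × ℕ × ℕ) (h : S x wp (toV v)) : S x wp (toV (step k v)) := by
  match k with
  | 0 => rw [toV_step0]; exact S_act (rowsA x wp) (rowAz x wp) h
  | 1 => rw [toV_step1]; exact S_act (rowsB x wp) (rowBz x wp) h
  | 2 => rw [toV_step2]; exact S_act (rowsZ x wp hx) (rowZz x wp hx) h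
  | k + 3 => rw [toV_step3]; exact S_smul h

include hx in
theorem S_run (p : List ℕ) : ∀ v : ℕ × ℕ × ℕ × ℕ, S x wp (toV v) → S x wp (toV (run p v)) := by
  induction p with
  | nil => intro v h; exact h
  | cons k p ih => intro v h; exact ih _ (S_step hx k v h)

theorem ev_tw (g : List ℕ) : ev (X4 x) (tw' g) = (ev (X4 x) g)⁻¹ * τ x * ev (X4 x) g := by
  rw [tw', ev_append, ev_append, ev_invW, ← mul_assoc]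
  rfl

theorem S_base (b : ℕ) : S x wp (toV (base' b)) := by
  match b with
  | 0 =>
    refine S_of (y := ev (X4 x) (nw 0 1 1 0 4)) (by rw [ev_nw x wp]; exact R.N _ _) ⟨ev (X4 x) [2, 0, 3, 5, 2, 3], ?_⟩
    have h := wp _ _ k_base0
    rw [ev_append, ev_append, ev_tw] at h
    exact h
  | b + 1 =>
    refine S_of (y := ev (X4 x) (nw 1 3 3 4 1)) (by rw [ev_nw x wp]; exact R.N _ _) ⟨ev (X4 x) [2, 4, 1, 2, 3], ?_⟩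
    have h := wp _ _ k_base1
    rw [ev_append, ev_append, ev_tw] at h
    exact h

include hx in
theorem S_chk (t : List (ℕ × List ℕ)) : ∀ n, chkT n t = true → ∀ k, n ≤ k → k < 625 → k ≠ 0 →
    S x wp (toV (dec k)) := by
  induction t with
  | nil =>
    intro n h k h1 h2 _
    rw [chkT] at h
    have := Nat.eq_of_beq_eq_true h
    omega
  | cons q t ih =>
    obtain ⟨b, p⟩ := q
    intro n h k h1 h2 h3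
    rw [chkT, Bool.and_eq_true, Bool.or_eq_true, decide_eq_true_iff] at h
    rcases Nat.eq_or_lt_of_le h1 with rfl | h4
    · rcases h.1 with h5 | h5
      · exact absurd (Nat.eq_of_beq_eq_true h5) h3
      · rw [← h5]
        exact S_run hx p _ (S_base b)
    · exact ih (n + 1) h.2 k h4 h2 h3

theorem exists_dec (v : V) : ∃ n < 625, toV (dec n) = v := by
  have h0 := (v 0).val_lt
  have h1 := (v 1).val_lt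
  have h2 := (v 2).val_lt
  have h3 := (v 3).val_lt
  refine ⟨125 * (v 0).val + 25 * (v 1).val + 5 * (v 2).val + (v 3).val, by omega, ?_⟩
  have e0 : (125 * (v 0).val + 25 * (v 1).val + 5 * (v 2).val + (v 3).val) / 125 = (v 0).val := by omega
  have e1 : (125 * (v 0).val + 25 * (v 1).val + 5 * (v 2).val + (v 3).val) / 25 % 5 = (v 1).val := by omega
  have e2 : (125 * (v 0).val + 25 * (v 1).val + 5 * (v 2).val + (v 3).val) / 5 % 5 = (v 2).val := by omega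
  have e3 : (125 * (v 0).val + 25 * (v 1).val + 5 * (v 2).val + (v 3).val) % 5 = (v 3).val := by omega
  rw [dec, e0, e1, e2, e3]
  funext j
  fin_cases j <;> simp [toV]

include hx in
/-- Every element of `E ∖ ⟨c₅⟩` commutes with a conjugate of `a ^ 4`. -/
theorem good_of_R {v : V} (hv : v ≠ 0) {y : G} (hy : (HD).R v y) : Good (τ x) y := by
  obtain ⟨n, hn, rfl⟩ := exists_dec v
  have hn0 : n ≠ 0 := by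
    rintro rfl
    apply hv
    funext j
    fin_cases j <;> simp [toV, dec]
  exact S_chk hx tbl 0 chk_tbl n (Nat.zero_le n) hn hn0 hv y hy

theorem good_z (m : ZMod 5) : Good (τ x) (Heis.pw (HD).z m) := by
  refine ⟨1, ?_⟩
  rw [inv_one, one_mul, mul_one]
  have h := wp _ _ k_tz
  rw [ev_append, ev_append] at h
  exact Commute.pow_right h _

/-! ### The Sylow subgroup -/

/-- conjugation by `b` preserves `E` -/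
theorem b_conj (n : ℕ) : ∀ {v : V} {y : G}, (HD).R v y → ∃ v', (HD).R v' (x 1 ^ n * y * (x 1 ^ n)⁻¹) := by
  induction n with
  | zero => intro v y h; exact ⟨v, by simpa using h⟩
  | succ n ih =>
    intro v y h
    have h1 := R.conj (rowsBi x wp) (rowBiz x wp) h
    obtain ⟨v', hv'⟩ := ih h1
    refine ⟨v', ?_⟩
    have e : x 1 ^ n * ((x 1)⁻¹⁻¹ * y * (x 1)⁻¹) * (x 1 ^ n)⁻¹ = x 1 ^ (n + 1) * y * (x 1 ^ (n + 1))⁻¹ := by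
      rw [pow_succ]; group
    rwa [e] at hv'

variable (x wp) in
/-- the elements of `E bᵏ` -/
def Q (k : ZMod 5) (y : G) : Prop := ∃ v y0, (HD).R v y0 ∧ y = y0 * Heis.pw (x 1) k

theorem Q.mul {k l : ZMod 5} {y y' : G} (hy : Q x wp k y) (hy' : Q x wp l y') : Q x wp (k + l) (y * y') := by
  obtain ⟨v, y0, h0, rfl⟩ := hy
  obtain ⟨v', y1, h1, rfl⟩ := hy'
  obtain ⟨w, hw⟩ := b_conj k.val h1
  refine ⟨v + w, _, h0.mul hw, ?_⟩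
  rw [pw_add (b5 x wp)]
  unfold Heis.pw
  group

theorem Q.one : Q x wp 0 1 := ⟨0, 1, R.one, by rw [pw_zero, mul_one]⟩

theorem Q.pow {k : ZMod 5} {y : G} (hy : Q x wp k y) (n : ℕ) : Q x wp (n * k) (y ^ n) := by
  induction n with
  | zero => rw [Nat.cast_zero, zero_mul, pow_zero]; exact Q.one
  | succ n ih =>
    rw [pow_succ, Nat.cast_succ, add_mul, one_mul]
    exact ih.mul hy

theorem Q.b : Q x wp 1 (x 1) := ⟨0, 1, R.one, by rw [pw_one, one_mul]⟩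

theorem Q.ofR {v : V} {y : G} (h : (HD).R v y) : Q x wp 0 y := ⟨v, y, h, by rw [pw_zero, mul_one]⟩

/-- the solution of `X + v - act Bi X = (0, p, 0, 0)` -/
def SM : Fin 4 → V := ![![0, 3, 3, 2], ![0, 0, 0, 0], ![0, 3, 2, 2], ![0, 3, 1, 0]]

theorem SM_spec (v : V) : act SM v + (v + -act (fun i => rv (rows 3 i)) (act SM v)) = ![0, v 1, 0, 0] := by
  have e : (fun i => rv (rows 3 i)) = ![![0, 0, 0, 1], ![3, 1, 2, 2], ![1, 0, 0, 0], ![2, 0, 1, 3]] := by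
    funext i j
    fin_cases i <;> fin_cases j <;> rfl
  rw [e]
  funext j
  fin_cases j
  all_goals
    simp only [act, SM, Pi.add_apply, Pi.neg_apply, Pi.smul_apply, smul_eq_mul, Matrix.cons_val, Fin.zero_eta,
      Fin.mk_one, Fin.reduceFinMk]
    ring_nf
    try reduce_mod_char

theorem vec_ne (m : ZMod 5) : m • toV (2, 0, 4, 4) + toV (1, 0, 4, 3) ≠ 0 := by
  revert m
  decide

/-- `c₅^m b` commutes with a conjugate of `a ^ 4` -/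
theorem good_zb (hx : ∀ w ∈ relWords, FreeGroup.lift x (FreeGroup.mk w) = 1) (m : ZMod 5) :
    Good (τ x) (Heis.pw (HD).z m * x 1) := by
  set e : G := ev (X4 x) ew with he
  have h1 : e⁻¹ * x 1 * e = (HD).N (toV (1, 0, 4, 3)) (0 : ℕ) := by
    have h := wp _ _ k_eb
    rw [ev_nw x wp, ev_append, ev_append, ev_invW] at h
    rw [mul_assoc, ← h]
    simp only [ev, List.map_cons, List.map_nil, List.prod_cons, List.prod_nil, mul_one]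
    rfl
  have h2 : e⁻¹ * (HD).z * e = (HD).N (toV (2, 0, 4, 4)) (3 : ℕ) := by
    have h := wp _ _ k_ez
    rw [ev_nw x wp, ev_append, ev_append, ev_invW] at h
    rw [mul_assoc, ← h]
    rfl
  have h3 : e⁻¹ * Heis.pw (HD).z m * e = Heis.pw (e⁻¹ * (HD).z * e) m := by
    have := conj_pow (a := e⁻¹) (b := (HD).z) (i := m.val)
    rw [inv_inv] at this
    exact this.symm
  apply Good.of_conj (y := e)
  have h4 : e⁻¹ * (Heis.pw (HD).z m * x 1) * e = Heis.pw (e⁻¹ * (HD).z * e) m * (e⁻¹ * x 1 * e) := by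
    rw [← h3]; group
  rw [h4, h1, h2]
  exact good_of_R hx (vec_ne m) (((R.N _ _).pw m).mul (R.N _ _))

theorem z_b : (HD).z * x 1 = x 1 * (HD).z := by
  have h := rowBz x wp
  rw [pow_one, mul_assoc, inv_mul_eq_iff_eq_mul] at h
  exact h

/-- `(c₂^p b)^5` -/
theorem p_pow {p : ZMod 5} (hp : p ≠ 0) (hz : (HD).z ≠ 1) : (Heis.pw ((HD).c 1) p * x 1) ^ 5 ≠ 1 := by
  have hb : ev (X4 x) [1] = x 1 := by
    simp only [ev, List.map_cons, List.map_nil, List.prod_cons, List.prod_nil, mul_one]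
    rfl
  have key : ∀ n : ℕ, ∀ w : List ℕ, ev (X4 x) w ≠ 1 → eqW (rep (rep (cw 1) n ++ [1]) 5) w = true →
      (((HD).c 1) ^ n * x 1) ^ 5 ≠ 1 := by
    intro n w hw h
    have h1 := wp _ _ h
    rw [ev_rep, ev_append, ev_rep, hb] at h1
    have h2 : (((HD).c 1) ^ n * x 1) ^ 5 = ev (X4 x) w := h1
    rw [h2]
    exact hw
  have hz4 : (HD).z ^ 4 ≠ 1 := by
    intro h
    apply hz
    have h5 := (HD).z5
    rw [pow_succ, h, one_mul] at h5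
    exact h5
  have w1 : ev (X4 x) zw ≠ 1 := hz
  have w4 : ev (X4 x) (rep zw 4) ≠ 1 := by rw [ev_rep]; exact hz4
  have hlt := p.val_lt
  have hne : p.val ≠ 0 := by rwa [Ne, ZMod.val_eq_zero]
  unfold Heis.pw
  generalize p.val = n at hlt hne
  have : n = 1 ∨ n = 2 ∨ n = 3 ∨ n = 4 := by omega
  rcases this with rfl | rfl | rfl | rfl
  · exact key 1 zw w1 k_p1'
  · exact key 2 _ w4 k_p2
  · exact key 3 _ w4 k_p3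
  · exact key 4 _ w1 k_p4

/-- elements of order 5 of `E b` -/
theorem good_Q1 (hx : ∀ w ∈ relWords, FreeGroup.lift x (FreeGroup.mk w) = 1) (hz : (HD).z ≠ 1) {y : G}
    (hy : Q x wp 1 y) (h5 : y ^ 5 = 1) : Good (τ x) y := by
  obtain ⟨v, y0, h0, rfl⟩ := hy
  rw [pw_one] at h5 ⊢
  set g : G := (HD).N (act SM v) 0 with hg
  have h1 : (HD).R (-act (fun i => rv (rows 3 i)) (act SM v)) (x 1 * g⁻¹ * (x 1)⁻¹) := by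
    have h := (R.conj (rowsBi x wp) (rowBiz x wp) (R.N (H := HD) (act SM v) 0)).inv
    have e : ((x 1)⁻¹⁻¹ * g * (x 1)⁻¹)⁻¹ = x 1 * g⁻¹ * (x 1)⁻¹ := by group
    rwa [← hg, e] at h
  have h2 := (R.N (H := HD) (act SM v) 0).mul (h0.mul h1)
  rw [SM_spec, ← hg] at h2
  obtain ⟨m, hm⟩ := h2
  have h3 : g * (y0 * x 1) * g⁻¹ = Heis.pw ((HD).c 1) (v 1) * x 1 * Heis.pw (HD).z m := by
    have e1 : g * (y0 * x 1) * g⁻¹ = g * (y0 * (x 1 * g⁻¹ * (x 1)⁻¹)) * x 1 := by group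
    have e2 : Heis.pw (HD).z m * x 1 = x 1 * Heis.pw (HD).z m := (Commute.pow_left (z_b (wp := wp)) m.val).eq
    rw [e1, hm, mul_assoc _ (x 1), ← e2, ← mul_assoc]
    congr 1
    unfold Heis.Data.N
    simp [pw_zero]
  have hcomm : Commute (Heis.pw ((HD).c 1) (v 1) * x 1) (Heis.pw (HD).z m) := by
    apply Commute.mul_left
    · exact (commute_pw ((HD).zc 1) m (v 1)).symm
    · exact (Commute.pow_left (z_b (wp := wp)) m.val).symm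
  have hz5 : Heis.pw (HD).z m ^ 5 = 1 := by
    unfold Heis.pw
    rw [← pow_mul, mul_comm, pow_mul, (HD).z5, one_pow]
  have h4 : (g * (y0 * x 1) * g⁻¹) ^ 5 = 1 := by rw [conj_pow, h5, mul_one, mul_inv_cancel]
  rw [h3, hcomm.mul_pow, hz5, mul_one] at h4
  have hv : v 1 = 0 := by
    by_contra hne
    exact p_pow hne hz h4
  rw [hv, pw_zero, one_mul] at h3
  apply Good.of_conj (y := g⁻¹)
  have e2 : Heis.pw (HD).z m * x 1 = x 1 * Heis.pw (HD).z m := (Commute.pow_left (z_b (wp := wp)) m.val).eq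
  rw [inv_inv, h3, ← e2]
  exact good_zb hx m

/-- **Elements of order 5 of the Sylow 5-subgroup commute with a conjugate of `a ^ 4`.** -/
theorem good_of_Q (hx : ∀ w ∈ relWords, FreeGroup.lift x (FreeGroup.mk w) = 1) (hz : (HD).z ≠ 1) {y : G}
    {k : ZMod 5} (hy : Q x wp k y) (h5 : y ^ 5 = 1) : Good (τ x) y := by
  have hp : Fact (Nat.Prime 5) := ⟨by norm_num⟩
  by_cases hk : k = 0
  · subst hk
    obtain ⟨v, y0, h0, rfl⟩ := hy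
    rw [pw_zero, mul_one]
    by_cases hv : v = 0
    · subst hv
      obtain ⟨m, rfl⟩ := h0
      rw [N_zero]
      exact good_z m
    · exact good_of_R hx hv h0
  · have h1 : Q x wp 1 (y ^ (k⁻¹).val) := by
      have h := hy.pow (k⁻¹).val
      rwa [ZMod.natCast_zmod_val, inv_mul_cancel₀ hk] at h
    have h2 : (y ^ (k⁻¹).val) ^ 5 = 1 := by rw [← pow_mul, mul_comm, pow_mul, h5, one_pow]
    have h3 := (good_Q1 hx hz h1 h2).pow k.val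
    have h4 : (y ^ (k⁻¹).val) ^ k.val = y := by
      have h := pw_mul h5 k⁻¹ k
      rw [inv_mul_cancel₀ hk, pw_one] at h
      exact h
    rwa [h4] at h3

end ctx

end Cfsg.Agent.R10.FiveCalc
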