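import Cfsg.Agent.R10.NGenRel

/-!
# The action of `a`, `b`, `z` on `E / ⟨f⟩`
-/

set_option autoImplicit false

namespace Cfsg.Agent.R10.NGenAct

open Subgroup Equiv Cfsg.Agent.SporRec.TwoAn Cfsg.Agent.SporRec.LyType Cfsg.Agent.SporRec.LyFive
  Cfsg.Agent.R10.CliffSign Cfsg.Agent.R10.CliffWord Cfsg.Agent.R10.NGenCo Cfsg.Agent.R10.NGenRel Cfsg.Agent.R10.NGenW
  Cfsg.Agent.R10.NGenMod Cfsg.Agent.R10.NGenDelta

variable {G : Type*} [Group G] {L : LyType G} {F : LyFive L} {a b z : G}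

theorem Lifts.aN (h : Lifts L F.f a b z) : a ∈ N F := by
  rw [mem_N, h.af]; exact pow_mem (mem_zpowers _) _

theorem Lifts.bN (h : Lifts L F.f a b z) : b ∈ N F := by
  rw [mem_N, h.bf]; exact pow_mem (mem_zpowers _) _

theorem Lifts.zN (h : Lifts L F.f a b z) : z ∈ N F := by
  rw [mem_N, h.zf]; exact pow_mem (mem_zpowers _) _

/-- letters in a monoid -/
def ltm {M : Type*} [Monoid M] (A B Z : M) : ℕ → M
  | 0 => A
  | 2 => B
  | 6 => Z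
  | _ => 1

/-- words in a monoid -/
def evm {M : Type*} [Monoid M] (A B Z : M) (w : List ℕ) : M := (w.map (ltm A B Z)).prod

theorem evm_append {M : Type*} [Monoid M] (A B Z : M) (v w : List ℕ) :
    evm A B Z (v ++ w) = evm A B Z v * evm A B Z w := by simp [evm]

/-- positive words -/
def pos (w : List ℕ) : Bool := w.all (fun l => l == 0 || l == 2 || l == 6)

theorem map_ev {G M : Type*} [Group G] [Monoid M] (φ : G →* M) (a b z : G) {w : List ℕ} (hw : pos w = true) :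
    φ (ev a b 1 z w) = evm (φ a) (φ b) (φ z) w := by
  unfold ev evm
  rw [map_list_prod, List.map_map]
  congr 1
  apply List.map_congr_left
  intro l hl
  have := List.all_eq_true.1 hw l hl
  simp only [Bool.or_eq_true, beq_iff_eq] at this
  rcases this with (rfl | rfl) | rfl <;> rfl

theorem Lifts.evm_eq (h : Lifts L F.f a b z) {v w : List ℕ} (hv : pos v = true) (hw : pos w = true)
    (hg : ∀ s, good ((v ++ wi w).flatMap (tl s)) = true) :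
    evm (ρ F ⟨a, Lifts.aN h⟩) (ρ F ⟨b, Lifts.bN h⟩) (ρ F ⟨z, Lifts.zN h⟩) v =
      evm (ρ F ⟨a, Lifts.aN h⟩) (ρ F ⟨b, Lifts.bN h⟩) (ρ F ⟨z, Lifts.zN h⟩) w := by
  have h1 := h.eq hg
  have h2 : ev (⟨a, Lifts.aN h⟩ : N F) ⟨b, Lifts.bN h⟩ 1 ⟨z, Lifts.zN h⟩ v =
      ev (⟨a, Lifts.aN h⟩ : N F) ⟨b, Lifts.bN h⟩ 1 ⟨z, Lifts.zN h⟩ w := by
    apply Subtype.ext
    have e1 := ev_map (N F).subtype ⟨a, Lifts.aN h⟩ ⟨b, Lifts.bN h⟩ 1 ⟨z, Lifts.zN h⟩ v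
    have e2 := ev_map (N F).subtype ⟨a, Lifts.aN h⟩ ⟨b, Lifts.bN h⟩ 1 ⟨z, Lifts.zN h⟩ w
    exact e1.trans (h1.trans e2.symm)
  have h3 := congrArg (ρ F) h2
  rwa [map_ev (ρ F) _ _ _ hv, map_ev (ρ F) _ _ _ hw] at h3

/-- the word of the torus element -/
def hW : List ℕ := [0, 0, 0, 0, 0, 0, 0, 2, 2, 2, 0, 2, 0, 2, 2, 2]

theorem Lifts.A4 (h : Lifts L F.f a b z) : (ρ F ⟨a, Lifts.aN h⟩) ^ 4 = -1 := by
  rw [← map_pow, ← ρ_t F]
  congr 1
  exact Subtype.ext h.a4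

theorem Lifts.ops (h : Lifts L F.f a b z) :
    Ops (ρ F ⟨a, Lifts.aN h⟩) (ρ F ⟨b, Lifts.bN h⟩)
      (evm (ρ F ⟨a, Lifts.aN h⟩) (ρ F ⟨b, Lifts.bN h⟩) (ρ F ⟨z, Lifts.zN h⟩) hW) := by
  have hA4 := Lifts.A4 h
  have e := @Lifts.evm_eq G _ L F a b z h
  set A := ρ F ⟨a, Lifts.aN h⟩
  set B := ρ F ⟨b, Lifts.bN h⟩
  set Z := ρ F ⟨z, Lifts.zN h⟩
  set H := evm A B Z hW with hH
  refine ⟨?_, hA4, ?_, ?_, ?_, ?_, ?_, ?_, ?_, ?_⟩
  · have := @e [2, 2, 2, 2, 2] [] (by decide) (by decide) (by decide +kernel)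
    simpa [evm, ltm, pow_succ, mul_assoc] using this
  · have := @e (hW ++ (hW ++ (hW ++ hW))) [] (by decide) (by decide) (by decide +kernel)
    rw [evm_append, evm_append, evm_append, ← hH] at this
    simpa [evm, pow_succ, mul_assoc] using this
  · have := @e [0, 0, 2] [2, 0, 0] (by decide) (by decide) (by decide +kernel)
    simpa [evm, ltm, pow_succ, mul_assoc] using this
  · have := @e ([0, 0] ++ hW) (hW ++ [0, 0]) (by decide) (by decide) (by decide +kernel)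
    rw [evm_append, evm_append, ← hH] at this
    simpa [evm, ltm, pow_succ, mul_assoc] using this
  · have := @e (hW ++ [2]) ([2, 2] ++ hW) (by decide) (by decide) (by decide +kernel)
    rw [evm_append, evm_append, ← hH] at this
    simpa [evm, ltm, pow_succ, mul_assoc] using this
  · have := @e [0, 2, 0] ([2, 2, 0] ++ (hW ++ [2, 2])) (by decide) (by decide) (by decide +kernel)
    rw [evm_append, evm_append, ← hH] at this
    simpa [evm, ltm, pow_succ, mul_assoc] using this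
  · have := @e [0, 2, 2, 0] ([2, 0] ++ (hW ++ (hW ++ (hW ++ [0, 0, 2])))) (by decide) (by decide) (by decide +kernel)
    rw [evm_append, evm_append, evm_append, evm_append, ← hH] at this
    simpa [evm, ltm, pow_succ, mul_assoc] using this
  · have := @e [0, 2, 2, 2, 0] ([0, 0, 0, 0] ++ ([2, 2, 2, 2, 0] ++ (hW ++ (hW ++ (hW ++ [0, 0, 2, 2, 2, 2])))))
      (by decide) (by decide) (by decide +kernel)
    rw [evm_append, evm_append, evm_append, evm_append, evm_append, ← hH] at this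
    have e4 : evm A B Z [0, 0, 0, 0] = -1 := by
      rw [← hA4]; simp [evm, ltm, pow_succ, mul_assoc]
    have p1 : evm A B Z [0, 2, 2, 2, 0] = A * B ^ 3 * A := by simp [evm, ltm, pow_succ, mul_assoc]
    have p2 : evm A B Z [2, 2, 2, 2, 0] = B ^ 4 * A := by simp [evm, ltm, pow_succ, mul_assoc]
    have p3 : evm A B Z [0, 0, 2, 2, 2, 2] = A ^ 2 * B ^ 4 := by simp [evm, ltm, pow_succ, mul_assoc]
    rw [e4, p1, p2, p3, neg_one_mul] at this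
    have h3 : H ^ 3 = H * (H * H) := by rw [pow_succ, pow_two, mul_assoc]
    rw [this, h3]
    simp only [mul_assoc]
  · have := @e [0, 2, 2, 2, 2, 0] ([0, 0, 0, 0] ++ ([2, 2, 2, 0] ++ (hW ++ [2, 2, 2])))
      (by decide) (by decide) (by decide +kernel)
    rw [evm_append, evm_append, evm_append, ← hH] at this
    have e4 : evm A B Z [0, 0, 0, 0] = -1 := by
      rw [← hA4]; simp [evm, ltm, pow_succ, mul_assoc]
    have p1 : evm A B Z [0, 2, 2, 2, 2, 0] = A * B ^ 4 * A := by simp [evm, ltm, pow_succ, mul_assoc]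
    have p2 : evm A B Z [2, 2, 2, 0] = B ^ 3 * A := by simp [evm, ltm, pow_succ, mul_assoc]
    have p3 : evm A B Z [2, 2, 2] = B ^ 3 := by simp [evm, ltm, pow_succ, mul_assoc]
    rw [e4, p1, p2, p3, neg_one_mul] at this
    rw [this]
    simp only [mul_assoc]

theorem Lifts.form (h : Lifts L F.f a b z) :
    Form (ρ F ⟨a, Lifts.aN h⟩) (ρ F ⟨b, Lifts.bN h⟩) (β F) where
  self := β_self F
  nondeg v hv := β_nondeg F hv
  hA v w := by
    have := β_conj F ⟨a, Lifts.aN h⟩ (k := 3) h.af v w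
    simpa using this
  hB v w := by
    have := β_conj F ⟨b, Lifts.bN h⟩ (k := 1) h.bf v w
    simpa using this

theorem Lifts.x_comm (h : Lifts L F.f a b z) :
    (a ^ 7 * b ^ 4 * a * b) * L.t = L.t * (a ^ 7 * b ^ 4 * a * b) := by
  have ha : Commute a L.t := h.ca
  have hb : Commute b L.t := h.cb
  exact ((((ha.pow_left 7).mul_left (hb.pow_left 4)).mul_left ha).mul_left hb)

theorem Lifts.x_cycle (h : Lifts L F.f a b z) :
    (L.K.π ⟨a ^ 7 * b ^ 4 * a * b, L.mem_iff.2 (Lifts.x_comm h)⟩).cycleType = {3} := by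
  have h1 : L.K.π ⟨a ^ 7 * b ^ 4 * a * b, L.mem_iff.2 (Lifts.x_comm h)⟩ = pa ^ 7 * pb ^ 4 * pa * pb := by
    rw [← h.πa, ← h.πb, ← map_pow, ← map_pow, ← map_mul, ← map_mul, ← map_mul]
    rfl
  rw [h1]
  have h2 : (pa ^ 7 * pb ^ 4 * pa * pb).support.card = 3 := by decide +kernel
  exact card_support_eq_three_iff.1 h2

theorem Lifts.finrank_x (h : Lifts L F.f a b z) :
    Module.finrank (ZMod 5) (LinearMap.ker (cyc3 (ρ F ⟨a, Lifts.aN h⟩) (ρ F ⟨b, Lifts.bN h⟩) - 1)) = 2 := by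
  have hx3 : (a ^ 7 * b ^ 4 * a * b) ^ 3 = 1 := by
    have := @Lifts.eq G _ L F.f a b z h ([0, 0, 0, 0, 0, 0, 0, 2, 2, 2, 2, 0, 2] ++ ([0, 0, 0, 0, 0, 0, 0, 2, 2, 2, 2, 0, 2] ++ [0, 0, 0, 0, 0, 0, 0, 2, 2, 2, 2, 0, 2])) []
      (by decide +kernel)
    rw [ev_append, ev_append] at this
    have e : ev a b 1 z [0, 0, 0, 0, 0, 0, 0, 2, 2, 2, 2, 0, 2] = a ^ 7 * b ^ 4 * a * b := by
      simp [ev, lt, pow_succ, mul_assoc]
    rw [e] at this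
    rw [pow_succ, pow_two, mul_assoc]
    exact this
  have hxy : ((a ^ 7 * b ^ 4 * a * b) * (b * (a ^ 7 * b ^ 4 * a * b) * b⁻¹)) ^ 2 = L.t := by
    rw [← h.a4]
    have := @Lifts.eq G _ L F.f a b z h (([0, 0, 0, 0, 0, 0, 0, 2, 2, 2, 2, 0, 2] ++ ([2] ++ ([0, 0, 0, 0, 0, 0, 0, 2, 2, 2, 2, 0, 2] ++ [3]))) ++
      ([0, 0, 0, 0, 0, 0, 0, 2, 2, 2, 2, 0, 2] ++ ([2] ++ ([0, 0, 0, 0, 0, 0, 0, 2, 2, 2, 2, 0, 2] ++ [3]))))
      [0, 0, 0, 0] (by decide +kernel)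
    have e : ev a b 1 z [0, 0, 0, 0, 0, 0, 0, 2, 2, 2, 2, 0, 2] = a ^ 7 * b ^ 4 * a * b := by
      simp [ev, lt, pow_succ, mul_assoc]
    have e2 : ev a b 1 z [2] = b := by simp [ev, lt]
    have e3 : ev a b 1 z [3] = b⁻¹ := by simp [ev, lt]
    have e4 : ev a b 1 z [0, 0, 0, 0] = a ^ 4 := by simp [ev, lt, pow_succ, mul_assoc]
    rw [ev_append, ev_append, ev_append, ev_append, e, e2, e3, e4] at this
    rw [pow_two, ← this]
    group
  have h1 := finrank_fixed F (⟨a, Lifts.aN h⟩ ^ 7 * ⟨b, Lifts.bN h⟩ ^ 4 * ⟨a, Lifts.aN h⟩ * ⟨b, Lifts.bN h⟩)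
    ⟨b, Lifts.bN h⟩ (Lifts.x_comm h) hx3 (Lifts.x_cycle h) h.xf hxy
  rw [map_mul, map_mul, map_mul, map_pow, map_pow] at h1
  exact h1

theorem Lifts.hXY (h : Lifts L F.f a b z) :
    (cyc3 (ρ F ⟨a, Lifts.aN h⟩) (ρ F ⟨b, Lifts.bN h⟩) * (ρ F ⟨b, Lifts.bN h⟩ *
      cyc3 (ρ F ⟨a, Lifts.aN h⟩) (ρ F ⟨b, Lifts.bN h⟩) * ρ F ⟨b, Lifts.bN h⟩ ^ 4)) ^ 2 = -1 := by
  have hA4 := Lifts.A4 h
  have e := @Lifts.evm_eq G _ L F a b z h
    (([0, 0, 0, 0, 0, 0, 0, 2, 2, 2, 2, 0, 2] ++ ([2] ++ ([0, 0, 0, 0, 0, 0, 0, 2, 2, 2, 2, 0, 2] ++ [2, 2, 2, 2]))) ++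
      ([0, 0, 0, 0, 0, 0, 0, 2, 2, 2, 2, 0, 2] ++ ([2] ++ ([0, 0, 0, 0, 0, 0, 0, 2, 2, 2, 2, 0, 2] ++ [2, 2, 2, 2]))))
    [0, 0, 0, 0] (by decide) (by decide) (by decide +kernel)
  set A := ρ F ⟨a, Lifts.aN h⟩
  set B := ρ F ⟨b, Lifts.bN h⟩
  set Z := ρ F ⟨z, Lifts.zN h⟩
  have e0 : evm A B Z [0, 0, 0, 0, 0, 0, 0, 2, 2, 2, 2, 0, 2] = cyc3 A B := by
    simp [evm, ltm, cyc3, pow_succ, mul_assoc]
  have e2 : evm A B Z [2] = B := by simp [evm, ltm]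
  have e3 : evm A B Z [2, 2, 2, 2] = B ^ 4 := by simp [evm, ltm, pow_succ, mul_assoc]
  have e4 : evm A B Z [0, 0, 0, 0] = A ^ 4 := by simp [evm, ltm, pow_succ, mul_assoc]
  rw [evm_append, evm_append, evm_append, evm_append, e0, e2, e3, e4, hA4] at e
  rw [pow_two, ← e]
  simp only [mul_assoc]

theorem Lifts.coord (h : Lifts L F.f a b z) : ∃ Φ : (Fin 4 → ZMod 5) ≃ₗ[ZMod 5] W F, ∃ r : ZMod 5,
    Coord (ρ F ⟨a, Lifts.aN h⟩) (ρ F ⟨b, Lifts.bN h⟩) (β F) Φ r ∨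
      Coord (-ρ F ⟨a, Lifts.aN h⟩) (ρ F ⟨b, Lifts.bN h⟩) (β F) Φ r :=
  (Lifts.ops h).coord (finrank_W F) (Lifts.finrank_x h) (Lifts.hXY h) (Lifts.form h)

end Cfsg.Agent.R10.NGenAct
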