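import Mathlib

/-!
# The function `δ` on an extraspecial group of exponent 5

`E` is a group of exponent `5` in which `f` is central and all commutators lie in `⟨f⟩`; `u`
normalises `E`, inverts `f`, and acts on `E/⟨f⟩` as the scalar `3`.  The function
`δ x = log_f (u⁻¹ x u x⁻³)` is a "quasi-linear" coordinate: `x ↦ (x mod ⟨f⟩, δ x)` is injective and
`δ (x * y) = δ x + δ y + 3 * cm x y`.
-/

namespace Cfsg.Agent.R10.NGenDelta

variable {G : Type*} [Group G]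

/-! ### Logarithm in `⟨f⟩` -/

open Classical in
/-- `log_f x` in `ZMod 5` (junk value `0` outside `⟨f⟩`). -/
noncomputable def lg (f x : G) : ZMod 5 :=
  if h : ∃ n : ZMod 5, f ^ n.val = x then h.choose else 0

section Log

variable {f : G}

theorem pow_mod_five (h5 : f ^ 5 = 1) (n : ℕ) : f ^ (n % 5) = f ^ n := by
  conv_rhs => rw [← Nat.div_add_mod n 5, pow_add, pow_mul, h5, one_pow, one_mul]

theorem pow_val_natCast (h5 : f ^ 5 = 1) (n : ℕ) : f ^ ((n : ZMod 5)).val = f ^ n := by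
  rw [ZMod.val_natCast, pow_mod_five h5]

theorem pow_val_add (h5 : f ^ 5 = 1) (a b : ZMod 5) :
    f ^ (a + b).val = f ^ a.val * f ^ b.val := by
  rw [ZMod.val_add, pow_mod_five h5, pow_add]

theorem pow_val_mul (h5 : f ^ 5 = 1) (a b : ZMod 5) :
    f ^ (a * b).val = (f ^ a.val) ^ b.val := by
  rw [ZMod.val_mul, pow_mod_five h5, pow_mul]

theorem pow_val_neg (h5 : f ^ 5 = 1) (a : ZMod 5) : f ^ (-a).val = (f ^ a.val)⁻¹ := by
  rw [eq_inv_iff_mul_eq_one, ← pow_val_add h5, neg_add_cancel, ZMod.val_zero, pow_zero]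

theorem eq_zero_of_pow_val (h5 : f ^ 5 = 1) (h1 : f ≠ 1) {a : ZMod 5} (h : f ^ a.val = 1) :
    a = 0 := by
  have : Fact (Nat.Prime 5) := ⟨by norm_num⟩
  have ho : orderOf f = 5 := orderOf_eq_prime h5 h1
  have hd : orderOf f ∣ a.val := orderOf_dvd_of_pow_eq_one h
  rw [ho] at hd
  have hlt : a.val < 5 := ZMod.val_lt a
  have h0 : a.val = 0 := Nat.eq_zero_of_dvd_of_lt hd hlt
  exact (ZMod.val_eq_zero a).1 h0

theorem pow_val_inj (h5 : f ^ 5 = 1) (h1 : f ≠ 1) {a b : ZMod 5} (h : f ^ a.val = f ^ b.val) :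
    a = b := by
  have : f ^ (a - b).val = 1 := by
    rw [sub_eq_add_neg, pow_val_add h5, pow_val_neg h5, h, mul_inv_cancel]
  exact sub_eq_zero.1 (eq_zero_of_pow_val h5 h1 this)

theorem exists_of_mem (h5 : f ^ 5 = 1) {x : G} (hx : x ∈ Subgroup.zpowers f) :
    ∃ n : ZMod 5, f ^ n.val = x := by
  obtain ⟨k, rfl⟩ := Subgroup.mem_zpowers_iff.1 hx
  refine ⟨(k : ZMod 5), ?_⟩
  have h1 : (((k : ZMod 5)).val : ℤ) = k % 5 := by
    rw [ZMod.val_intCast]; rfl
  rw [← zpow_natCast, h1]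
  conv_rhs => rw [← Int.mul_ediv_add_emod k 5, zpow_add, zpow_mul]
  have h5' : f ^ (5 : ℤ) = 1 := by exact_mod_cast h5
  rw [h5', one_zpow, one_mul]

theorem lg_spec (h5 : f ^ 5 = 1) {x : G} (hx : x ∈ Subgroup.zpowers f) :
    f ^ (lg f x).val = x := by
  classical
  have h := exists_of_mem h5 hx
  rw [lg, dif_pos h]
  exact h.choose_spec

theorem lg_pow_val (h5 : f ^ 5 = 1) (h1 : f ≠ 1) (a : ZMod 5) : lg f (f ^ a.val) = a :=
  pow_val_inj h5 h1 (lg_spec h5 (pow_mem (Subgroup.mem_zpowers f) _))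

theorem lg_eq (h5 : f ^ 5 = 1) (h1 : f ≠ 1) {x : G} {a : ZMod 5} (h : f ^ a.val = x) :
    lg f x = a := by
  rw [← h, lg_pow_val h5 h1]

theorem lg_natPow (h5 : f ^ 5 = 1) (h1 : f ≠ 1) (n : ℕ) : lg f (f ^ n) = n :=
  lg_eq h5 h1 (pow_val_natCast h5 n)

theorem lg_one (h5 : f ^ 5 = 1) (h1 : f ≠ 1) : lg f 1 = 0 :=
  lg_eq h5 h1 (by simp)

theorem lg_self (h5 : f ^ 5 = 1) (h1 : f ≠ 1) : lg f f = 1 := by
  have := lg_natPow h5 h1 1
  simpa using this

theorem lg_mul (h5 : f ^ 5 = 1) (h1 : f ≠ 1) {x y : G} (hx : x ∈ Subgroup.zpowers f)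
    (hy : y ∈ Subgroup.zpowers f) : lg f (x * y) = lg f x + lg f y :=
  lg_eq h5 h1 (by rw [pow_val_add h5, lg_spec h5 hx, lg_spec h5 hy])

theorem lg_inv (h5 : f ^ 5 = 1) (h1 : f ≠ 1) {x : G} (hx : x ∈ Subgroup.zpowers f) :
    lg f x⁻¹ = - lg f x :=
  lg_eq h5 h1 (by rw [pow_val_neg h5, lg_spec h5 hx])

theorem lg_pow (h5 : f ^ 5 = 1) (h1 : f ≠ 1) {x : G} (hx : x ∈ Subgroup.zpowers f) (n : ℕ) :
    lg f (x ^ n) = n * lg f x := by
  induction n with
  | zero => simp [lg_one h5 h1]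
  | succ n ih =>
    rw [pow_succ, lg_mul h5 h1 (pow_mem hx n) hx, ih]
    push_cast
    ring

theorem lg_inj (h5 : f ^ 5 = 1) {x y : G} (hx : x ∈ Subgroup.zpowers f)
    (hy : y ∈ Subgroup.zpowers f) (h : lg f x = lg f y) : x = y := by
  rw [← lg_spec h5 hx, ← lg_spec h5 hy, h]

theorem lg_eq_zero_iff (h5 : f ^ 5 = 1) (h1 : f ≠ 1) {x : G} (hx : x ∈ Subgroup.zpowers f) :
    lg f x = 0 ↔ x = 1 := by
  constructor
  · intro h
    rw [← lg_spec h5 hx, h]; simp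
  · rintro rfl
    exact lg_one h5 h1

end Log

/-! ### The hypotheses -/

/-- `E` is of exponent `5`, `f ∈ E` is central in `E`, commutators of `E` are in `⟨f⟩`; `u`
normalises `E`, inverts `f` and is the scalar `3` modulo `⟨f⟩`. -/
structure Hyp (f u : G) (E : Subgroup G) : Prop where
  f5 : f ^ 5 = 1
  f1 : f ≠ 1
  mem : f ∈ E
  cent : ∀ e ∈ E, e * f = f * e
  comm : ∀ x ∈ E, ∀ y ∈ E, x * y * x⁻¹ * y⁻¹ ∈ Subgroup.zpowers f
  pow : ∀ x ∈ E, x ^ 5 = 1
  uf : u⁻¹ * f * u = f⁻¹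
  ux : ∀ x ∈ E, u⁻¹ * x * u * (x ^ 3)⁻¹ ∈ Subgroup.zpowers f
  uE : ∀ x ∈ E, u⁻¹ * x * u ∈ E

/-- The commutator, written additively. -/
noncomputable def cm (f x y : G) : ZMod 5 := lg f (x * y * x⁻¹ * y⁻¹)

/-- The coordinate `δ x = log_f (u⁻¹ x u x⁻³)`. -/
noncomputable def δ (f u x : G) : ZMod 5 := lg f (u⁻¹ * x * u * (x ^ 3)⁻¹)

namespace Hyp

variable {f u : G} {E : Subgroup G} (H : Hyp f u E)

include H

theorem zle : Subgroup.zpowers f ≤ E := (Subgroup.zpowers_le).2 H.mem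

theorem zmem_comm {e z : G} (he : e ∈ E) (hz : z ∈ Subgroup.zpowers f) : e * z = z * e := by
  obtain ⟨k, rfl⟩ := Subgroup.mem_zpowers_iff.1 hz
  exact (Commute.zpow_right (H.cent e he) k)

theorem fpow_comm {e : G} (he : e ∈ E) (n : ℕ) : e * f ^ n = f ^ n * e :=
  H.zmem_comm he (pow_mem (Subgroup.mem_zpowers f) n)

theorem cm_spec {x y : G} (hx : x ∈ E) (hy : y ∈ E) :
    f ^ (cm f x y).val = x * y * x⁻¹ * y⁻¹ := lg_spec H.f5 (H.comm x hx y hy)

theorem mul_eq {x y : G} (hx : x ∈ E) (hy : y ∈ E) :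
    x * y = f ^ (cm f x y).val * (y * x) := by
  rw [H.cm_spec hx hy]; group

theorem mul_eq' {x y : G} (hx : x ∈ E) (hy : y ∈ E) :
    x * y = y * x * f ^ (cm f x y).val := by
  rw [H.fpow_comm (mul_mem hy hx)]
  exact H.mul_eq hx hy

theorem cm_eq_of {x y : G} {a : ZMod 5} (h : x * y = f ^ a.val * (y * x)) : cm f x y = a := by
  refine lg_eq H.f5 H.f1 ?_
  rw [h]; group

theorem cm_mul_left {x y z : G} (hx : x ∈ E) (hy : y ∈ E) (hz : z ∈ E) :
    cm f (x * y) z = cm f x z + cm f y z := by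
  refine H.cm_eq_of ?_
  rw [pow_val_add H.f5]
  calc x * y * z = x * (y * z) := by group
    _ = x * (f ^ (cm f y z).val * (z * y)) := by rw [H.mul_eq hy hz]
    _ = (x * f ^ (cm f y z).val) * z * y := by group
    _ = (f ^ (cm f y z).val * x) * z * y := by rw [H.fpow_comm hx]
    _ = f ^ (cm f y z).val * (x * z) * y := by group
    _ = f ^ (cm f y z).val * (f ^ (cm f x z).val * (z * x)) * y := by rw [H.mul_eq hx hz]
    _ = (f ^ (cm f y z).val * f ^ (cm f x z).val) * (z * (x * y)) := by group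
    _ = f ^ (cm f x z).val * f ^ (cm f y z).val * (z * (x * y)) := by
      rw [← pow_add, ← pow_add, add_comm]

theorem cm_self {x : G} : cm f x x = 0 :=
  H.cm_eq_of (by simp)

theorem cm_symm {x y : G} (hx : x ∈ E) (hy : y ∈ E) : cm f y x = - cm f x y := by
  refine H.cm_eq_of ?_
  rw [pow_val_neg H.f5, H.mul_eq hx hy]; group

theorem cm_mul_right {x y z : G} (hx : x ∈ E) (hy : y ∈ E) (hz : z ∈ E) :
    cm f x (y * z) = cm f x y + cm f x z := by
  rw [H.cm_symm (mul_mem hy hz) hx, H.cm_mul_left hy hz hx, H.cm_symm hx hy, H.cm_symm hx hz]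
  ring

theorem cm_one_left (x : G) : cm f 1 x = 0 := H.cm_eq_of (by simp)

theorem cm_one_right (x : G) : cm f x 1 = 0 := H.cm_eq_of (by simp)

theorem cm_inv_left {x y : G} (hx : x ∈ E) (hy : y ∈ E) : cm f x⁻¹ y = - cm f x y := by
  have := H.cm_mul_left (inv_mem hx) hx hy
  rw [inv_mul_cancel, H.cm_one_left] at this
  exact eq_neg_of_add_eq_zero_left this.symm

theorem cm_inv_right {x y : G} (hx : x ∈ E) (hy : y ∈ E) : cm f x y⁻¹ = - cm f x y := by
  have := H.cm_mul_right hx (inv_mem hy) hy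
  rw [inv_mul_cancel, H.cm_one_right] at this
  exact eq_neg_of_add_eq_zero_left this.symm

theorem cm_pow_left {x y : G} (hx : x ∈ E) (hy : y ∈ E) (n : ℕ) :
    cm f (x ^ n) y = n * cm f x y := by
  induction n with
  | zero => simp [H.cm_one_left]
  | succ n ih =>
    rw [pow_succ, H.cm_mul_left (pow_mem hx n) hx hy, ih]
    push_cast
    ring

theorem cm_pow_right {x y : G} (hx : x ∈ E) (hy : y ∈ E) (n : ℕ) :
    cm f x (y ^ n) = n * cm f x y := by
  rw [H.cm_symm (pow_mem hy n) hx, H.cm_pow_left hy hx, H.cm_symm hx hy]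
  ring

theorem cm_zmem_left {z x : G} (hz : z ∈ Subgroup.zpowers f) (hx : x ∈ E) : cm f z x = 0 :=
  H.cm_eq_of (by rw [H.zmem_comm hx hz]; simp)

theorem cm_zmem_right {z x : G} (hz : z ∈ Subgroup.zpowers f) (hx : x ∈ E) : cm f x z = 0 :=
  H.cm_eq_of (by rw [H.zmem_comm hx hz]; simp)

theorem cm_eq_zero_iff {x y : G} (hx : x ∈ E) (hy : y ∈ E) : cm f x y = 0 ↔ x * y = y * x := by
  constructor
  · intro h
    rw [H.mul_eq hx hy, h]; simp
  · intro h
    exact H.cm_eq_of (by rw [h]; simp)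

/-- Cubes of products. -/
theorem mul_pow_three {x y : G} (hx : x ∈ E) (hy : y ∈ E) :
    x ^ 3 * y ^ 3 = (x * y) ^ 3 * f ^ (3 * cm f x y).val := by
  have hxy := H.mul_eq' hx hy
  set c : G := f ^ (cm f x y).val with hc
  have cx : x * c = c * x := H.fpow_comm hx _
  have cy : y * c = c * y := H.fpow_comm hy _
  have h3 : f ^ (3 * cm f x y).val = c ^ 3 := by
    rw [show (3 * cm f x y) = cm f x y * ((3 : ℕ) : ZMod 5) by push_cast; ring,
      pow_val_mul H.f5, ← hc]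
    rfl
  rw [h3]
  have Ccx : Commute x c := cx
  have Ccy : Commute y c := cy
  -- `x * y = y * x * c`
  have e1 : x * x * y = y * (x * x) * (c * c) := by
    calc x * x * y = x * (x * y) := by group
      _ = x * (y * x * c) := by rw [hxy]
      _ = (x * y) * (x * c) := by group
      _ = (y * x * c) * (x * c) := by rw [hxy]
      _ = y * x * (c * x) * c := by group
      _ = y * x * (x * c) * c := by rw [cx]
      _ = y * (x * x) * (c * c) := by group
  calc x ^ 3 * y ^ 3 = x * (x * x * y) * y * y := by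
        simp only [pow_succ, pow_zero, one_mul, mul_assoc]
    _ = x * (y * (x * x) * (c * c)) * y * y := by rw [e1]
    _ = (x * y) * x * (x * ((c * c) * y)) * y := by group
    _ = (x * y) * x * (x * (y * (c * c))) * y := by
        rw [show (c * c) * y = y * (c * c) from ((Ccy.mul_right Ccy).eq).symm]
    _ = (x * y) * x * (x * y) * ((c * c) * y) := by group
    _ = (x * y) * x * (x * y) * (y * (c * c)) := by
        rw [show (c * c) * y = y * (c * c) from ((Ccy.mul_right Ccy).eq).symm]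
    _ = (x * y) * x * (y * x * c) * (y * (c * c)) := by rw [hxy]
    _ = (x * y) * (x * y) * x * (c * y) * (c * c) := by group
    _ = (x * y) * (x * y) * x * (y * c) * (c * c) := by rw [cy]
    _ = (x * y) ^ 3 * c ^ 3 := by
        simp only [pow_succ, pow_zero, one_mul, mul_assoc]

theorem δ_spec {x : G} (hx : x ∈ E) : f ^ (δ f u x).val = u⁻¹ * x * u * (x ^ 3)⁻¹ :=
  lg_spec H.f5 (H.ux x hx)

theorem conj_eq {x : G} (hx : x ∈ E) : u⁻¹ * x * u = f ^ (δ f u x).val * x ^ 3 := by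
  rw [H.δ_spec hx]; group

theorem δ_eq_of {x : G} {a : ZMod 5} (h : u⁻¹ * x * u = f ^ a.val * x ^ 3) : δ f u x = a := by
  refine lg_eq H.f5 H.f1 ?_
  rw [h]; group

theorem δ_mul {x y : G} (hx : x ∈ E) (hy : y ∈ E) :
    δ f u (x * y) = δ f u x + δ f u y + 3 * cm f x y := by
  refine H.δ_eq_of ?_
  rw [pow_val_add H.f5, pow_val_add H.f5]
  calc u⁻¹ * (x * y) * u = (u⁻¹ * x * u) * (u⁻¹ * y * u) := by group
    _ = (f ^ (δ f u x).val * x ^ 3) * (f ^ (δ f u y).val * y ^ 3) := by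
        rw [H.conj_eq hx, H.conj_eq hy]
    _ = f ^ (δ f u x).val * (x ^ 3 * f ^ (δ f u y).val) * y ^ 3 := by group
    _ = f ^ (δ f u x).val * (f ^ (δ f u y).val * x ^ 3) * y ^ 3 := by
        rw [H.fpow_comm (pow_mem hx 3)]
    _ = f ^ (δ f u x).val * f ^ (δ f u y).val * (x ^ 3 * y ^ 3) := by group
    _ = f ^ (δ f u x).val * f ^ (δ f u y).val * ((x * y) ^ 3 * f ^ (3 * cm f x y).val) := by
        rw [H.mul_pow_three hx hy]
    _ = f ^ (δ f u x).val * f ^ (δ f u y).val * (f ^ (3 * cm f x y).val * (x * y) ^ 3) := by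
        rw [H.fpow_comm (pow_mem (mul_mem hx hy) 3)]
    _ = f ^ (δ f u x).val * f ^ (δ f u y).val * f ^ (3 * cm f x y).val * (x * y) ^ 3 := by
        group

theorem δ_one : δ f u 1 = 0 := H.δ_eq_of (by simp)

theorem δ_inv {x : G} (hx : x ∈ E) : δ f u x⁻¹ = - δ f u x := by
  have h := H.δ_mul (inv_mem hx) hx
  rw [inv_mul_cancel, H.δ_one, H.cm_inv_left hx hx, H.cm_self] at h
  simp only [neg_zero, mul_zero, add_zero] at h
  exact eq_neg_of_add_eq_zero_left h.symm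

theorem δ_pow {x : G} (hx : x ∈ E) (n : ℕ) : δ f u (x ^ n) = n * δ f u x := by
  induction n with
  | zero => simp [H.δ_one]
  | succ n ih =>
    rw [pow_succ, H.δ_mul (pow_mem hx n) hx, ih, H.cm_pow_left hx hx, H.cm_self]
    push_cast
    ring

theorem δ_f : δ f u f = 1 := by
  refine H.δ_eq_of ?_
  have h1 : (1 : ZMod 5).val = 1 := rfl
  rw [H.uf, h1, pow_one, ← pow_succ', inv_eq_iff_mul_eq_one, ← pow_succ']
  exact H.f5

theorem δ_fpow (n : ℕ) : δ f u (f ^ n) = n := by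
  rw [H.δ_pow H.mem, H.δ_f, mul_one]

theorem δ_zmem {z : G} (hz : z ∈ Subgroup.zpowers f) : δ f u z = lg f z := by
  obtain ⟨n, rfl⟩ := exists_of_mem H.f5 hz
  rw [H.δ_fpow, lg_natPow H.f5 H.f1]

theorem δ_mul_fpow {x : G} (hx : x ∈ E) (n : ℕ) : δ f u (x * f ^ n) = δ f u x + n := by
  rw [H.δ_mul hx (pow_mem H.mem n), H.δ_fpow,
    H.cm_zmem_right (pow_mem (Subgroup.mem_zpowers f) n) hx]
  ring

theorem δ_mul_zmem {x z : G} (hx : x ∈ E) (hz : z ∈ Subgroup.zpowers f) :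
    δ f u (x * z) = δ f u x + lg f z := by
  rw [H.δ_mul hx (H.zle hz), H.δ_zmem hz, H.cm_zmem_right hz hx]
  ring

theorem δ_zmem_mul {x z : G} (hx : x ∈ E) (hz : z ∈ Subgroup.zpowers f) :
    δ f u (z * x) = lg f z + δ f u x := by
  rw [H.δ_mul (H.zle hz) hx, H.δ_zmem hz, H.cm_zmem_left hz hx]
  ring

/-- Elements commuting with `u` scale `δ`. -/
theorem δ_conj {g x : G} {k : ℕ} (hg : g * u = u * g) (hgf : g * f * g⁻¹ = f ^ k)
    (hx : x ∈ E) : δ f u (g * x * g⁻¹) = k * δ f u x := by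
  refine H.δ_eq_of ?_
  have hgu : u⁻¹ * g = g * u⁻¹ := by
    rw [inv_mul_eq_iff_eq_mul, ← mul_assoc, ← hg]; group
  have hgu' : g⁻¹ * u = u * g⁻¹ := by
    rw [inv_mul_eq_iff_eq_mul, ← mul_assoc, hg]; group
  calc u⁻¹ * (g * x * g⁻¹) * u = (u⁻¹ * g) * x * (g⁻¹ * u) := by group
    _ = g * (u⁻¹ * x * u) * g⁻¹ := by rw [hgu, hgu']; group
    _ = g * (f ^ (δ f u x).val * x ^ 3) * g⁻¹ := by rw [H.conj_eq hx]
    _ = (g * f ^ (δ f u x).val * g⁻¹) * (g * x ^ 3 * g⁻¹) := by group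
    _ = f ^ ((k : ZMod 5) * δ f u x).val * (g * x * g⁻¹) ^ 3 := by
        congr 1
        · rw [← conj_pow, hgf, pow_val_mul H.f5, pow_val_natCast H.f5]
        · rw [conj_pow]

/-- Elements commuting with `u` scale `cm`. -/
theorem cm_conj {g x y : G} {k : ℕ} (hgf : g * f * g⁻¹ = f ^ k)
    (hx : x ∈ E) (hy : y ∈ E) : cm f (g * x * g⁻¹) (g * y * g⁻¹) = k * cm f x y := by
  refine H.cm_eq_of ?_
  calc g * x * g⁻¹ * (g * y * g⁻¹) = g * (x * y) * g⁻¹ := by group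
    _ = g * (f ^ (cm f x y).val * (y * x)) * g⁻¹ := by rw [H.mul_eq hx hy]
    _ = (g * f ^ (cm f x y).val * g⁻¹) * (g * y * g⁻¹ * (g * x * g⁻¹)) := by group
    _ = f ^ ((k : ZMod 5) * cm f x y).val * (g * y * g⁻¹ * (g * x * g⁻¹)) := by
        congr 1
        rw [← conj_pow, hgf, pow_val_mul H.f5, pow_val_natCast H.f5]

/-- `x` is determined by its class modulo `⟨f⟩` and by `δ x`. -/
theorem eq_of_δ {x y : G} (_hx : x ∈ E) (hy : y ∈ E) (h : x * y⁻¹ ∈ Subgroup.zpowers f)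
    (hd : δ f u x = δ f u y) : x = y := by
  have h1 : x = (x * y⁻¹) * y := by group
  have h2 : δ f u x = lg f (x * y⁻¹) + δ f u y := by
    conv_lhs => rw [h1]
    exact H.δ_zmem_mul hy h
  rw [hd] at h2
  have h3 : lg f (x * y⁻¹) = 0 := by
    have := h2.symm
    rwa [add_eq_right] at this
  exact mul_inv_eq_one.1 ((lg_eq_zero_iff H.f5 H.f1 h).1 h3)

theorem exists_δ_eq {x : G} (hx : x ∈ E) (a : ZMod 5) : ∃ j : ℕ, δ f u (x * f ^ j) = a := by
  refine ⟨(a - δ f u x).val, ?_⟩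
  rw [H.δ_mul_fpow hx, ZMod.natCast_val, ZMod.cast_id', id_eq]
  ring

theorem exists_δ_zero {x : G} (hx : x ∈ E) : ∃ j : ℕ, δ f u (x * f ^ j) = 0 :=
  H.exists_δ_eq hx 0

theorem δ_eq_zero_iff {x : G} (hx : x ∈ E) : δ f u x = 0 ↔ u⁻¹ * x * u = x ^ 3 := by
  constructor
  · intro h
    rw [H.conj_eq hx, h]; simp
  · intro h
    exact H.δ_eq_of (by rw [h]; simp)

/-- In every coset of `⟨f⟩` there is exactly one element with `δ = 0`. -/
theorem existsUnique_δ_zero {x : G} (hx : x ∈ E) :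
    ∃! y : G, y ∈ E ∧ y * x⁻¹ ∈ Subgroup.zpowers f ∧ δ f u y = 0 := by
  obtain ⟨j, hj⟩ := H.exists_δ_zero hx
  have hm : x * f ^ j * x⁻¹ ∈ Subgroup.zpowers f := by
    rw [H.fpow_comm hx, mul_inv_cancel_right]
    exact pow_mem (Subgroup.mem_zpowers f) j
  refine ⟨x * f ^ j, ⟨mul_mem hx (pow_mem H.mem j), hm, hj⟩, ?_⟩
  rintro y ⟨hy, hyx, hy0⟩
  refine H.eq_of_δ hy (mul_mem hx (pow_mem H.mem j)) ?_ (hy0.trans hj.symm)
  have : y * (x * f ^ j)⁻¹ = (y * x⁻¹) * (x * f ^ j * x⁻¹)⁻¹ := by group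
  rw [this]
  exact mul_mem hyx (inv_mem hm)

/-- The Heisenberg coordinates: products. -/
theorem δ_mul_of_zero {x y : G} (hx : x ∈ E) (hy : y ∈ E) (hx0 : δ f u x = 0)
    (hy0 : δ f u y = 0) : δ f u (x * y) = 3 * cm f x y := by
  rw [H.δ_mul hx hy, hx0, hy0]; ring

/-- `u` itself acts as the scalar `3` and inverts `f`. -/
theorem δ_conj_u {x : G} (hx : x ∈ E) : δ f u (u⁻¹ * x * u) = - δ f u x := by
  rw [H.conj_eq hx, H.δ_zmem_mul (pow_mem hx 3) (pow_mem (Subgroup.mem_zpowers f) _),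
    lg_pow_val H.f5 H.f1, H.δ_pow hx]
  push_cast
  have : (4 : ZMod 5) = -1 := by decide
  linear_combination (δ f u x) * this

end Hyp

end Cfsg.Agent.R10.NGenDelta
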