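import Cfsg.Agent.R10.NGenMod4

/-!
# The natural module, fifth part: the matrix of `z`
-/

set_option autoImplicit false

namespace Cfsg.Agent.R10.NGenMod

open Module

theorem all4 {P : (Fin 4 → ZMod 5) → Prop} (h : ∀ a b c d : ZMod 5, P ![a, b, c, d]) (x : Fin 4 → ZMod 5) : P x := by
  have hx : x = ![x 0, x 1, x 2, x 3] := by
    funext i; fin_cases i <;> rfl
  rw [hx]
  exact h _ _ _ _

def M2 (x : Fin 4 → ZMod 5) : Fin 4 → ZMod 5 :=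
  ![x 0 + 4 * x 3, 2 * x 0 + 4 * x 2 + 4 * x 3, 3 * x 0 + 3 * x 1 + 4 * x 3, 4 * x 0 + 4 * x 3]

def M3 (x : Fin 4 → ZMod 5) : Fin 4 → ZMod 5 :=
  ![3 * x 0 + x 1, 3 * x 0 + 2 * x 1, 3 * x 0 + 3 * x 1 + 4 * x 3, 3 * x 0 + 4 * x 1 + 3 * x 2]

def M4 (x : Fin 4 → ZMod 5) : Fin 4 → ZMod 5 :=
  ![2 * x 1 + x 2 + 2 * x 3, x 0 + 2 * x 2 + 2 * x 3, 3 * x 2 + 2 * x 3, 4 * x 2 + 2 * x 3]

def MZ (x : Fin 4 → ZMod 5) : Fin 4 → ZMod 5 :=
  ![4 * x 0 + 3 * x 2 + 4 * x 3, x 1 + 4 * x 2 + x 3, 3 * x 0 + 3 * x 1 + 2 * x 2 + 4 * x 3,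
    3 * x 0 + 4 * x 1 + 3 * x 2 + 3 * x 3]

theorem M2_eq : ∀ x, MB (MA (MB (MB (MB (MB x))))) = M2 x := all4 (by decide +kernel)

theorem M3_eq : ∀ x, MB (MB (MA (MB (MB (MB x))))) = M3 x := all4 (by decide +kernel)

theorem M4_eq : ∀ x, MB (MB (MB (MA (MB (MB x))))) = M4 x := all4 (by decide +kernel)

theorem ker_Q : ∀ x, MA (M2 (M3 x)) = -x → ∃ c : ZMod 5, x = c • ![0, 1, 3, 4] := all4 (by decide +kernel)

theorem MA_smul (c : ZMod 5) (x : Fin 4 → ZMod 5) : MA (c • x) = c • MA x := by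
  funext i; fin_cases i <;> simp [MA] <;> ring

theorem M2_smul (c : ZMod 5) (x : Fin 4 → ZMod 5) : M2 (c • x) = c • M2 x := by
  funext i; fin_cases i <;> simp [M2] <;> ring

theorem M3_smul (c : ZMod 5) (x : Fin 4 → ZMod 5) : M3 (c • x) = c • M3 x := by
  funext i; fin_cases i <;> simp [M3] <;> ring

theorem M4_smul (c : ZMod 5) (x : Fin 4 → ZMod 5) : M4 (c • x) = c • M4 x := by
  funext i; fin_cases i <;> simp [M4] <;> ring

theorem MZ_smul (c : ZMod 5) (x : Fin 4 → ZMod 5) : MZ (c • x) = c • MZ x := by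
  funext i; fin_cases i <;> simp [MZ] <;> ring

theorem decomp : ∀ x : Fin 4 → ZMod 5, x = (x 1 + 2 * x 3) • ![0, 1, 0, 0] + (4 * x 0 + 4 * x 3) • MA ![0, 1, 0, 0] +
    (2 * x 2 + x 3) • M2 ![0, 1, 0, 0] + (4 * x 3) • M3 ![0, 1, 0, 0] := all4 (by decide +kernel)

theorem MZ_decomp : ∀ x : Fin 4 → ZMod 5, MZ x = (x 1 + 2 * x 3) • ![0, 1, 3, 4] - (4 * x 0 + 4 * x 3) • MA ![0, 1, 3, 4] -
    (2 * x 2 + x 3) • M2 ![0, 1, 3, 4] - (4 * x 3) • M3 ![0, 1, 3, 4] := all4 (by decide +kernel)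

/-- uniqueness of the matrix of `z` -/
theorem eq_MZ (Z : (Fin 4 → ZMod 5) →ₗ[ZMod 5] (Fin 4 → ZMod 5)) (h1 : ∀ x, MA (Z x) = -Z (MA x))
    (h2 : ∀ x, M2 (Z x) = -Z (M2 x)) (h3 : ∀ x, M3 (Z x) = -Z (M3 x))
    (h4 : ∀ x, M4 (Z (M4 (Z (M4 (Z (MA (MA x))))))) = x) (x : Fin 4 → ZMod 5) : Z x = MZ x := by
  have k0 : MA (M2 (M3 (Z ![0, 1, 0, 0]))) = -Z ![0, 1, 0, 0] := by
    have m2 : ∀ x, M2 (-x) = -M2 x := fun x => by
      have := M2_smul (-1) x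
      rwa [neg_smul, one_smul, neg_smul, one_smul] at this
    have m1 : ∀ x, MA (-x) = -MA x := fun x => by
      have := MA_smul (-1) x
      rwa [neg_smul, one_smul, neg_smul, one_smul] at this
    rw [h3, m2, h2, m1, m1, h1, neg_neg]
    congr 2
  obtain ⟨c, hc⟩ := ker_Q _ k0
  have key : ∀ x, Z x = c • MZ x := by
    intro x
    rw [decomp x, map_add, map_add, map_add, map_smul, map_smul, map_smul, map_smul]
    rw [neg_eq_iff_eq_neg.1 (h1 _).symm, neg_eq_iff_eq_neg.1 (h2 _).symm, neg_eq_iff_eq_neg.1 (h3 _).symm, hc, MA_smul, M2_smul,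
      M3_smul, ← decomp x, MZ_decomp x]
    module
  have hc3 : c ^ 3 = 1 := by
    have h5 := congrFun (h4 ![0, 1, 0, 0]) 1
    simp only [key, M4_smul, MZ_smul] at h5
    have h6 : M4 (MZ (M4 (MZ (M4 (MZ (MA (MA ![0, 1, 0, 0]))))))) = ![0, 1, 0, 0] := by decide
    rw [h6] at h5
    simp only [Pi.smul_apply, smul_eq_mul, Matrix.cons_val_one, Matrix.cons_val_zero, mul_one] at h5
    rw [← h5]; ring
  have h1 : ∀ c : ZMod 5, c ^ 3 = 1 → c = 1 := by decide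
  rw [key, h1 c hc3, one_smul]

variable {W : Type*} [AddCommGroup W] [Module (ZMod 5) W]

/-- the operator of `z` in coordinates -/
theorem Coord.hZ {A B Z : End (ZMod 5) W} {β : W →ₗ[ZMod 5] W →ₗ[ZMod 5] ZMod 5}
    {Φ : (Fin 4 → ZMod 5) ≃ₗ[ZMod 5] W} {r : ZMod 5} (h : Coord A B β Φ r)
    (h1 : A * Z = -(Z * A)) (h2 : (B * A * B ^ 4) * Z = -(Z * (B * A * B ^ 4)))
    (h3 : (B ^ 2 * A * B ^ 3) * Z = -(Z * (B ^ 2 * A * B ^ 3)))
    (h4 : ((B ^ 3 * A * B ^ 2) * Z) ^ 3 * A ^ 2 = 1) (x : Fin 4 → ZMod 5) : Z (Φ x) = Φ (MZ x) := by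
  have e2 : ∀ x, (B * A * B ^ 4) (Φ x) = Φ (M2 x) := by
    intro x
    simp only [Module.End.mul_apply, pow_succ, pow_zero, one_mul, h.hA, h.hB, M2_eq]
  have e3 : ∀ x, (B ^ 2 * A * B ^ 3) (Φ x) = Φ (M3 x) := by
    intro x
    simp only [Module.End.mul_apply, pow_succ, pow_zero, one_mul, h.hA, h.hB, M3_eq]
  have e4 : ∀ x, (B ^ 3 * A * B ^ 2) (Φ x) = Φ (M4 x) := by
    intro x
    simp only [Module.End.mul_apply, pow_succ, pow_zero, one_mul, h.hA, h.hB, M4_eq]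
  let Z' : (Fin 4 → ZMod 5) →ₗ[ZMod 5] (Fin 4 → ZMod 5) := Φ.symm.toLinearMap ∘ₗ Z ∘ₗ Φ.toLinearMap
  have hZ' : ∀ x, Z (Φ x) = Φ (Z' x) := by
    intro x
    show Z (Φ x) = Φ (Φ.symm (Z (Φ x)))
    rw [LinearEquiv.apply_symm_apply]
  rw [hZ', eq_MZ Z' ?_ ?_ ?_ ?_ x]
  · intro x
    apply Φ.injective
    rw [← h.hA, ← hZ', map_neg, ← hZ', ← h.hA]
    exact congrArg (fun T : End (ZMod 5) W => T (Φ x)) h1
  · intro x
    apply Φ.injective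
    rw [← e2, ← hZ', map_neg, ← hZ', ← e2]
    exact congrArg (fun T : End (ZMod 5) W => T (Φ x)) h2
  · intro x
    apply Φ.injective
    rw [← e3, ← hZ', map_neg, ← hZ', ← e3]
    exact congrArg (fun T : End (ZMod 5) W => T (Φ x)) h3
  · intro x
    apply Φ.injective
    rw [← e4, ← hZ', ← e4, ← hZ', ← e4, ← hZ', ← h.hA, ← h.hA]
    have := congrArg (fun T : End (ZMod 5) W => T (Φ x)) h4
    simp only [pow_succ, pow_zero, one_mul, Module.End.mul_apply, Module.End.one_apply] at this ⊢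
    exact this

end Cfsg.Agent.R10.NGenMod
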