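import Cfsg.Agent.R10.NGenW
import Cfsg.Agent.R10.NGenDelta
import Cfsg.Agent.R10.NGenMod5

/-!
# Heisenberg coordinates of `E` and the action of `a`, `b`, `z`
-/

set_option autoImplicit false

namespace Cfsg.Agent.R10.NGenCo

open Subgroup Cfsg.Agent.SporRec.LyType Cfsg.Agent.SporRec.LyFive Cfsg.Agent.R10.NGenW Cfsg.Agent.R10.NGenMod
  Cfsg.Agent.R10.NGenDelta

/-- coordinate vectors -/
abbrev V := Fin 4 → ZMod 5

variable {G : Type*} [Group G] {L : LyType G} {F : LyFive L}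

/-- `g` normalises `⟨f⟩`, acts on `E / ⟨f⟩` by `M` (inverse `M'`) and on `⟨f⟩` by `k` (inverse `k'`), and commutes
with `u` -/
structure Opr (F : LyFive L) (Φ : V ≃ₗ[ZMod 5] W F) (u g : G) (M M' : V → V) (k k' : ℕ) : Prop where
  mem : g ∈ N F
  act : ∀ x, ρ F ⟨g, mem⟩ (Φ x) = Φ (M x)
  linv : ∀ x, M' (M x) = x
  gf : g * F.f * g⁻¹ = F.f ^ k
  kk : (k' : ZMod 5) * k = 1
  gu : g * u = u * g

/-- `x` is the element of `E` with coordinates `v`, `s` -/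
def Co (F : LyFive L) (Φ : V ≃ₗ[ZMod 5] W F) (u : G) (r : ZMod 5) (x : G) (v : V) (s : ZMod 5) : Prop :=
  ∃ hx : x ∈ F.E, q F x hx = Φ v ∧ δ F.f u x = r * s

variable {Φ : V ≃ₗ[ZMod 5] W F} {u : G} {r : ZMod 5}

theorem Co.mem {x : G} {v : V} {s : ZMod 5} (h : Co F Φ u r x v s) : x ∈ F.E := h.1

theorem cm_eq (H : Hyp F.f u F.E) {x y : G} (hx : x ∈ F.E) (hy : y ∈ F.E) :
    cm F.f x y = β F (q F x hx) (q F y hy) := by
  refine lg_eq H.f5 H.f1 ?_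
  rw [β_spec F hx hy]

section basic

variable (H : Hyp F.f u F.E)

include H

theorem Co.one : Co F Φ u r 1 0 0 := by
  refine ⟨one_mem _, ?_, ?_⟩
  · rw [q_one, map_zero]
  · rw [H.δ_one, mul_zero]

theorem Co.mul (hβ : ∀ x y, β F (Φ x) (Φ y) = r * J x y) {x y : G} {v w : V} {s s' : ZMod 5}
    (hx : Co F Φ u r x v s) (hy : Co F Φ u r y w s') :
    Co F Φ u r (x * y) (v + w) (s + s' + 3 * J v w) := by
  obtain ⟨hx, qx, dx⟩ := hx
  obtain ⟨hy, qy, dy⟩ := hy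
  refine ⟨mul_mem hx hy, ?_, ?_⟩
  · rw [q_mul F hx hy, qx, qy, map_add]
  · rw [H.δ_mul hx hy, cm_eq H hx hy, qx, qy, hβ, dx, dy]
    ring

theorem Co.inv {x : G} {v : V} {s : ZMod 5} (hx : Co F Φ u r x v s) : Co F Φ u r x⁻¹ (-v) (-s) := by
  obtain ⟨hx, qx, dx⟩ := hx
  refine ⟨inv_mem hx, ?_, ?_⟩
  · rw [q_inv F hx, qx, map_neg]
  · rw [H.δ_inv hx, dx]
    ring

theorem Co.conj {g : G} {M M' : V → V} {k k' : ℕ} (hg : Opr F Φ u g M M' k k') {x : G} {v : V} {s : ZMod 5}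
    (hx : Co F Φ u r x v s) : Co F Φ u r (g * x * g⁻¹) (M v) (k * s) := by
  obtain ⟨hx, qx, dx⟩ := hx
  refine ⟨conj_mem_E F hg.mem hx, ?_, ?_⟩
  · have := ρ_q F ⟨g, hg.mem⟩ hx
    rw [← hg.act, ← qx]
    exact this.symm
  · rw [H.δ_conj hg.gu hg.gf hx, dx]
    ring

theorem Co.conj' {g : G} {M M' : V → V} {k k' : ℕ} (hg : Opr F Φ u g M M' k k') {x : G} {v : V} {s : ZMod 5}
    (hx : Co F Φ u r x v s) : Co F Φ u r (g⁻¹ * x * g) (M' v) (k' * s) := by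
  obtain ⟨hx, qx, dx⟩ := hx
  have hmem : g⁻¹ * x * g ∈ F.E := by
    have := conj_mem_E F (inv_mem hg.mem) hx
    rwa [inv_inv] at this
  have e : g * (g⁻¹ * x * g) * g⁻¹ = x := by group
  refine ⟨hmem, ?_, ?_⟩
  · obtain ⟨w, hw⟩ := Φ.surjective (q F (g⁻¹ * x * g) hmem)
    have h1 := ρ_q F ⟨g, hg.mem⟩ hmem
    rw [← hw, hg.act] at h1
    have h2 : q F (g * (g⁻¹ * x * g) * g⁻¹) (conj_mem_E F hg.mem hmem) = q F x hx := by
      congr 1
    rw [h2, qx] at h1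
    rw [← hw, ← hg.linv w, Φ.injective h1]
  · have h1 := H.δ_conj hg.gu hg.gf hmem
    rw [e, dx] at h1
    calc δ F.f u (g⁻¹ * x * g) = (k' * k) * δ F.f u (g⁻¹ * x * g) := by rw [hg.kk, one_mul]
      _ = k' * (r * s) := by rw [h1]; ring
      _ = r * (k' * s) := by ring

theorem Co.ext {x y : G} {v : V} {s : ZMod 5} (hx : Co F Φ u r x v s) (hy : Co F Φ u r y v s) : x = y := by
  obtain ⟨hx, qx, dx⟩ := hx
  obtain ⟨hy, qy, dy⟩ := hy
  refine H.eq_of_δ hx hy ?_ (dx.trans dy.symm)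
  have h1 : q F x⁻¹ (inv_mem hx) = q F y⁻¹ (inv_mem hy) := by
    rw [q_inv F hx, q_inv F hy, qx, qy]
  rw [q_eq_iff, inv_inv] at h1
  exact h1

theorem Co.exists (hr : r ≠ 0) (v : V) (s : ZMod 5) : ∃ x, Co F Φ u r x v s := by
  obtain ⟨x, hx, qx⟩ := q_surj F (Φ v)
  obtain ⟨j, hj⟩ := H.exists_δ_eq hx (r * s)
  have hf : F.f ^ j ∈ F.E := pow_mem H.mem j
  refine ⟨x * F.f ^ j, mul_mem hx hf, ?_, hj⟩
  rw [q_mul F hx hf, qx]
  have : q F (F.f ^ j) hf = 0 := by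
    rw [q_eq_zero_iff]; exact pow_mem (mem_zpowers _) j
  rw [this, add_zero]

theorem Co.f_pow (j : ℕ) (s : ZMod 5) (hj : (j : ZMod 5) = r * s) : Co F Φ u r (F.f ^ j) 0 s := by
  have hf : F.f ^ j ∈ F.E := pow_mem H.mem j
  refine ⟨hf, ?_, ?_⟩
  · rw [map_zero, q_eq_zero_iff]; exact pow_mem (mem_zpowers _) j
  · rw [H.δ_fpow, hj]

end basic

/-! ### Words -/

def MA' (x : V) : V := ![2 * x 1, 4 * x 0, x 3, 3 * x 2]

def MB' (x : V) : V := ![x 1 - x 0, x 2 - x 0, x 3 - x 0, -x 0]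

def MZ' (x : V) : V := ![2 * x 0 + 4 * x 2 + 2 * x 3, 3 * x 1 + 2 * x 2 + 3 * x 3, 4 * x 0 + 4 * x 1 + x 2 + 2 * x 3,
  4 * x 0 + 2 * x 1 + 4 * x 2 + 4 * x 3]

theorem MA'_MA : ∀ x, MA' (MA x) = x := all4 (by decide +kernel)

theorem MB'_MB : ∀ x, MB' (MB x) = x := all4 (by decide +kernel)

theorem MZ'_MZ : ∀ x, MZ' (MZ x) = x := all4 (by decide +kernel)

/-- multiplication in coordinates -/
def hmul (n m : V × ZMod 5) : V × ZMod 5 := (n.1 + m.1, n.2 + m.2 + 3 * J n.1 m.1)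

/-- the coordinates of `c` -/
def w1 : V := ![1, 2, 4, 3]

/-- the letters: `a, a⁻¹, b, b⁻¹, c, c⁻¹, z, z⁻¹` -/
def lt {G : Type*} [Group G] (a b c z : G) : ℕ → G
  | 0 => a
  | 1 => a⁻¹
  | 2 => b
  | 3 => b⁻¹
  | 4 => c
  | 5 => c⁻¹
  | 6 => z
  | 7 => z⁻¹
  | _ => 1

/-- the value of a word -/
def ev {G : Type*} [Group G] (a b c z : G) (w : List ℕ) : G := (w.map (lt a b c z)).prod

/-- one letter in coordinates -/
def step : ℕ → V × ZMod 5 → V × ZMod 5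
  | 0, n => (MA n.1, 3 * n.2)
  | 1, n => (MA' n.1, 2 * n.2)
  | 2, n => (MB n.1, n.2)
  | 3, n => (MB' n.1, n.2)
  | 4, n => hmul (w1, 0) n
  | 5, n => hmul (-w1, -0) n
  | 6, n => (MZ n.1, 3 * n.2)
  | 7, n => (MZ' n.1, 2 * n.2)
  | _, n => n

/-- a word in coordinates -/
def run (w : List ℕ) : V × ZMod 5 := w.foldr step (0, 0)

/-- the operators of `a`, `b`, `z` -/
structure Act (F : LyFive L) (Φ : V ≃ₗ[ZMod 5] W F) (r : ZMod 5) (a b z : G) : Prop where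
  H : Hyp F.f (a ^ 2) F.E
  hβ : ∀ x y, β F (Φ x) (Φ y) = r * J x y
  r0 : r ≠ 0
  oa : Opr F Φ (a ^ 2) a MA MA' 3 2
  ob : Opr F Φ (a ^ 2) b MB MB' 1 1
  oz : Opr F Φ (a ^ 2) z MZ MZ' 3 2

theorem Act.ev_eq {a b z c : G} (h : Act F Φ r a b z) (hc : Co F Φ (a ^ 2) r c w1 0) (w : List ℕ) :
    ∃ x, Co F Φ (a ^ 2) r x (run w).1 (run w).2 ∧ ev a b c z w = x * ev a b 1 z w := by
  induction w with
  | nil => exact ⟨1, Co.one h.H, by simp [ev]⟩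
  | cons l w ih =>
    obtain ⟨x, hx, he⟩ := ih
    have e1 : ∀ c, ev a b c z (l :: w) = lt a b c z l * ev a b c z w := by
      intro c; simp [ev]
    have e2 : run (l :: w) = step l (run w) := rfl
    rw [e1, e1, he, e2]
    match l with
    | 0 =>
      refine ⟨a * x * a⁻¹, ?_, by simp only [lt]; group⟩
      exact hx.conj h.H h.oa
    | 1 =>
      refine ⟨a⁻¹ * x * a, ?_, by simp only [lt]; group⟩
      exact hx.conj' h.H h.oa
    | 2 =>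
      refine ⟨b * x * b⁻¹, ?_, by simp only [lt]; group⟩
      have := hx.conj h.H h.ob
      rwa [Nat.cast_one, one_mul] at this
    | 3 =>
      refine ⟨b⁻¹ * x * b, ?_, by simp only [lt]; group⟩
      have := hx.conj' h.H h.ob
      rwa [Nat.cast_one, one_mul] at this
    | 4 =>
      refine ⟨c * x, ?_, by simp only [lt]; group⟩
      exact hc.mul h.H h.hβ hx
    | 5 =>
      refine ⟨c⁻¹ * x, ?_, by simp only [lt]; group⟩
      exact (hc.inv h.H).mul h.H h.hβ hx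
    | 6 =>
      refine ⟨z * x * z⁻¹, ?_, by simp only [lt]; group⟩
      exact hx.conj h.H h.oz
    | 7 =>
      refine ⟨z⁻¹ * x * z, ?_, by simp only [lt]; group⟩
      exact hx.conj' h.H h.oz
    | (n + 8) =>
      refine ⟨x, hx, by simp only [lt]; group⟩

theorem Act.rel {a b z c : G} (h : Act F Φ r a b z) (hc : Co F Φ (a ^ 2) r c w1 0) (w : List ℕ)
    (h1 : run w = (0, 0)) (h2 : ev a b 1 z w = 1) : ev a b c z w = 1 := by
  obtain ⟨x, hx, he⟩ := h.ev_eq hc w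
  rw [h1] at hx
  have : x = 1 := hx.ext h.H (Co.one h.H)
  rw [he, h2, this, one_mul]

theorem test : run [5,7,5,0,5,7,4,0,6,3,4,2,1,5,7,5,0,5,7,4,0,6,3,4,2,1] ≠ (0,0) := by decide +kernel

end Cfsg.Agent.R10.NGenCo
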