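import Cfsg.Agent.R10.NGenAct
import Cfsg.Agent.R10.ToHom
import Cfsg.Agent.SporRec.LyG2.Rel28
import Cfsg.Agent.SporRec.LyFiveFrame

/-!
# Relators 1–28 and 73–82 in a group of Lyons type
-/

set_option autoImplicit false
set_option linter.unusedSimpArgs false

namespace Cfsg.Agent.R10.NGenMain

open Subgroup Equiv Cfsg.Agent.SporRec.TwoAn Cfsg.Agent.SporRec.LyType Cfsg.Agent.SporRec.LyFive
  Cfsg.Agent.R10.CliffSign Cfsg.Agent.R10.CliffWord Cfsg.Agent.R10.NGenCo Cfsg.Agent.R10.NGenRel Cfsg.Agent.R10.NGenW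
  Cfsg.Agent.R10.NGenMod Cfsg.Agent.R10.NGenDelta Cfsg.Agent.R10.NGenAct Cfsg.Agent.R10.ToHom
  Cfsg.Agent.SporRec.LyG2.Rel28 Cfsg.Agent.SporRec.LyFiveFrame

variable {G : Type*} [Group G] {L : LyType G} {F : LyFive L} {a b z : G}

theorem uf (h : Lifts L F.f a b z) : (a ^ 2)⁻¹ * F.f * a ^ 2 = F.f⁻¹ := by
  have h4 : F.f ^ 9 = F.f⁻¹ := by
    rw [eq_inv_iff_mul_eq_one, ← pow_succ, show 9 + 1 = 5 * 2 from rfl, pow_mul, F.f_pow, one_pow]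
  have h1 : a ^ 2 * F.f * (a ^ 2)⁻¹ = F.f⁻¹ := by
    rw [← h4, show 9 = 3 * 3 from rfl, pow_mul, ← h.af, conj_pow, ← h.af, pow_two]
    group
  calc (a ^ 2)⁻¹ * F.f * a ^ 2 = ((a ^ 2)⁻¹ * F.f⁻¹ * a ^ 2)⁻¹ := by group
    _ = ((a ^ 2)⁻¹ * (a ^ 2 * F.f * (a ^ 2)⁻¹) * a ^ 2)⁻¹ := by rw [h1]
    _ = F.f⁻¹ := by group

theorem hyp {Φ : (Fin 4 → ZMod 5) ≃ₗ[ZMod 5] W F} {r : ZMod 5} (h : Lifts L F.f a b z)
    (hc : Coord (ρ F ⟨a, Lifts.aN h⟩) (ρ F ⟨b, Lifts.bN h⟩) (β F) Φ r) : Hyp F.f (a ^ 2) F.E where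
  f5 := F.f_pow
  f1 := f_ne_one F
  mem := F.f_mem
  cent := F.f_central
  comm := F.comm_E
  pow := F.pow_E
  uf := uf h
  uE x hx := by
    have := conj_mem_E F (inv_mem (pow_mem (Lifts.aN h) 2)) hx
    rwa [inv_inv] at this
  ux x hx := by
    have hy : (a ^ 2)⁻¹ * x * a ^ 2 ∈ F.E := by
      have := conj_mem_E F (inv_mem (pow_mem (Lifts.aN h) 2)) hx
      rwa [inv_inv] at this
    obtain ⟨w, hw⟩ := Φ.surjective (q F ((a ^ 2)⁻¹ * x * a ^ 2) hy)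
    have h1 : (ρ F (⟨a, Lifts.aN h⟩ ^ 2)) (q F ((a ^ 2)⁻¹ * x * a ^ 2) hy) = q F x hx := by
      rw [ρ_q]
      congr 1
      show a ^ 2 * ((a ^ 2)⁻¹ * x * a ^ 2) * (a ^ 2)⁻¹ = x
      group
    have h2 : (ρ F (⟨a, Lifts.aN h⟩ ^ 2)) (Φ w) = (2 : ZMod 5) • Φ w := by
      rw [map_pow, pow_two, Module.End.mul_apply, hc.hA, hc.hA, ← map_smul]
      congr 1
      revert w
      intro w _
      exact (all4 (P := fun w => MA (MA w) = (2 : ZMod 5) • w) (by decide +kernel)) w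
    rw [← hw, h2] at h1
    rw [← q_eq_zero_iff F (mul_mem hy (inv_mem (pow_mem hx 3))), q_mul F hy (inv_mem (pow_mem hx 3)),
      q_inv F (pow_mem hx 3), q_pow F hx 3, ← hw, ← h1]
    rw [← Nat.cast_smul_eq_nsmul (ZMod 5), smul_smul, show ((3 : ℕ) : ZMod 5) * 2 = 1 by decide, one_smul,
      add_neg_cancel]

theorem act_of_coord {Φ : (Fin 4 → ZMod 5) ≃ₗ[ZMod 5] W F} {r : ZMod 5} (h : Lifts L F.f a b z)
    (hc : Coord (ρ F ⟨a, Lifts.aN h⟩) (ρ F ⟨b, Lifts.bN h⟩) (β F) Φ r) : Act F Φ r a b z where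
  H := hyp h hc
  hβ := hc.hβ
  r0 := hc.r0
  oa := ⟨Lifts.aN h, hc.hA, MA'_MA, h.af, by decide, by rw [← pow_succ, ← pow_succ']⟩
  ob := ⟨Lifts.bN h, hc.hB, MB'_MB, h.bf, by decide, by
    have := @Lifts.eq G _ L F.f a b z h [2, 0, 0] [0, 0, 2] (by decide +kernel)
    simpa [ev, lt, pow_succ, mul_assoc] using this⟩
  oz := by
    refine ⟨Lifts.zN h, ?_, MZ'_MZ, h.zf, by decide, ?_⟩
    · have hA4 := Lifts.A4 h
      have e := @Lifts.evm_eq G _ L F a b z h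
      intro x
      refine hc.hZ ?_ ?_ ?_ ?_ x
      · have := @e [0, 6] ([0, 0, 0, 0] ++ [6, 0]) (by decide) (by decide) (by decide +kernel)
        rw [evm_append] at this
        have e4 : evm (ρ F ⟨a, Lifts.aN h⟩) (ρ F ⟨b, Lifts.bN h⟩) (ρ F ⟨z, Lifts.zN h⟩) [0, 0, 0, 0] = -1 := by
          rw [← hA4]; simp [evm, ltm, pow_succ, mul_assoc]
        rw [e4, neg_one_mul] at this
        simpa [evm, ltm] using this
      · have := @e [2, 0, 2, 2, 2, 2, 6] ([0, 0, 0, 0] ++ [6, 2, 0, 2, 2, 2, 2]) (by decide) (by decide)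
          (by decide +kernel)
        rw [evm_append] at this
        have e4 : evm (ρ F ⟨a, Lifts.aN h⟩) (ρ F ⟨b, Lifts.bN h⟩) (ρ F ⟨z, Lifts.zN h⟩) [0, 0, 0, 0] = -1 := by
          rw [← hA4]; simp [evm, ltm, pow_succ, mul_assoc]
        rw [e4, neg_one_mul] at this
        simpa [evm, ltm, pow_succ, mul_assoc] using this
      · have := @e [2, 2, 0, 2, 2, 2, 6] ([0, 0, 0, 0] ++ [6, 2, 2, 0, 2, 2, 2]) (by decide) (by decide)
          (by decide +kernel)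
        rw [evm_append] at this
        have e4 : evm (ρ F ⟨a, Lifts.aN h⟩) (ρ F ⟨b, Lifts.bN h⟩) (ρ F ⟨z, Lifts.zN h⟩) [0, 0, 0, 0] = -1 := by
          rw [← hA4]; simp [evm, ltm, pow_succ, mul_assoc]
        rw [e4, neg_one_mul] at this
        simpa [evm, ltm, pow_succ, mul_assoc] using this
      · have := @e ([2, 2, 2, 0, 2, 2, 6] ++ ([2, 2, 2, 0, 2, 2, 6] ++ ([2, 2, 2, 0, 2, 2, 6] ++ [0, 0]))) []
          (by decide) (by decide) (by decide +kernel)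
        rw [evm_append, evm_append, evm_append] at this
        simpa [evm, ltm, pow_succ, mul_assoc] using this
    · have := @Lifts.eq G _ L F.f a b z h [6, 0, 0] [0, 0, 6] (by decide +kernel)
      simpa [ev, lt, pow_succ, mul_assoc] using this

theorem exists_act (hπ : L.K.π ⟨F.f, L.mem_iff.2 F.f_comm⟩ = pf) : ∃ a b z : G, ∃ Φ : (Fin 4 → ZMod 5) ≃ₗ[ZMod 5] W F,
    ∃ r : ZMod 5, Lifts L F.f a b z ∧ Act F Φ r a b z := by
  obtain ⟨a, b, z, h1, h2⟩ := exists_lifts F.f_comm F.f_pow hπ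
  obtain ⟨Φ, r, hc | hc⟩ := Lifts.coord h1
  · exact ⟨a, b, z, Φ, r, h1, act_of_coord h1 hc⟩
  · refine ⟨L.t * a, b, L.t * z, Φ, r, h2, act_of_coord h2 ?_⟩
    have e : ρ F ⟨L.t * a, Lifts.aN h2⟩ = -ρ F ⟨a, Lifts.aN h1⟩ := by
      have : (⟨L.t * a, Lifts.aN h2⟩ : N F) = ⟨L.t, t_mem_N F⟩ * ⟨a, Lifts.aN h1⟩ := rfl
      rw [this, map_mul, ρ_t, neg_one_mul]
    rw [e]
    exact hc

section relations

variable {Φ : (Fin 4 → ZMod 5) ≃ₗ[ZMod 5] W F} {r : ZMod 5} {c : G}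

theorem rel' (hL : Lifts L F.f a b z) (h : Act F Φ r a b z) (hc : Co F Φ (a ^ 2) r c w1 0) (w : List ℕ)
    (h1 : run w = (0, 0)) (h2 : ∀ s, good (w.flatMap (tl s)) = true) : ev a b c z w = 1 :=
  h.rel hc w h1 (hL.rel w h2)

theorem r1 (hL : Lifts L F.f a b z) (h : Act F Φ r a b z) (hc : Co F Φ (a ^ 2) r c w1 0) :
    a ^ 8 = 1 := by
  have k := rel' hL h hc [0, 0, 0, 0, 0, 0, 0, 0]
    (by decide +kernel) (by decide +kernel)
  simp only [ev, lt, List.map_cons, List.map_nil, List.prod_cons, List.prod_nil, mul_one, one_mul, pow_succ, pow_zero,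
    mul_inv_rev, inv_inv, mul_assoc, inv_mul_cancel_left, mul_inv_cancel_left, inv_mul_cancel, mul_inv_cancel] at k ⊢
  exact k

theorem r2 (hL : Lifts L F.f a b z) (h : Act F Φ r a b z) (hc : Co F Φ (a ^ 2) r c w1 0) :
    b ^ 5 = 1 := by
  have k := rel' hL h hc [2, 2, 2, 2, 2]
    (by decide +kernel) (by decide +kernel)
  simp only [ev, lt, List.map_cons, List.map_nil, List.prod_cons, List.prod_nil, mul_one, one_mul, pow_succ, pow_zero,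
    mul_inv_rev, inv_inv, mul_assoc, inv_mul_cancel_left, mul_inv_cancel_left, inv_mul_cancel, mul_inv_cancel] at k ⊢
  exact k

theorem r3 (hL : Lifts L F.f a b z) (h : Act F Φ r a b z) (hc : Co F Φ (a ^ 2) r c w1 0) :
    (a * b) ^ 4 = 1 := by
  have k := rel' hL h hc [0, 2, 0, 2, 0, 2, 0, 2]
    (by decide +kernel) (by decide +kernel)
  simp only [ev, lt, List.map_cons, List.map_nil, List.prod_cons, List.prod_nil, mul_one, one_mul, pow_succ, pow_zero,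
    mul_inv_rev, inv_inv, mul_assoc, inv_mul_cancel_left, mul_inv_cancel_left, inv_mul_cancel, mul_inv_cancel] at k ⊢
  exact k

theorem r4 (hL : Lifts L F.f a b z) (h : Act F Φ r a b z) (hc : Co F Φ (a ^ 2) r c w1 0) :
    (a ^ 2)⁻¹ * b⁻¹ * (a ^ 2) * b = 1 := by
  have k := rel' hL h hc [1, 1, 3, 0, 0, 2]
    (by decide +kernel) (by decide +kernel)
  simp only [ev, lt, List.map_cons, List.map_nil, List.prod_cons, List.prod_nil, mul_one, one_mul, pow_succ, pow_zero,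
    mul_inv_rev, inv_inv, mul_assoc, inv_mul_cancel_left, mul_inv_cancel_left, inv_mul_cancel, mul_inv_cancel] at k ⊢
  exact k

theorem r5 (hL : Lifts L F.f a b z) (h : Act F Φ r a b z) (hc : Co F Φ (a ^ 2) r c w1 0) :
    (a⁻¹ * b⁻¹ * a * b) ^ 3 = 1 := by
  have k := rel' hL h hc [1, 3, 0, 2, 1, 3, 0, 2, 1, 3, 0, 2]
    (by decide +kernel) (by decide +kernel)
  simp only [ev, lt, List.map_cons, List.map_nil, List.prod_cons, List.prod_nil, mul_one, one_mul, pow_succ, pow_zero,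
    mul_inv_rev, inv_inv, mul_assoc, inv_mul_cancel_left, mul_inv_cancel_left, inv_mul_cancel, mul_inv_cancel] at k ⊢
  exact k

theorem r11 (hL : Lifts L F.f a b z) (h : Act F Φ r a b z) (hc : Co F Φ (a ^ 2) r c w1 0) :
    c ^ 5 = 1 := by
  have k := rel' hL h hc [4, 4, 4, 4, 4]
    (by decide +kernel) (by decide +kernel)
  simp only [ev, lt, List.map_cons, List.map_nil, List.prod_cons, List.prod_nil, mul_one, one_mul, pow_succ, pow_zero,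
    mul_inv_rev, inv_inv, mul_assoc, inv_mul_cancel_left, mul_inv_cancel_left, inv_mul_cancel, mul_inv_cancel] at k ⊢
  exact k

theorem r12 (hL : Lifts L F.f a b z) (h : Act F Φ r a b z) (hc : Co F Φ (a ^ 2) r c w1 0) :
    (c⁻¹ * (a⁻¹ * c * a)⁻¹ * c * (a⁻¹ * c * a)) ^ 5 = 1 := by
  have k := rel' hL h hc [5, 1, 5, 0, 4, 1, 4, 0, 5, 1, 5, 0, 4, 1, 4, 0, 5, 1, 5, 0, 4, 1, 4, 0, 5, 1, 5, 0, 4, 1, 4, 0, 5, 1, 5, 0, 4, 1, 4, 0]
    (by decide +kernel) (by decide +kernel)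
  simp only [ev, lt, List.map_cons, List.map_nil, List.prod_cons, List.prod_nil, mul_one, one_mul, pow_succ, pow_zero,
    mul_inv_rev, inv_inv, mul_assoc, inv_mul_cancel_left, mul_inv_cancel_left, inv_mul_cancel, mul_inv_cancel] at k ⊢
  exact k

theorem r13 (hL : Lifts L F.f a b z) (h : Act F Φ r a b z) (hc : Co F Φ (a ^ 2) r c w1 0) :
    c⁻¹ * (c⁻¹ * (a⁻¹ * c * a)⁻¹ * c * (a⁻¹ * c * a))⁻¹ * c * (c⁻¹ * (a⁻¹ * c * a)⁻¹ * c * (a⁻¹ * c * a)) = 1 := by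
  have k := rel' hL h hc [5, 1, 5, 0, 5, 1, 4, 0, 4, 4, 5, 1, 5, 0, 4, 1, 4, 0]
    (by decide +kernel) (by decide +kernel)
  simp only [ev, lt, List.map_cons, List.map_nil, List.prod_cons, List.prod_nil, mul_one, one_mul, pow_succ, pow_zero,
    mul_inv_rev, inv_inv, mul_assoc, inv_mul_cancel_left, mul_inv_cancel_left, inv_mul_cancel, mul_inv_cancel] at k ⊢
  exact k

theorem r14 (hL : Lifts L F.f a b z) (h : Act F Φ r a b z) (hc : Co F Φ (a ^ 2) r c w1 0) :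
    (a⁻¹ * c * a)⁻¹ * (c⁻¹ * (a⁻¹ * c * a)⁻¹ * c * (a⁻¹ * c * a))⁻¹ * (a⁻¹ * c * a) * (c⁻¹ * (a⁻¹ * c * a)⁻¹ * c * (a⁻¹ * c * a)) = 1 := by
  have k := rel' hL h hc [1, 5, 0, 1, 5, 0, 5, 1, 4, 0, 4, 1, 4, 0, 5, 1, 5, 0, 4, 1, 4, 0]
    (by decide +kernel) (by decide +kernel)
  simp only [ev, lt, List.map_cons, List.map_nil, List.prod_cons, List.prod_nil, mul_one, one_mul, pow_succ, pow_zero,
    mul_inv_rev, inv_inv, mul_assoc, inv_mul_cancel_left, mul_inv_cancel_left, inv_mul_cancel, mul_inv_cancel] at k ⊢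
  exact k

theorem r15 (hL : Lifts L F.f a b z) (h : Act F Φ r a b z) (hc : Co F Φ (a ^ 2) r c w1 0) :
    (b⁻¹ * c * b)⁻¹ * (c⁻¹ * (a⁻¹ * c * a)⁻¹ * c * (a⁻¹ * c * a))⁻¹ * (b⁻¹ * c * b) * (c⁻¹ * (a⁻¹ * c * a)⁻¹ * c * (a⁻¹ * c * a)) = 1 := by
  have k := rel' hL h hc [3, 5, 2, 1, 5, 0, 5, 1, 4, 0, 4, 3, 4, 2, 5, 1, 5, 0, 4, 1, 4, 0]
    (by decide +kernel) (by decide +kernel)
  simp only [ev, lt, List.map_cons, List.map_nil, List.prod_cons, List.prod_nil, mul_one, one_mul, pow_succ, pow_zero,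
    mul_inv_rev, inv_inv, mul_assoc, inv_mul_cancel_left, mul_inv_cancel_left, inv_mul_cancel, mul_inv_cancel] at k ⊢
  exact k

theorem r16 (hL : Lifts L F.f a b z) (h : Act F Φ r a b z) (hc : Co F Φ (a ^ 2) r c w1 0) :
    ((b⁻¹)⁻¹ * c * (b⁻¹))⁻¹ * (c⁻¹ * (a⁻¹ * c * a)⁻¹ * c * (a⁻¹ * c * a))⁻¹ * ((b⁻¹)⁻¹ * c * (b⁻¹)) * (c⁻¹ * (a⁻¹ * c * a)⁻¹ * c * (a⁻¹ * c * a)) = 1 := by
  have k := rel' hL h hc [2, 5, 3, 1, 5, 0, 5, 1, 4, 0, 4, 2, 4, 3, 5, 1, 5, 0, 4, 1, 4, 0]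
    (by decide +kernel) (by decide +kernel)
  simp only [ev, lt, List.map_cons, List.map_nil, List.prod_cons, List.prod_nil, mul_one, one_mul, pow_succ, pow_zero,
    mul_inv_rev, inv_inv, mul_assoc, inv_mul_cancel_left, mul_inv_cancel_left, inv_mul_cancel, mul_inv_cancel] at k ⊢
  exact k

theorem r17 (hL : Lifts L F.f a b z) (h : Act F Φ r a b z) (hc : Co F Φ (a ^ 2) r c w1 0) :
    (c⁻¹ * (b⁻¹ * c * b)⁻¹ * c * (b⁻¹ * c * b)) * ((((c⁻¹ * (a⁻¹ * c * a)⁻¹ * c * (a⁻¹ * c * a)) ^ 2)⁻¹)⁻¹) = 1 := by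
  have k := rel' hL h hc [5, 3, 5, 2, 4, 3, 4, 2, 5, 1, 5, 0, 4, 1, 4, 0, 5, 1, 5, 0, 4, 1, 4, 0]
    (by decide +kernel) (by decide +kernel)
  simp only [ev, lt, List.map_cons, List.map_nil, List.prod_cons, List.prod_nil, mul_one, one_mul, pow_succ, pow_zero,
    mul_inv_rev, inv_inv, mul_assoc, inv_mul_cancel_left, mul_inv_cancel_left, inv_mul_cancel, mul_inv_cancel] at k ⊢
  exact k

theorem r18 (hL : Lifts L F.f a b z) (h : Act F Φ r a b z) (hc : Co F Φ (a ^ 2) r c w1 0) :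
    (c⁻¹ * ((b⁻¹)⁻¹ * c * (b⁻¹))⁻¹ * c * ((b⁻¹)⁻¹ * c * (b⁻¹))) * (((c⁻¹ * (a⁻¹ * c * a)⁻¹ * c * (a⁻¹ * c * a)) ^ 2)⁻¹) = 1 := by
  have k := rel' hL h hc [5, 2, 5, 3, 4, 2, 4, 3, 1, 5, 0, 5, 1, 4, 0, 4, 1, 5, 0, 5, 1, 4, 0, 4]
    (by decide +kernel) (by decide +kernel)
  simp only [ev, lt, List.map_cons, List.map_nil, List.prod_cons, List.prod_nil, mul_one, one_mul, pow_succ, pow_zero,
    mul_inv_rev, inv_inv, mul_assoc, inv_mul_cancel_left, mul_inv_cancel_left, inv_mul_cancel, mul_inv_cancel] at k ⊢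
  exact k

theorem r19 (hL : Lifts L F.f a b z) (h : Act F Φ r a b z) (hc : Co F Φ (a ^ 2) r c w1 0) :
    ((a⁻¹ * c * a)⁻¹ * (b⁻¹ * c * b)⁻¹ * (a⁻¹ * c * a) * (b⁻¹ * c * b)) * (((c⁻¹ * (a⁻¹ * c * a)⁻¹ * c * (a⁻¹ * c * a))⁻¹)⁻¹) = 1 := by
  have k := rel' hL h hc [1, 5, 0, 3, 5, 2, 1, 4, 0, 3, 4, 2, 5, 1, 5, 0, 4, 1, 4, 0]
    (by decide +kernel) (by decide +kernel)
  simp only [ev, lt, List.map_cons, List.map_nil, List.prod_cons, List.prod_nil, mul_one, one_mul, pow_succ, pow_zero,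
    mul_inv_rev, inv_inv, mul_assoc, inv_mul_cancel_left, mul_inv_cancel_left, inv_mul_cancel, mul_inv_cancel] at k ⊢
  exact k

theorem r20 (hL : Lifts L F.f a b z) (h : Act F Φ r a b z) (hc : Co F Φ (a ^ 2) r c w1 0) :
    (a⁻¹ * c * a)⁻¹ * ((b⁻¹)⁻¹ * c * (b⁻¹))⁻¹ * (a⁻¹ * c * a) * ((b⁻¹)⁻¹ * c * (b⁻¹)) = 1 := by
  have k := rel' hL h hc [1, 5, 0, 2, 5, 3, 1, 4, 0, 2, 4, 3]
    (by decide +kernel) (by decide +kernel)
  simp only [ev, lt, List.map_cons, List.map_nil, List.prod_cons, List.prod_nil, mul_one, one_mul, pow_succ, pow_zero,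
    mul_inv_rev, inv_inv, mul_assoc, inv_mul_cancel_left, mul_inv_cancel_left, inv_mul_cancel, mul_inv_cancel] at k ⊢
  exact k

theorem r21 (hL : Lifts L F.f a b z) (h : Act F Φ r a b z) (hc : Co F Φ (a ^ 2) r c w1 0) :
    ((b⁻¹ * c * b)⁻¹ * ((b⁻¹)⁻¹ * c * (b⁻¹))⁻¹ * (b⁻¹ * c * b) * ((b⁻¹)⁻¹ * c * (b⁻¹))) * (((c⁻¹ * (a⁻¹ * c * a)⁻¹ * c * (a⁻¹ * c * a))⁻¹)⁻¹) = 1 := by
  have k := rel' hL h hc [3, 5, 2, 2, 5, 3, 3, 4, 2, 2, 4, 3, 5, 1, 5, 0, 4, 1, 4, 0]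
    (by decide +kernel) (by decide +kernel)
  simp only [ev, lt, List.map_cons, List.map_nil, List.prod_cons, List.prod_nil, mul_one, one_mul, pow_succ, pow_zero,
    mul_inv_rev, inv_inv, mul_assoc, inv_mul_cancel_left, mul_inv_cancel_left, inv_mul_cancel, mul_inv_cancel] at k ⊢
  exact k

theorem r22 (hL : Lifts L F.f a b z) (h : Act F Φ r a b z) (hc : Co F Φ (a ^ 2) r c w1 0) :
    (a⁻¹ * (a⁻¹ * c * a) * a) * (((c ^ 2)⁻¹)⁻¹) = 1 := by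
  have k := rel' hL h hc [1, 1, 4, 0, 0, 4, 4]
    (by decide +kernel) (by decide +kernel)
  simp only [ev, lt, List.map_cons, List.map_nil, List.prod_cons, List.prod_nil, mul_one, one_mul, pow_succ, pow_zero,
    mul_inv_rev, inv_inv, mul_assoc, inv_mul_cancel_left, mul_inv_cancel_left, inv_mul_cancel, mul_inv_cancel] at k ⊢
  exact k

theorem r23 (hL : Lifts L F.f a b z) (h : Act F Φ r a b z) (hc : Co F Φ (a ^ 2) r c w1 0) :
    (a⁻¹ * (b⁻¹ * c * b) * a) * (((((b⁻¹ * c * b) ^ 2)⁻¹) * c * ((b⁻¹)⁻¹ * c * (b⁻¹)))⁻¹) = 1 := by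
  have k := rel' hL h hc [1, 3, 4, 2, 0, 2, 5, 3, 5, 3, 4, 2, 3, 4, 2]
    (by decide +kernel) (by decide +kernel)
  simp only [ev, lt, List.map_cons, List.map_nil, List.prod_cons, List.prod_nil, mul_one, one_mul, pow_succ, pow_zero,
    mul_inv_rev, inv_inv, mul_assoc, inv_mul_cancel_left, mul_inv_cancel_left, inv_mul_cancel, mul_inv_cancel] at k ⊢
  exact k

theorem r24 (hL : Lifts L F.f a b z) (h : Act F Φ r a b z) (hc : Co F Φ (a ^ 2) r c w1 0) :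
    (a⁻¹ * ((b⁻¹)⁻¹ * c * (b⁻¹)) * a) * ((c * ((a⁻¹ * c * a)⁻¹) * ((b⁻¹ * c * b)⁻¹) * ((b⁻¹)⁻¹ * c * (b⁻¹)) * c * ((b⁻¹)⁻¹ * c * (b⁻¹)))⁻¹) = 1 := by
  have k := rel' hL h hc [1, 2, 4, 3, 0, 2, 5, 3, 5, 2, 5, 3, 3, 4, 2, 1, 4, 0, 5]
    (by decide +kernel) (by decide +kernel)
  simp only [ev, lt, List.map_cons, List.map_nil, List.prod_cons, List.prod_nil, mul_one, one_mul, pow_succ, pow_zero,
    mul_inv_rev, inv_inv, mul_assoc, inv_mul_cancel_left, mul_inv_cancel_left, inv_mul_cancel, mul_inv_cancel] at k ⊢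
  exact k

theorem r25 (hL : Lifts L F.f a b z) (h : Act F Φ r a b z) (hc : Co F Φ (a ^ 2) r c w1 0) :
    (a⁻¹ * (c⁻¹ * (a⁻¹ * c * a)⁻¹ * c * (a⁻¹ * c * a)) * a) * (((c⁻¹ * (a⁻¹ * c * a)⁻¹ * c * (a⁻¹ * c * a)) ^ 2)⁻¹) = 1 := by
  have k := rel' hL h hc [1, 5, 1, 5, 0, 4, 1, 4, 0, 0, 1, 5, 0, 5, 1, 4, 0, 4, 1, 5, 0, 5, 1, 4, 0, 4]
    (by decide +kernel) (by decide +kernel)
  simp only [ev, lt, List.map_cons, List.map_nil, List.prod_cons, List.prod_nil, mul_one, one_mul, pow_succ, pow_zero,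
    mul_inv_rev, inv_inv, mul_assoc, inv_mul_cancel_left, mul_inv_cancel_left, inv_mul_cancel, mul_inv_cancel] at k ⊢
  exact k

theorem r26 (hL : Lifts L F.f a b z) (h : Act F Φ r a b z) (hc : Co F Φ (a ^ 2) r c w1 0) :
    (b⁻¹ * (a⁻¹ * c * a) * b) * (((a⁻¹ * c * a) * (b⁻¹ * c * b) * (((b⁻¹)⁻¹ * c * (b⁻¹))⁻¹) * (c⁻¹) * (((b⁻¹)⁻¹ * c * (b⁻¹))⁻¹))⁻¹) = 1 := by
  have k := rel' hL h hc [3, 1, 4, 0, 2, 2, 4, 3, 4, 2, 4, 3, 3, 5, 2, 1, 5, 0]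
    (by decide +kernel) (by decide +kernel)
  simp only [ev, lt, List.map_cons, List.map_nil, List.prod_cons, List.prod_nil, mul_one, one_mul, pow_succ, pow_zero,
    mul_inv_rev, inv_inv, mul_assoc, inv_mul_cancel_left, mul_inv_cancel_left, inv_mul_cancel, mul_inv_cancel] at k ⊢
  exact k

theorem r27 (hL : Lifts L F.f a b z) (h : Act F Φ r a b z) (hc : Co F Φ (a ^ 2) r c w1 0) :
    (b⁻¹ * (b⁻¹ * c * b) * b) * (((c ^ 2) * ((b⁻¹)⁻¹ * c * (b⁻¹)) * (((b⁻¹ * c * b) ^ 2)⁻¹))⁻¹) = 1 := by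
  have k := rel' hL h hc [3, 3, 4, 2, 2, 3, 4, 2, 3, 4, 2, 2, 5, 3, 5, 5]
    (by decide +kernel) (by decide +kernel)
  simp only [ev, lt, List.map_cons, List.map_nil, List.prod_cons, List.prod_nil, mul_one, one_mul, pow_succ, pow_zero,
    mul_inv_rev, inv_inv, mul_assoc, inv_mul_cancel_left, mul_inv_cancel_left, inv_mul_cancel, mul_inv_cancel] at k ⊢
  exact k

theorem r28 (hL : Lifts L F.f a b z) (h : Act F Φ r a b z) (hc : Co F Φ (a ^ 2) r c w1 0) :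
    (b⁻¹ * (c⁻¹ * (a⁻¹ * c * a)⁻¹ * c * (a⁻¹ * c * a)) * b) * ((c⁻¹ * (a⁻¹ * c * a)⁻¹ * c * (a⁻¹ * c * a))⁻¹) = 1 := by
  have k := rel' hL h hc [3, 5, 1, 5, 0, 4, 1, 4, 0, 2, 1, 5, 0, 5, 1, 4, 0, 4]
    (by decide +kernel) (by decide +kernel)
  simp only [ev, lt, List.map_cons, List.map_nil, List.prod_cons, List.prod_nil, mul_one, one_mul, pow_succ, pow_zero,
    mul_inv_rev, inv_inv, mul_assoc, inv_mul_cancel_left, mul_inv_cancel_left, inv_mul_cancel, mul_inv_cancel] at k ⊢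
  exact k

theorem r73 (hL : Lifts L F.f a b z) (h : Act F Φ r a b z) (hc : Co F Φ (a ^ 2) r c w1 0) :
    (z⁻¹ * c * z) * ((((a⁻¹) * (b⁻¹) * (a⁻¹) * b * (c⁻¹) * (b⁻¹) * a * (c⁻¹) * b * a))⁻¹) = 1 := by
  have k := rel' hL h hc [7, 4, 6, 1, 3, 4, 1, 2, 4, 3, 0, 2, 0]
    (by decide +kernel) (by decide +kernel)
  simp only [ev, lt, List.map_cons, List.map_nil, List.prod_cons, List.prod_nil, mul_one, one_mul, pow_succ, pow_zero,
    mul_inv_rev, inv_inv, mul_assoc, inv_mul_cancel_left, mul_inv_cancel_left, inv_mul_cancel, mul_inv_cancel] at k ⊢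
  exact k

theorem r74 (hL : Lifts L F.f a b z) (h : Act F Φ r a b z) (hc : Co F Φ (a ^ 2) r c w1 0) :
    (z⁻¹ * (a⁻¹ * c * a) * z) * (((((b ^ 2)⁻¹) * a * c * (a⁻¹) * b * c * b))⁻¹) = 1 := by
  have k := rel' hL h hc [7, 1, 4, 0, 6, 3, 5, 3, 0, 5, 1, 2, 2]
    (by decide +kernel) (by decide +kernel)
  simp only [ev, lt, List.map_cons, List.map_nil, List.prod_cons, List.prod_nil, mul_one, one_mul, pow_succ, pow_zero,
    mul_inv_rev, inv_inv, mul_assoc, inv_mul_cancel_left, mul_inv_cancel_left, inv_mul_cancel, mul_inv_cancel] at k ⊢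
  exact k

theorem r75 (hL : Lifts L F.f a b z) (h : Act F Φ r a b z) (hc : Co F Φ (a ^ 2) r c w1 0) :
    (z⁻¹ * (b⁻¹ * c * b) * z) * ((((a⁻¹) * (b⁻¹) * (a⁻¹) * c * a * b * a))⁻¹) = 1 := by
  have k := rel' hL h hc [7, 3, 4, 2, 6, 1, 3, 1, 5, 0, 2, 0]
    (by decide +kernel) (by decide +kernel)
  simp only [ev, lt, List.map_cons, List.map_nil, List.prod_cons, List.prod_nil, mul_one, one_mul, pow_succ, pow_zero,
    mul_inv_rev, inv_inv, mul_assoc, inv_mul_cancel_left, mul_inv_cancel_left, inv_mul_cancel, mul_inv_cancel] at k ⊢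
  exact k

theorem r76 (hL : Lifts L F.f a b z) (h : Act F Φ r a b z) (hc : Co F Φ (a ^ 2) r c w1 0) :
    (z⁻¹ * ((b⁻¹)⁻¹ * c * (b⁻¹)) * z) * ((((b⁻¹) * (a⁻¹) * b * c * (b⁻¹) * a * b))⁻¹) = 1 := by
  have k := rel' hL h hc [7, 2, 4, 3, 6, 3, 1, 2, 5, 3, 0, 2]
    (by decide +kernel) (by decide +kernel)
  simp only [ev, lt, List.map_cons, List.map_nil, List.prod_cons, List.prod_nil, mul_one, one_mul, pow_succ, pow_zero,
    mul_inv_rev, inv_inv, mul_assoc, inv_mul_cancel_left, mul_inv_cancel_left, inv_mul_cancel, mul_inv_cancel] at k ⊢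
  exact k

theorem r77 (hL : Lifts L F.f a b z) (h : Act F Φ r a b z) (hc : Co F Φ (a ^ 2) r c w1 0) :
    (z⁻¹ * (c⁻¹ * (a⁻¹ * c * a)⁻¹ * c * (a⁻¹ * c * a)) * z) * ((((b ^ 2) * (a⁻¹) * (b⁻¹) * c * b * a * c * ((b ^ 2)⁻¹) * (c⁻¹)))⁻¹) = 1 := by
  have k := rel' hL h hc [7, 5, 1, 5, 0, 4, 1, 4, 0, 6, 4, 2, 2, 5, 1, 3, 5, 2, 0, 3, 3]
    (by decide +kernel) (by decide +kernel)
  simp only [ev, lt, List.map_cons, List.map_nil, List.prod_cons, List.prod_nil, mul_one, one_mul, pow_succ, pow_zero,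
    mul_inv_rev, inv_inv, mul_assoc, inv_mul_cancel_left, mul_inv_cancel_left, inv_mul_cancel, mul_inv_cancel] at k ⊢
  exact k

theorem r78 (hL : Lifts L F.f a b z) (h : Act F Φ r a b z) (hc : Co F Φ (a ^ 2) r c w1 0) :
    (z⁻¹ * a * z) * ((((a ^ 3)⁻¹))⁻¹) = 1 := by
  have k := rel' hL h hc [7, 0, 6, 0, 0, 0]
    (by decide +kernel) (by decide +kernel)
  simp only [ev, lt, List.map_cons, List.map_nil, List.prod_cons, List.prod_nil, mul_one, one_mul, pow_succ, pow_zero,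
    mul_inv_rev, inv_inv, mul_assoc, inv_mul_cancel_left, mul_inv_cancel_left, inv_mul_cancel, mul_inv_cancel] at k ⊢
  exact k

theorem r79 (hL : Lifts L F.f a b z) (h : Act F Φ r a b z) (hc : Co F Φ (a ^ 2) r c w1 0) :
    (z⁻¹ * ((b⁻¹)⁻¹ * a * (b⁻¹)) * z) * (((b * (a⁻¹) * (b⁻¹) * ((a ^ 2)⁻¹)))⁻¹) = 1 := by
  have k := rel' hL h hc [7, 2, 0, 3, 6, 0, 0, 2, 0, 3]
    (by decide +kernel) (by decide +kernel)
  simp only [ev, lt, List.map_cons, List.map_nil, List.prod_cons, List.prod_nil, mul_one, one_mul, pow_succ, pow_zero,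
    mul_inv_rev, inv_inv, mul_assoc, inv_mul_cancel_left, mul_inv_cancel_left, inv_mul_cancel, mul_inv_cancel] at k ⊢
  exact k

theorem r80 (hL : Lifts L F.f a b z) (h : Act F Φ r a b z) (hc : Co F Φ (a ^ 2) r c w1 0) :
    (z⁻¹ * (((b ^ 2)⁻¹)⁻¹ * a * ((b ^ 2)⁻¹)) * z) * (((a * (b ^ 2) * a * ((b ^ 2)⁻¹) * (a⁻¹)))⁻¹) = 1 := by
  have k := rel' hL h hc [7, 2, 2, 0, 3, 3, 6, 0, 2, 2, 1, 3, 3, 1]
    (by decide +kernel) (by decide +kernel)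
  simp only [ev, lt, List.map_cons, List.map_nil, List.prod_cons, List.prod_nil, mul_one, one_mul, pow_succ, pow_zero,
    mul_inv_rev, inv_inv, mul_assoc, inv_mul_cancel_left, mul_inv_cancel_left, inv_mul_cancel, mul_inv_cancel] at k ⊢
  exact k

theorem r81 (hL : Lifts L F.f a b z) (h : Act F Φ r a b z) (hc : Co F Φ (a ^ 2) r c w1 0) :
    (z ^ 2) * ((a ^ 2)⁻¹) = 1 := by
  have k := rel' hL h hc [6, 6, 1, 1]
    (by decide +kernel) (by decide +kernel)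
  simp only [ev, lt, List.map_cons, List.map_nil, List.prod_cons, List.prod_nil, mul_one, one_mul, pow_succ, pow_zero,
    mul_inv_rev, inv_inv, mul_assoc, inv_mul_cancel_left, mul_inv_cancel_left, inv_mul_cancel, mul_inv_cancel] at k ⊢
  exact k

theorem r82 (hL : Lifts L F.f a b z) (h : Act F Φ r a b z) (hc : Co F Φ (a ^ 2) r c w1 0) :
    ((((b ^ 2)⁻¹ * a * (b ^ 2)) * z) ^ 3) * (a ^ 2) = 1 := by
  have k := rel' hL h hc [3, 3, 0, 2, 2, 6, 3, 3, 0, 2, 2, 6, 3, 3, 0, 2, 2, 6, 0, 0]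
    (by decide +kernel) (by decide +kernel)
  simp only [ev, lt, List.map_cons, List.map_nil, List.prod_cons, List.prod_nil, mul_one, one_mul, pow_succ, pow_zero,
    mul_inv_rev, inv_inv, mul_assoc, inv_mul_cancel_left, mul_inv_cancel_left, inv_mul_cancel, mul_inv_cancel] at k ⊢
  exact k

/-- `[c₁, c₂]` is a power of `f` -/
theorem c5_eq (hL : Lifts L F.f a b z) (h : Act F Φ r a b z) (hc : Co F Φ (a ^ 2) r c w1 0) :
    c⁻¹ * (a⁻¹ * c * a)⁻¹ * c * (a⁻¹ * c * a) = F.f ^ (r * 4).val := by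
  obtain ⟨x, hx, he⟩ := h.ev_eq hc [5, 1, 5, 0, 4, 1, 4, 0]
  have h1 : ev a b 1 z [5, 1, 5, 0, 4, 1, 4, 0] = 1 := by simp [ev, lt]
  have h2 : run [5, 1, 5, 0, 4, 1, 4, 0] = (0, 4) := by decide +kernel
  have h3 : ev a b c z [5, 1, 5, 0, 4, 1, 4, 0] = c⁻¹ * (a⁻¹ * c * a)⁻¹ * c * (a⁻¹ * c * a) := by
    simp [ev, lt, mul_assoc]
  rw [h2] at hx
  rw [h1, mul_one, h3] at he
  rw [he]
  exact hx.ext h.H (Co.f_pow h.H _ 4 (ZMod.natCast_zmod_val _))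

theorem rel28 (hL : Lifts L F.f a b z) (h : Act F Φ r a b z) (hc : Co F Φ (a ^ 2) r c w1 0) :
    Rel28 a b c (a⁻¹ * c * a) (b⁻¹ * c * b) ((b⁻¹)⁻¹ * c * (b⁻¹)) (c⁻¹ * (a⁻¹ * c * a)⁻¹ * c * (a⁻¹ * c * a)) where
  r1 := r1 hL h hc
  r2 := r2 hL h hc
  r3 := r3 hL h hc
  r4 := r4 hL h hc
  r5 := r5 hL h hc
  r7 := mul_inv_cancel _
  r8 := mul_inv_cancel _
  r9 := mul_inv_cancel _
  r10 := mul_inv_cancel _
  r11 := r11 hL h hc
  r12 := r12 hL h hc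
  r13 := r13 hL h hc
  r14 := r14 hL h hc
  r15 := r15 hL h hc
  r16 := r16 hL h hc
  r17 := r17 hL h hc
  r18 := r18 hL h hc
  r19 := r19 hL h hc
  r20 := r20 hL h hc
  r21 := r21 hL h hc
  r22 := r22 hL h hc
  r23 := r23 hL h hc
  r24 := r24 hL h hc
  r25 := r25 hL h hc
  r26 := r26 hL h hc
  r27 := r27 hL h hc
  r28 := r28 hL h hc

end relations

/-! ### Change of the labels and of `f` -/

theorem conj_of_gen {g f x : G} (hg : zpowers g = zpowers f) (hx : x * g * x⁻¹ ∈ zpowers g) :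
    x * f * x⁻¹ ∈ zpowers f := by
  have h1 : f ∈ zpowers g := by rw [hg]; exact mem_zpowers f
  obtain ⟨k, rfl⟩ := mem_zpowers_iff.1 h1
  rw [← conj_zpow, ← hg]
  exact zpow_mem hx k

/-- another generator of `⟨f⟩`, another labelling -/
def newF (F : LyFive L) (τ : Fin 11 ≃ Fin 11) (g : G) (hg : zpowers g = zpowers F.f) (hgt : g * L.t = L.t * g)
    (hc : ((relabel L τ).K.π ⟨g, L.mem_iff.2 hgt⟩).cycleType = {5}) : LyFive (relabel L τ) where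
  f := g
  f_comm := hgt
  f_pow := F.pow_E g (zpowers_le_E F (hg ▸ mem_zpowers g))
  f_cycle := hc
  E := F.E
  card_E := F.card_E
  pow_E := F.pow_E
  f_mem := zpowers_le_E F (hg ▸ mem_zpowers g)
  f_central e he := commute_of_mem F (hg ▸ mem_zpowers g) he
  cent_t e he h := by rw [hg]; exact F.cent_t e he h
  inv_t e he := by rw [hg]; exact F.inv_t e he
  comm_E e he e' he' := by rw [hg]; exact F.comm_E e he e' he'
  center_E e he h := by rw [hg]; exact F.center_E e he h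
  norm_f x hx := F.norm_f x (conj_of_gen hg hx)
  norm_E x hx := F.norm_E x (conj_of_gen hg hx)
  three x hx hx3 hxc hxg := by
    rw [hg]
    refine F.three x hx hx3 ?_ ?_
    · rw [← hxc]
      exact (Perm.cycleType_conj (σ := L.K.π ⟨x, L.mem_iff.2 hx⟩) (τ := τ)).symm
    · have h1 : F.f ∈ zpowers g := hg ▸ mem_zpowers F.f
      obtain ⟨k, hk⟩ := mem_zpowers_iff.1 h1
      rw [← hk]
      exact (Commute.zpow_right (show Commute x g from hxg) k)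

theorem pf_cycleType : pf.cycleType = {5} := by
  have h : pf.IsCycle := by
    refine ⟨5, by decide, ?_⟩
    intro y hy
    have h : ∀ y : Fin 11, pf y ≠ y → ∃ i : Fin 5, (pf ^ (i : ℕ)) 5 = y := by decide
    obtain ⟨i, hi⟩ := h y hy
    exact ⟨(i : ℕ), by rw [zpow_natCast]; exact hi⟩
  rw [h.cycleType, show pf.support.card = 5 by decide]

/-- relabelling of the support of `f` -/
def tau : ℕ → Perm (Fin 11)
  | 2 => swap 6 8 * swap 8 9 * swap 9 7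
  | 3 => (swap 6 8 * swap 8 9 * swap 9 7) ^ 3
  | 4 => (swap 6 8 * swap 8 9 * swap 9 7) ^ 2
  | _ => 1

theorem tau_spec : ∀ j : ZMod 5, j ≠ 0 → tau j.val * pf ^ j.val * (tau j.val)⁻¹ = pf ∧
    tau j.val * pa * (tau j.val)⁻¹ = pa ∧ tau j.val * pb * (tau j.val)⁻¹ = pb ∧
    tau j.val * pz * (tau j.val)⁻¹ = pz := by decide +kernel

/-- The elements `a`, `b`, `c`, `z`. -/
structure NGen {G : Type*} [Group G] {L : LyType G} (F : LyFive L) (a b c z : G) : Prop where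
  ca : a * L.t = L.t * a
  cb : b * L.t = L.t * b
  cz : z * L.t = L.t * z
  πa : L.K.π ⟨a, L.mem_iff.2 ca⟩ = swap 0 1 * swap 6 8 * swap 8 9 * swap 9 7
  πb : L.K.π ⟨b, L.mem_iff.2 cb⟩ = swap 0 1 * swap 1 2 * swap 2 3 * swap 3 4
  πz : L.K.π ⟨z, L.mem_iff.2 cz⟩ = swap 4 10 * swap 6 8 * swap 8 9 * swap 9 7
  πf : L.K.π ⟨F.f, L.mem_iff.2 F.f_comm⟩ = swap 5 6 * swap 6 7 * swap 7 8 * swap 8 9
  a4 : a ^ 4 = L.t
  cE : c ∈ F.E
  rel28 : Rel28 a b c (a⁻¹ * c * a) (b⁻¹ * c * b) ((b⁻¹)⁻¹ * c * (b⁻¹)) F.f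
  r73 : ∀ d, (z⁻¹ * c * z) * ((x162 a b c d)⁻¹) = 1
  r74 : ∀ d, (z⁻¹ * (a⁻¹ * c * a) * z) * ((x163 a b c d)⁻¹) = 1
  r75 : ∀ d, (z⁻¹ * (b⁻¹ * c * b) * z) * ((x164 a b c d)⁻¹) = 1
  r76 : ∀ d, (z⁻¹ * ((b⁻¹)⁻¹ * c * (b⁻¹)) * z) * ((x165 a b c d)⁻¹) = 1
  r77 : ∀ d, (z⁻¹ * F.f * z) * ((x166 a b c d)⁻¹) = 1
  r78 : ∀ d, (z⁻¹ * a * z) * ((x167 a b c d)⁻¹) = 1
  r79 : ∀ d, (z⁻¹ * ((b⁻¹)⁻¹ * a * (b⁻¹)) * z) * ((x168 a b c d)⁻¹) = 1
  r80 : ∀ d, (z⁻¹ * (((b ^ 2)⁻¹)⁻¹ * a * ((b ^ 2)⁻¹)) * z) * ((x169 a b c d)⁻¹) = 1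
  r81 : (z ^ 2) * ((a ^ 2)⁻¹) = 1
  r82 : ((((b ^ 2)⁻¹ * a * (b ^ 2)) * z) ^ 3) * (a ^ 2) = 1
  af : a * F.f * a⁻¹ = F.f ^ 3
  bf : b * F.f * b⁻¹ = F.f
  zf : z * F.f * z⁻¹ = F.f ^ 3

theorem exists_nGen_of_pf (hπ : L.K.π ⟨F.f, L.mem_iff.2 F.f_comm⟩ = pf) :
    ∃ (L' : LyType G) (F' : LyFive L') (a b c z : G), L'.t = L.t ∧ F'.E = F.E ∧ zpowers F'.f = zpowers F.f ∧
      NGen F' a b c z := by
  obtain ⟨a, b, z, Φ, r, hL, h⟩ := exists_act hπ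
  obtain ⟨c, hc⟩ := Co.exists (Φ := Φ) (r := r) h.H h.r0 w1 0
  have h5 := c5_eq hL h hc
  have hj : (r * 4 : ZMod 5) ≠ 0 := mul_ne_zero h.r0 (by decide)
  obtain ⟨t1, t2, t3, t4⟩ := tau_spec (r * 4) hj
  set j := (r * 4).val with hjdef
  have hj5 : ¬ 5 ∣ j := by
    intro hd
    have h1 : j < 5 := ZMod.val_lt _
    have h2 : j = 0 := Nat.eq_zero_of_dvd_of_lt hd h1
    exact hj ((ZMod.val_eq_zero _).1 h2)
  have hz : zpowers (F.f ^ j) = zpowers F.f := by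
    apply le_antisymm
    · exact zpowers_le.2 (pow_mem (mem_zpowers _) _)
    · rw [zpowers_le]
      have hcop : Nat.Coprime (orderOf F.f) j := by
        rw [orderOf_f]; exact (Nat.Prime.coprime_iff_not_dvd (by norm_num)).2 hj5
      obtain ⟨m, hm⟩ := exists_pow_eq_self_of_coprime hcop.symm
      exact mem_zpowers_iff.2 ⟨m, by rw [zpow_natCast]; exact hm⟩
  have hgt : F.f ^ j * L.t = L.t * F.f ^ j := (Commute.pow_left (show Commute F.f L.t from F.f_comm) j)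
  have hπj : (relabel L (tau j)).K.π ⟨F.f ^ j, L.mem_iff.2 hgt⟩ = pf := by
    have e : L.K.π ⟨F.f ^ j, L.mem_iff.2 hgt⟩ = pf ^ j := by
      rw [← hπ, ← map_pow]; rfl
    show tau j * L.K.π ⟨F.f ^ j, L.mem_iff.2 hgt⟩ * (tau j)⁻¹ = pf
    rw [e]; exact t1
  have hcj : ∀ g : G, g * F.f * g⁻¹ = F.f ^ 3 → g * F.f ^ j * g⁻¹ = (F.f ^ j) ^ 3 := by
    intro g hg
    rw [← conj_pow, hg, ← pow_mul, ← pow_mul, mul_comm]
  refine ⟨relabel L (tau j), newF F (tau j) (F.f ^ j) hz hgt (by rw [hπj]; exact pf_cycleType), a, b, c, z, rfl, rfl,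
    hz, ?_⟩
  have h28 := rel28 hL h hc
  rw [h5] at h28
  refine ⟨hL.ca, hL.cb, hL.cz, ?_, ?_, ?_, hπj, hL.a4, hc.mem, h28, fun _ => r73 hL h hc, fun _ => r74 hL h hc,
    fun _ => r75 hL h hc, fun _ => r76 hL h hc, fun _ => ?_, fun _ => r78 hL h hc, fun _ => r79 hL h hc,
    fun _ => r80 hL h hc, r81 hL h hc, r82 hL h hc, hcj a hL.af, ?_, hcj z hL.zf⟩
  · show tau j * L.K.π ⟨a, L.mem_iff.2 hL.ca⟩ * (tau j)⁻¹ = pa
    rw [hL.πa]; exact t2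
  · show tau j * L.K.π ⟨b, L.mem_iff.2 hL.cb⟩ * (tau j)⁻¹ = pb
    rw [hL.πb]; exact t3
  · show tau j * L.K.π ⟨z, L.mem_iff.2 hL.cz⟩ * (tau j)⁻¹ = pz
    rw [hL.πz]; exact t4
  · have := r77 hL h hc
    rw [h5] at this
    exact this
  · show b * F.f ^ j * b⁻¹ = F.f ^ j
    have h1 := hL.bf
    rw [pow_one] at h1
    rw [← conj_pow, h1]

/-- **The elements `a`, `b`, `c`, `z` with relators 1–28 and 73–82.** -/
theorem exists_nGen (F : LyFive L) :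
    ∃ (L' : LyType G) (F' : LyFive L') (a b c z : G), L'.t = L.t ∧ F'.E = F.E ∧ zpowers F'.f = zpowers F.f ∧
      NGen F' a b c z := by
  have h1 : IsConj (L.K.π ⟨F.f, L.mem_iff.2 F.f_comm⟩) pf := by
    rw [Perm.isConj_iff_cycleType_eq, F.f_cycle, pf_cycleType]
  obtain ⟨τ, hτ⟩ := isConj_iff.1 h1
  have hπ : (relabel L τ).K.π ⟨F.f, L.mem_iff.2 F.f_comm⟩ = pf := hτ
  obtain ⟨L', F', a, b, c, z, h2, h3, h4, h5⟩ :=
    exists_nGen_of_pf (F := newF F τ F.f rfl F.f_comm (by rw [hπ]; exact pf_cycleType)) hπ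
  exact ⟨L', F', a, b, c, z, h2, h3, h4, h5⟩

end Cfsg.Agent.R10.NGenMain
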