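import Mathlib

/-!
# The natural module of `5^{1+4} : 4 S_6` as a module for `GL_2(5)`

`Ops A B H` : the operators of the generators `a`, `b` of `GL_2(5)` (and of a torus element `h`)
on an `F_5`-space.  If the space has dimension four, carries an invariant symplectic form with the
right multipliers and the commutator `[a, b]` (a 3-cycle) has a two-dimensional fixed space, then
the space is isomorphic to an explicit module.
-/

set_option autoImplicit false

namespace Cfsg.Agent.R10.NGenMod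

open Module

variable {W : Type*} [AddCommGroup W] [Module (ZMod 5) W]

instance fact5 : Fact (Nat.Prime 5) := ⟨by norm_num⟩

theorem five_smul (w : W) : (5 : ℕ) • w = 0 := by
  have h := Nat.cast_smul_eq_nsmul (ZMod 5) 5 w
  rw [← h]
  have : ((5 : ℕ) : ZMod 5) = 0 := by decide
  rw [this, zero_smul]

/-- relations of the operators -/
structure Ops (A B H : End (ZMod 5) W) : Prop where
  B5 : B ^ 5 = 1
  A4 : A ^ 4 = -1
  H4 : H ^ 4 = 1
  A2B : A ^ 2 * B = B * A ^ 2
  A2H : A ^ 2 * H = H * A ^ 2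
  HB : H * B = B ^ 2 * H
  r1 : A * B * A = B ^ 2 * A * H * B ^ 2
  r2 : A * B ^ 2 * A = B * A * H ^ 3 * A ^ 2 * B
  r3 : A * B ^ 3 * A = -(B ^ 4 * A * H ^ 3 * A ^ 2 * B ^ 4)
  r4 : A * B ^ 4 * A = -(B ^ 3 * A * H * B ^ 3)

theorem sub_one_pow_five {B : End (ZMod 5) W} (h : B ^ 5 = 1) : (B - 1) ^ 5 = 0 := by
  have hc : CharP (End (ZMod 5) W) 5 ∨ Subsingleton (End (ZMod 5) W) := by
    by_cases hs : Subsingleton W
    · right
      exact ⟨fun f g => LinearMap.ext fun w => Subsingleton.elim _ _⟩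
    · left
      have : Nontrivial W := not_subsingleton_iff_nontrivial.1 hs
      exact charP_of_injective_algebraMap (algebraMap (ZMod 5) (End (ZMod 5) W)).injective 5
  rcases hc with hc | hc
  · rw [sub_pow_char_of_commute (R := End (ZMod 5) W) 5 (Commute.one_right B), h, one_pow, sub_self]
  · exact Subsingleton.elim _ _

theorem sub_one_pow_four {B : End (ZMod 5) W} (h : B ^ 5 = 1) (hd : finrank (ZMod 5) W = 4) :
    (B - 1) ^ 4 = 0 := by
  have : Module.Finite (ZMod 5) W := Module.finite_of_finrank_eq_succ hd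
  have hn : IsNilpotent (B - 1) := ⟨5, sub_one_pow_five h⟩
  have h1 := IsNilpotent.charpoly_eq_X_pow_finrank hn
  have h2 := LinearMap.aeval_self_charpoly (B - 1)
  rw [h1, hd, map_pow, Polynomial.aeval_X] at h2
  exact h2

theorem exists_ker (N : End (ZMod 5) W) : ∀ (k : ℕ), N ^ k = 0 → ∀ w : W, w ≠ 0 →
    ∃ v : W, v ≠ 0 ∧ N v = 0 := by
  intro k
  induction k with
  | zero =>
    intro h w hw
    exfalso
    apply hw
    have := congrArg (fun f : End (ZMod 5) W => f w) h
    simpa using this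
  | succ k ih =>
    intro h w hw
    by_cases h1 : N w = 0
    · exact ⟨w, hw, h1⟩
    · by_cases h2 : N ^ k = 0
      · exact ih h2 w hw
      · obtain ⟨u, hu⟩ : ∃ u, (N ^ k) u ≠ 0 := by
          by_contra hcon
          push Not at hcon
          exact h2 (LinearMap.ext hcon)
        refine ⟨(N ^ k) u, hu, ?_⟩
        have := congrArg (fun f : End (ZMod 5) W => f u) h
        rw [pow_succ'] at this
        exact this

theorem exists_eig (P : Submodule (ZMod 5) W) (T : End (ZMod 5) W) (hT : ∀ v ∈ P, T v ∈ P)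
    (h4 : T ^ 4 = 1) {v : W} (hv : v ∈ P) (hv0 : v ≠ 0) :
    ∃ w ∈ P, w ≠ 0 ∧ ∃ l : ZMod 5, T w = l • w := by
  have hpoly : (T - algebraMap _ _ (1 : ZMod 5)) * ((T - algebraMap _ _ (2 : ZMod 5)) *
      ((T - algebraMap _ _ (3 : ZMod 5)) * (T - algebraMap _ _ (4 : ZMod 5)))) = 0 := by
    have h1 : (Polynomial.X - Polynomial.C (1 : ZMod 5)) * ((Polynomial.X - Polynomial.C 2) *
        ((Polynomial.X - Polynomial.C 3) * (Polynomial.X - Polynomial.C 4))) =
        Polynomial.X ^ 4 - 1 := by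
      have e : (Polynomial.C (5 : ZMod 5)) = 0 := by
        have : (5 : ZMod 5) = 0 := by decide
        rw [this, map_zero]
      have c1 : Polynomial.C (1 : ZMod 5) = 1 := map_one _
      have c2 : Polynomial.C (2 : ZMod 5) = 2 := map_ofNat _ 2
      have c3 : Polynomial.C (3 : ZMod 5) = 3 := map_ofNat _ 3
      have c4 : Polynomial.C (4 : ZMod 5) = 4 := map_ofNat _ 4
      have c5 : Polynomial.C (5 : ZMod 5) = 5 := map_ofNat _ 5
      rw [c5] at e
      rw [c1, c2, c3, c4]
      linear_combination (-2 * Polynomial.X ^ 3 + 7 * Polynomial.X ^ 2 - 10 * Polynomial.X + 5) * e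
    have h2 := congrArg (Polynomial.aeval T) h1
    simp only [map_mul, map_sub, Polynomial.aeval_X, Polynomial.aeval_C, map_pow, map_one] at h2
    rw [h4, sub_self] at h2
    simpa using h2
  have happ : ∀ (l : ZMod 5) (w : W), (T - algebraMap (ZMod 5) (End (ZMod 5) W) l) w = T w - l • w := by
    intro l w
    rw [LinearMap.sub_apply, Module.algebraMap_end_apply]
  have hmem : ∀ (l : ZMod 5) (w : W), w ∈ P → T w - l • w ∈ P := fun l w hw =>
    P.sub_mem (hT w hw) (P.smul_mem l hw)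
  have key := congrArg (fun f : End (ZMod 5) W => f v) hpoly
  simp only [Module.End.mul_apply, happ, LinearMap.zero_apply] at key
  by_cases e4 : T v - (4 : ZMod 5) • v = 0
  · exact ⟨v, hv, hv0, 4, sub_eq_zero.1 e4⟩
  have m4 := hmem 4 v hv
  set v1 := T v - (4 : ZMod 5) • v with hv1
  by_cases e3 : T v1 - (3 : ZMod 5) • v1 = 0
  · exact ⟨v1, m4, e4, 3, sub_eq_zero.1 e3⟩
  have m3 := hmem 3 v1 m4
  set v2 := T v1 - (3 : ZMod 5) • v1 with hv2
  by_cases e2 : T v2 - (2 : ZMod 5) • v2 = 0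
  · exact ⟨v2, m3, e3, 2, sub_eq_zero.1 e2⟩
  have m2 := hmem 2 v2 m3
  set v3 := T v2 - (2 : ZMod 5) • v2 with hv3
  refine ⟨v3, m2, e2, 1, sub_eq_zero.1 ?_⟩
  convert key using 1

/-- a common eigenvector of `B`, `A ^ 2` and `H` -/
theorem Ops.exists_vec {A B H : End (ZMod 5) W} (h : Ops A B H) {w : W} (hw : w ≠ 0) :
    ∃ v : W, v ≠ 0 ∧ B v = v ∧ ∃ m l : ZMod 5, (A ^ 2) v = m • v ∧ H v = l • v := by
  obtain ⟨v0, h0, hB0⟩ := exists_ker (B - 1) 5 (sub_one_pow_five h.B5) w hw
  have hB0' : B v0 = v0 := by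
    rw [LinearMap.sub_apply, Module.End.one_apply, sub_eq_zero] at hB0
    exact hB0
  let P : Submodule (ZMod 5) W := LinearMap.ker (B - 1)
  have hP : ∀ v, v ∈ P ↔ B v = v := by
    intro v
    rw [LinearMap.mem_ker, LinearMap.sub_apply, Module.End.one_apply, sub_eq_zero]
  have hAP : ∀ v ∈ P, (A ^ 2) v ∈ P := by
    intro v hv
    rw [hP] at hv ⊢
    have := congrArg (fun f : End (ZMod 5) W => f v) h.A2B
    simp only [Module.End.mul_apply] at this
    rw [hv] at this
    exact this.symm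
  have hA8 : (A ^ 2) ^ 4 = 1 := by
    rw [← pow_mul, show 2 * 4 = 4 * 2 from rfl, pow_mul, h.A4, neg_one_sq]
  obtain ⟨v1, hv1, hv10, m, hm⟩ := exists_eig P (A ^ 2) hAP hA8 ((hP v0).2 hB0') h0
  let Q : Submodule (ZMod 5) W :=
    P ⊓ LinearMap.ker (A ^ 2 - algebraMap (ZMod 5) (End (ZMod 5) W) m)
  have hQ : ∀ v, v ∈ Q ↔ B v = v ∧ (A ^ 2) v = m • v := by
    intro v
    rw [Submodule.mem_inf, hP, LinearMap.mem_ker, LinearMap.sub_apply,
      Module.algebraMap_end_apply, sub_eq_zero]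
  have hHQ : ∀ v ∈ Q, H v ∈ Q := by
    intro v hv
    rw [hQ] at hv ⊢
    obtain ⟨hv1, hv2⟩ := hv
    constructor
    · have h1 := congrArg (fun f : End (ZMod 5) W => f v) h.HB
      simp only [Module.End.mul_apply] at h1
      rw [hv1] at h1
      have h2 : (B ^ 2) (H v) = H v := h1.symm
      have h3 : (B ^ 6) (H v) = H v := by
        rw [show B ^ 6 = B ^ 2 * (B ^ 2 * B ^ 2) by rw [← pow_add, ← pow_add]]
        rw [Module.End.mul_apply, Module.End.mul_apply, h2, h2, h2]
      rw [pow_succ, h.B5, one_mul] at h3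
      exact h3
    · have h1 := congrArg (fun f : End (ZMod 5) W => f v) h.A2H
      simp only [Module.End.mul_apply] at h1
      rw [h1, hv2, map_smul]
  obtain ⟨v2, hv2, hv20, l, hl⟩ := exists_eig Q H hHQ h.H4 ((hQ v1).2 ⟨(hP v1).1 hv1, hm⟩) hv10
  obtain ⟨h5, h6⟩ := (hQ v2).1 hv2
  exact ⟨v2, hv20, h5, m, l, h6, hl⟩

/-- the vectors `e_i` -/
structure Vecs (A B : End (ZMod 5) W) (m l : ZMod 5) (v e0 e1 e2 e3 e4 : W) : Prop where
  v0 : v ≠ 0
  Bv : B v = v
  B0 : B e0 = e1
  B1 : B e1 = e2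
  B2 : B e2 = e3
  B3 : B e3 = e4
  B4 : B e4 = e0
  Av : A v = e0
  A0 : A e0 = m • v
  A1 : A e1 = l • e2
  A2 : A e2 = (l ^ 3 * m) • e1
  A3 : A e3 = -((l ^ 3 * m) • e4)
  A4 : A e4 = -(l • e3)
  m2 : m ^ 2 = -1
  l4 : l ^ 4 = 1

theorem smul_inj {a b : ZMod 5} {v : W} (hv : v ≠ 0) (h : a • v = b • v) : a = b := by
  have h1 : (a - b) • v = 0 := by rw [sub_smul, h, sub_self]
  rcases smul_eq_zero.1 h1 with h2 | h2
  · exact sub_eq_zero.1 h2
  · exact absurd h2 hv

theorem Ops.vecs {A B H : End (ZMod 5) W} (h : Ops A B H) {v : W} (hv : v ≠ 0) (hB : B v = v)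
    {m l : ZMod 5} (hm : (A ^ 2) v = m • v) (hl : H v = l • v) :
    Vecs A B m l v (A v) (B (A v)) (B (B (A v))) (B (B (B (A v)))) (B (B (B (B (A v))))) := by
  have hBk : ∀ k : ℕ, (B ^ k) v = v := by
    intro k
    induction k with
    | zero => rfl
    | succ k ih => rw [pow_succ, Module.End.mul_apply, hB, ih]
  have hH3 : (H ^ 3) v = (l ^ 3) • v := by
    rw [pow_succ, pow_succ, pow_one, Module.End.mul_apply, Module.End.mul_apply, hl, map_smul,
      map_smul, hl, map_smul, hl, smul_smul, smul_smul]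
    congr 1
    ring
  have hH4 : (H ^ 4) v = (l ^ 4) • v := by
    rw [pow_succ, Module.End.mul_apply, hl, map_smul, hH3, smul_smul]
    congr 1
    ring
  have hl4 : l ^ 4 = 1 := by
    rw [h.H4] at hH4
    refine smul_inj hv ?_
    rw [← hH4, one_smul]; rfl
  have hm2 : m ^ 2 = -1 := by
    have h1 : (A ^ 4) v = (m ^ 2) • v := by
      rw [show A ^ 4 = A ^ 2 * A ^ 2 by rw [← pow_add], Module.End.mul_apply, hm, map_smul, hm,
        smul_smul]
      congr 1
      ring
    rw [h.A4] at h1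
    refine smul_inj hv ?_
    rw [← h1, neg_smul, one_smul]; rfl
  have hB5 : ∀ w, B (B (B (B (B w)))) = w := by
    intro w
    have := congrArg (fun f : End (ZMod 5) W => f w) h.B5
    simpa only [pow_succ, pow_zero, one_mul, Module.End.mul_apply, Module.End.one_apply] using this
  have a1 := congrArg (fun f : End (ZMod 5) W => f v) h.r1
  have a2 := congrArg (fun f : End (ZMod 5) W => f v) h.r2
  have a3 := congrArg (fun f : End (ZMod 5) W => f v) h.r3
  have a4 := congrArg (fun f : End (ZMod 5) W => f v) h.r4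
  have hA2 : A (A v) = m • v := by
    rw [← hm, pow_two]; rfl
  refine ⟨hv, hB, rfl, rfl, rfl, rfl, hB5 _, rfl, hA2, ?_, ?_, ?_, ?_, hm2, hl4⟩
  · simp only [Module.End.mul_apply, hBk, hl, map_smul] at a1
    rw [a1, pow_two]; rfl
  · simp only [Module.End.mul_apply, hB, hm, hH3, map_smul] at a2
    simp only [pow_two, Module.End.mul_apply] at a2
    rw [a2, smul_smul, mul_comm]
  · simp only [Module.End.mul_apply, hBk, hm, hH3, map_smul, LinearMap.neg_apply] at a3
    simp only [pow_succ, pow_zero, one_mul, Module.End.mul_apply] at a3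
    rw [a3, smul_smul]
    congr 2
    ring
  · simp only [Module.End.mul_apply, hBk, hl, map_smul, LinearMap.neg_apply] at a4
    simp only [pow_succ, pow_zero, one_mul, Module.End.mul_apply] at a4
    rw [a4]

theorem Ops.sum_eq {A B H : End (ZMod 5) W} (h : Ops A B H) (hd : finrank (ZMod 5) W = 4) (w : W) :
    w + B w + B (B w) + B (B (B w)) + B (B (B (B w))) = 0 := by
  have h1 := sub_one_pow_four h.B5 hd
  have h2 : (B - 1) ^ 4 = 1 + B + B ^ 2 + B ^ 3 + B ^ 4 := by
    have e : (B - 1) ^ 4 = (1 + B + B ^ 2 + B ^ 3 + B ^ 4) + (5 : ℕ) • (B ^ 2 - B - B ^ 3) := by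
      noncomm_ring
    have h5 : (5 : ℕ) • (B ^ 2 - B - B ^ 3) = 0 := by
      refine LinearMap.ext fun w => ?_
      rw [LinearMap.smul_apply, five_smul]; rfl
    rw [e, h5, add_zero]
  rw [h2] at h1
  have h3 := congrArg (fun f : End (ZMod 5) W => f w) h1
  simp only [LinearMap.add_apply, Module.End.one_apply, pow_succ, pow_zero, one_mul,
    Module.End.mul_apply, LinearMap.zero_apply] at h3
  exact h3

end Cfsg.Agent.R10.NGenMod
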