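import Cfsg.Agent.R10.NGenMod

/-!
# The natural module, second part: the explicit form
-/

set_option autoImplicit false

namespace Cfsg.Agent.R10.NGenMod

open Module

variable {W : Type*} [AddCommGroup W] [Module (ZMod 5) W]

theorem mul_four (w : W) : (4 : ZMod 5) • w = -w := by
  rw [show (4 : ZMod 5) = -1 by decide, neg_smul, one_smul]

/-- applying `A` to the relation `∑ e_i = 0` -/
theorem Vecs.rel {A B : End (ZMod 5) W} {m l : ZMod 5} {v e0 e1 e2 e3 e4 : W}
    (h : Vecs A B m l v e0 e1 e2 e3 e4) (hs : e0 + e1 + e2 + e3 + e4 = 0) :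
    m • v + l • e2 + (l ^ 3 * m) • e1 - (l ^ 3 * m) • e4 - l • e3 = 0 := by
  have h1 := congrArg A hs
  rw [map_add, map_add, map_add, map_add, h.A0, h.A1, h.A2, h.A3, h.A4, map_zero] at h1
  rw [← h1]
  abel

/-- the two cases -/
theorem Vecs.cases {A B : End (ZMod 5) W} {m l : ZMod 5} {v e0 e1 e2 e3 e4 : W}
    (h : Vecs A B m l v e0 e1 e2 e3 e4) (hs : e0 + e1 + e2 + e3 + e4 = 0) :
    (l ^ 2 * m = 3) ∨ (l ^ 2 * m = 2 ∧ e2 + e4 = (2 : ZMod 5) • e3) := by
  have h1 := h.rel hs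
  have h2 := congrArg B h1
  simp only [map_add, map_sub, map_smul, h.Bv, h.B1, h.B2, h.B3, h.B4, map_zero] at h2
  have h3 : (2 * l + l ^ 3 * m) • e3 + (-l + 2 * (l ^ 3 * m)) • (e4 + e2) = 0 := by
    linear_combination (norm := module) h2 - h1 + (l ^ 3 * m) • hs
  have hl0 : l ≠ 0 := by
    intro h0
    have := h.l4
    rw [h0] at this
    exact absurd this (by decide)
  have hs2 : (l ^ 2 * m) ^ 2 = -1 := by
    have : (l ^ 2 * m) ^ 2 = l ^ 4 * m ^ 2 := by ring
    rw [this, h.l4, h.m2, one_mul]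
  have h23 : ∀ s : ZMod 5, s ^ 2 = -1 → s = 3 ∨ s = 2 := by decide
  rcases h23 _ hs2 with h4 | h4
  · exact Or.inl h4
  · right
    refine ⟨h4, ?_⟩
    have h5 : l • ((4 : ZMod 5) • e3 + (3 : ZMod 5) • (e4 + e2)) = 0 := by
      rw [← h3, smul_add, smul_smul, smul_smul]
      have c1 : l * 4 = 2 * l + l ^ 3 * m := by
        have : l ^ 3 * m = l * (l ^ 2 * m) := by ring
        rw [this, h4]; ring
      have c2 : l * 3 = -l + 2 * (l ^ 3 * m) := by
        have : l ^ 3 * m = l * (l ^ 2 * m) := by ring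
        rw [this, h4]; ring
      rw [c1, c2]
    have h6 : (4 : ZMod 5) • e3 + (3 : ZMod 5) • (e4 + e2) = 0 := by
      rcases smul_eq_zero.1 h5 with h7 | h7
      · exact absurd h7 hl0
      · exact h7
    have h7 : (2 : ZMod 5) • ((4 : ZMod 5) • e3 + (3 : ZMod 5) • (e4 + e2)) = 0 := by
      rw [h6, smul_zero]
    rw [smul_add, smul_smul, smul_smul, show (2 : ZMod 5) * 4 = 3 by decide,
      show (2 : ZMod 5) * 3 = 1 by decide, one_smul] at h7
    have h8 : (2 : ZMod 5) • e3 = -((3 : ZMod 5) • e3) := by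
      rw [← neg_smul]; congr 1
    rw [h8, add_comm e2 e4, ← sub_eq_zero, sub_neg_eq_add, add_comm]
    exact h7

/-- the operator of the 3-cycle `[a, b]` -/
def cyc3 (A B : End (ZMod 5) W) : End (ZMod 5) W := A ^ 7 * B ^ 4 * A * B

theorem Ops.A7 {A B H : End (ZMod 5) W} (h : Ops A B H) (w : W) : (A ^ 7) (A w) = w := by
  have h1 : A ^ 7 * A = 1 := by
    rw [← pow_succ, show 7 + 1 = 4 * 2 from rfl, pow_mul, h.A4, neg_one_sq]
  have := congrArg (fun f : End (ZMod 5) W => f w) h1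
  exact this

theorem Ops.B4' {A B H : End (ZMod 5) W} (h : Ops A B H) (w : W) : (B ^ 4) (B w) = w := by
  have h1 : B ^ 4 * B = 1 := by rw [← pow_succ, h.B5]
  have := congrArg (fun f : End (ZMod 5) W => f w) h1
  exact this

/-- a two-dimensional invariant subspace on which the 3-cycle has no fixed point is impossible -/
theorem Ops.no_plane {A B H : End (ZMod 5) W} (h : Ops A B H) (hd : finrank (ZMod 5) W = 4)
    (hX : finrank (ZMod 5) (LinearMap.ker (cyc3 A B - 1)) = 2)
    (hXY : (cyc3 A B * (B * cyc3 A B * B ^ 4)) ^ 2 = -1)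
    (P : Submodule (ZMod 5) W) (hP : finrank (ZMod 5) P = 2) (hBP : ∀ w ∈ P, B w ∈ P)
    (hXP : ∀ w ∈ P, cyc3 A B w ∈ P)
    (h3 : ∀ w ∈ P, cyc3 A B (cyc3 A B w) + cyc3 A B w + w = 0) : False := by
  set X := cyc3 A B with hXdef
  have : Module.Finite (ZMod 5) W := Module.finite_of_finrank_eq_succ hd
  have hrk := LinearMap.finrank_range_add_finrank_ker (X - 1)
  rw [hX, hd] at hrk
  have hle : P ≤ LinearMap.range (X - 1) := by
    intro w hw
    have h4 := h3 w hw
    refine ⟨(3 : ZMod 5) • (X w + (2 : ZMod 5) • w), ?_⟩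
    rw [LinearMap.sub_apply, Module.End.one_apply, map_smul, map_add, map_smul]
    have h5 : X (X w) = -(X w) - w := by
      rw [eq_sub_iff_add_eq, eq_neg_iff_add_eq_zero, add_assoc, add_comm w, ← add_assoc]
      exact h4
    rw [h5]
    have e1 : (3 : ZMod 5) • (-(X w) - w + (2 : ZMod 5) • X w) - (3 : ZMod 5) • (X w + (2 : ZMod 5) • w)
        = (-9 : ZMod 5) • w := by module
    rw [e1, show (-9 : ZMod 5) = 1 by decide, one_smul]
  have heq : P = LinearMap.range (X - 1) :=
    Submodule.eq_of_le_of_finrank_eq hle (by omega)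
  have hmem : ∀ w, X w - w ∈ P := by
    intro w
    rw [heq]
    exact ⟨w, rfl⟩
  have hB4P : ∀ w ∈ P, (B ^ 4) w ∈ P := by
    intro w hw
    simp only [pow_succ, pow_zero, one_mul, Module.End.mul_apply]
    exact hBP _ (hBP _ (hBP _ (hBP _ hw)))
  have hBB4 : ∀ w, B ((B ^ 4) w) = w := by
    intro w
    have h1 : B * B ^ 4 = 1 := by rw [← pow_succ', h.B5]
    have := congrArg (fun f : End (ZMod 5) W => f w) h1
    exact this
  have hY : ∀ w, B (X ((B ^ 4) w)) - w ∈ P := by
    intro w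
    have h1 := hBP _ (hmem ((B ^ 4) w))
    rw [map_sub, hBB4] at h1
    exact h1
  have hXYm : ∀ w, X (B (X ((B ^ 4) w))) - w ∈ P := by
    intro w
    have h1 := hXP _ (hY w)
    rw [map_sub] at h1
    have h2 := P.add_mem h1 (hmem w)
    rw [sub_add_sub_cancel] at h2
    exact h2
  have hfin : ∀ w, w ∈ P := by
    intro w
    have h1 := congrArg (fun f : End (ZMod 5) W => f w) hXY
    simp only [pow_two, Module.End.mul_apply, LinearMap.neg_apply, Module.End.one_apply] at h1
    have h2 := hXYm (X (B (X ((B ^ 4) w))))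
    have h3 := P.add_mem h2 (hXYm w)
    rw [sub_add_sub_cancel] at h3
    rw [h1] at h3
    have h4 : (-w - w : W) = (3 : ZMod 5) • w := by
      have : (3 : ZMod 5) • w = (-2 : ZMod 5) • w := by congr 1
      rw [this]; module
    rw [h4] at h3
    have h5 := P.smul_mem (2 : ZMod 5) h3
    rw [smul_smul, show (2 : ZMod 5) * 3 = 1 by decide, one_smul] at h5
    exact h5
  have htop : P = ⊤ := eq_top_iff.2 fun w _ => hfin w
  rw [htop, finrank_top, hd] at hP
  omega


theorem zmod5_lm : ∀ m l : ZMod 5, m ^ 2 = -1 → l ^ 2 * m = 2 → (3 * l ^ 3 * m) * (3 * l ^ 3 * m) * m ^ 3 = 3 ∧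
    m * m ^ 3 = 1 ∧ l * l ^ 3 = 1 := by decide

theorem Ops.not_two {A B H : End (ZMod 5) W} (h : Ops A B H) (hd : finrank (ZMod 5) W = 4)
    (hX : finrank (ZMod 5) (LinearMap.ker (cyc3 A B - 1)) = 2)
    (hXY : (cyc3 A B * (B * cyc3 A B * B ^ 4)) ^ 2 = -1)
    {m l : ZMod 5} {v e0 e1 e2 e3 e4 : W} (hv : Vecs A B m l v e0 e1 e2 e3 e4)
    (hs : e0 + e1 + e2 + e3 + e4 = 0) : l ^ 2 * m = 3 := by
  rcases hv.cases hs with h2 | ⟨h2, h24⟩
  · exact h2
  exfalso
  obtain ⟨k1, k2, k3⟩ := zmod5_lm m l hv.m2 h2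
  have q0 := congrArg B h24
  rw [map_add, map_smul, hv.B2, hv.B3, hv.B4] at q0
  have q1 := congrArg B q0
  rw [map_add, map_smul, hv.B3, hv.B4, hv.B0] at q1
  have q2 := congrArg B q1
  rw [map_add, map_smul, hv.B4, hv.B0, hv.B1] at q2
  have q3 := congrArg B q2
  rw [map_add, map_smul, hv.B0, hv.B1, hv.B2] at q3
  have hrel := hv.rel hs
  -- `e1 = e0 + δ v`
  have hd1 : e1 = e0 + (3 * l ^ 3 * m) • v := by
    have c : l ^ 3 * m = l * (l ^ 2 * m) := by ring
    rw [h2] at c
    rw [c] at hrel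
    have e2' : e2 = (2 : ZMod 5) • e1 - e0 := by rw [← q2]; abel
    have e3' : e3 = (3 : ZMod 5) • e1 - (2 : ZMod 5) • e0 := by
      have : e3 = (2 : ZMod 5) • e2 - e1 := by rw [← q3]; abel
      rw [this, e2']; module
    have e4' : e4 = (4 : ZMod 5) • e1 - (3 : ZMod 5) • e0 := by
      have : e4 = (2 : ZMod 5) • e3 - e2 := by rw [← h24]; abel
      rw [this, e3', e2']; module
    rw [e2', e3', e4'] at hrel
    have r1 : m • v = (2 * l) • (e1 - e0) := by
      have : m • v - (7 * l) • (e1 - e0) = 0 := by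
        rw [← hrel]; module
      have e7 : (7 : ZMod 5) * l = 2 * l := by congr 1
      rw [e7] at this
      exact sub_eq_zero.1 this
    have r2 : (3 * l ^ 3 * m) • v = (6 : ZMod 5) • (e1 - e0) := by
      have : (3 * l ^ 3 * m) • v = (3 * l ^ 3) • (m • v) := by rw [smul_smul]
      rw [this, r1, smul_smul]
      congr 1
      have : 3 * l ^ 3 * (2 * l) = 6 * (l * l ^ 3) := by ring
      rw [this, k3, mul_one]
    rw [r2, show (6 : ZMod 5) = 1 by decide, one_smul]
    abel
  have he4 : e4 = e0 + (-(3 * l ^ 3 * m)) • v := by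
    have : B e4 = B (e0 + (-(3 * l ^ 3 * m)) • v) := by
      rw [hv.B4, map_add, hv.B0, map_smul, hv.Bv, hd1]; module
    have h5 := congrArg (fun w => (B ^ 4) w) this
    simp only [h.B4'] at h5
    exact h5
  set δ : ZMod 5 := 3 * l ^ 3 * m with hδ
  -- operators on the plane
  have A7e0 : (A ^ 7) e0 = v := by rw [← hv.Av]; exact h.A7 v
  have A7v : (A ^ 7) v = (m ^ 3) • e0 := by
    have h5 : (A ^ 7) (A ((m ^ 3) • e0)) = (m ^ 3) • e0 := h.A7 _
    rw [map_smul, hv.A0, smul_smul] at h5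
    rw [show m ^ 3 * m = 1 by rw [mul_comm]; exact k2, one_smul] at h5
    exact h5
  have B4e0 : (B ^ 4) e0 = e4 := by
    rw [← hv.B4]; exact h.B4' _
  have B4v : (B ^ 4) v = v := by
    have := h.B4' v
    rwa [hv.Bv] at this
  have Xv : cyc3 A B v = v - (δ * m ^ 3) • e0 := by
    simp only [cyc3, Module.End.mul_apply]
    rw [hv.Bv, hv.Av, B4e0, he4, map_add, map_smul, A7e0, A7v]
    module
  have Xe0 : cyc3 A B e0 = δ • v + (3 : ZMod 5) • e0 := by
    simp only [cyc3, Module.End.mul_apply]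
    rw [hv.B0, hd1, map_add, map_smul, hv.A0, hv.Av, map_add, map_smul, map_smul, B4v, B4e0, he4, map_add,
      map_smul, map_smul, map_add, map_smul, A7v, A7e0]
    rw [smul_smul, k2]
    have : (1 : ZMod 5) • e0 + δ • (v + -δ • m ^ 3 • e0) = δ • v + (1 - δ * δ * m ^ 3) • e0 := by module
    rw [this, k1]
    congr 1
  have hne : ∀ c : ZMod 5, e0 ≠ c • v := by
    intro c hc
    have h5 : B e0 = e0 := by rw [hc, map_smul, hv.Bv]
    rw [hv.B0, hd1] at h5
    have h6 : δ • v = 0 := by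
      have := congrArg (fun w => w - e0) h5
      simp only [add_sub_cancel_left, sub_self] at this
      exact this
    rcases smul_eq_zero.1 h6 with h7 | h7
    · rw [h7, zero_mul, zero_mul] at k1
      exact absurd k1 (by decide)
    · exact hv.v0 h7
  have hli : LinearIndependent (ZMod 5) ![v, e0] := by
    rw [LinearIndependent.pair_iff]
    intro x y hxy
    have hy : y = 0 := by
      by_contra hy
      apply hne (-(y⁻¹ * x))
      have h5 : y⁻¹ • (x • v + y • e0) = 0 := by rw [hxy, smul_zero]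
      rw [smul_add, smul_smul, smul_smul, inv_mul_cancel₀ hy, one_smul] at h5
      rw [neg_smul, eq_neg_iff_add_eq_zero, add_comm]
      exact h5
    rw [hy, zero_smul, add_zero] at hxy
    rcases smul_eq_zero.1 hxy with h7 | h7
    · exact ⟨h7, hy⟩
    · exact absurd h7 hv.v0
  let P : Submodule (ZMod 5) W := Submodule.span (ZMod 5) (Set.range ![v, e0])
  have hP : finrank (ZMod 5) P = 2 := by
    have := finrank_span_eq_card hli
    simpa using this
  have hmem : ∀ w, w ∈ P ↔ ∃ x y : ZMod 5, w = x • v + y • e0 := by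
    intro w
    have : P = Submodule.span (ZMod 5) {v, e0} := by
      simp only [P, Matrix.range_cons, Matrix.range_empty, Set.union_empty, Set.singleton_union]
    rw [this, Submodule.mem_span_pair]
    constructor
    · rintro ⟨x, y, hxy⟩; exact ⟨x, y, hxy.symm⟩
    · rintro ⟨x, y, hxy⟩; exact ⟨x, y, hxy.symm⟩
  refine h.no_plane hd hX hXY P hP ?_ ?_ ?_
  · intro w hw
    obtain ⟨x, y, rfl⟩ := (hmem w).1 hw
    rw [hmem]
    refine ⟨x + y * δ, y, ?_⟩
    rw [map_add, map_smul, map_smul, hv.Bv, hv.B0, hd1]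
    module
  · intro w hw
    obtain ⟨x, y, rfl⟩ := (hmem w).1 hw
    rw [hmem]
    refine ⟨x + y * δ, -(x * (δ * m ^ 3)) + 3 * y, ?_⟩
    rw [map_add, map_smul, map_smul, Xv, Xe0]
    module
  · intro w hw
    obtain ⟨x, y, rfl⟩ := (hmem w).1 hw
    have z1 : cyc3 A B (cyc3 A B v) + cyc3 A B v + v = 0 := by
      rw [Xv, map_sub, map_smul, Xv, Xe0]
      have : v - (δ * m ^ 3) • e0 - (δ * m ^ 3) • (δ • v + (3 : ZMod 5) • e0) + (v - (δ * m ^ 3) • e0) + v
        = (3 - δ * δ * m ^ 3) • v + (-5 * (δ * m ^ 3)) • e0 := by module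
      rw [this, k1, sub_self, zero_smul, zero_add, show (-5 : ZMod 5) = 0 by decide, zero_mul, zero_smul]
    have z2 : cyc3 A B (cyc3 A B e0) + cyc3 A B e0 + e0 = 0 := by
      rw [Xe0, map_add, map_smul, map_smul, Xv, Xe0]
      have : δ • (v - (δ * m ^ 3) • e0) + (3 : ZMod 5) • (δ • v + (3 : ZMod 5) • e0) + (δ • v + (3 : ZMod 5) • e0) + e0
        = (5 * δ) • v + (13 - δ * δ * m ^ 3) • e0 := by module
      rw [this, k1, show (13 : ZMod 5) - 3 = 0 by decide, show (5 : ZMod 5) = 0 by decide, zero_mul, zero_smul, zero_smul,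
        zero_add]
    have : cyc3 A B (cyc3 A B (x • v + y • e0)) + cyc3 A B (x • v + y • e0) + (x • v + y • e0)
      = x • (cyc3 A B (cyc3 A B v) + cyc3 A B v + v) + y • (cyc3 A B (cyc3 A B e0) + cyc3 A B e0 + e0) := by
      simp only [map_add, map_smul]
      module
    rw [this, z1, z2, smul_zero, smul_zero, add_zero]

end Cfsg.Agent.R10.NGenMod
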