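import Cfsg.Agent.R10.NGenMod2

/-!
# The natural module, third part: coordinates
-/

set_option autoImplicit false

namespace Cfsg.Agent.R10.NGenMod

open Module

variable {W : Type*} [AddCommGroup W] [Module (ZMod 5) W]

/-- the linear map from coordinates to `W` -/
def lin (e1 e2 e3 e4 : W) : (Fin 4 → ZMod 5) →ₗ[ZMod 5] W where
  toFun x := x 0 • e1 + x 1 • e2 + x 2 • e3 + x 3 • e4
  map_add' x y := by simp only [Pi.add_apply]; module
  map_smul' c x := by simp only [Pi.smul_apply, smul_eq_mul, RingHom.id_apply]; module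

theorem lin_apply (e1 e2 e3 e4 : W) (x : Fin 4 → ZMod 5) :
    lin e1 e2 e3 e4 x = x 0 • e1 + x 1 • e2 + x 2 • e3 + x 3 • e4 := rfl

/-- the operator `B - 1` in coordinates -/
def nb (x : Fin 4 → ZMod 5) : Fin 4 → ZMod 5 :=
  ![-x 3 - x 0, x 0 - x 3 - x 1, x 1 - x 3 - x 2, x 2 - x 3 - x 3]

theorem Vecs.lin_nb {A B : End (ZMod 5) W} {m l : ZMod 5} {v e0 e1 e2 e3 e4 : W}
    (h : Vecs A B m l v e0 e1 e2 e3 e4) (hs : e0 + e1 + e2 + e3 + e4 = 0) (x : Fin 4 → ZMod 5) :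
    lin e1 e2 e3 e4 (nb x) = B (lin e1 e2 e3 e4 x) - lin e1 e2 e3 e4 x := by
  have he0 : e0 = -(e1 + e2 + e3 + e4) := by
    rw [eq_neg_iff_add_eq_zero, ← hs]; abel
  simp only [lin_apply, nb, map_add, map_smul, h.B1, h.B2, h.B3, h.B4, Matrix.cons_val_zero, Matrix.cons_val_one,
    Matrix.cons_val]
  rw [he0]
  module

theorem nb_chain : ∀ a b c d : ZMod 5, ![a, b, c, d] ≠ 0 →
    (∃ k < 4, ∃ r : ZMod 5, r ≠ 0 ∧ (nb^[k]) ![a, b, c, d] = r • ![1, 2, 3, 4]) := by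
  decide +kernel

theorem Vecs.lin_injective {A B : End (ZMod 5) W} {m l : ZMod 5} {v e0 e1 e2 e3 e4 : W}
    (h : Vecs A B m l v e0 e1 e2 e3 e4) (hs : e0 + e1 + e2 + e3 + e4 = 0) (h3 : l ^ 2 * m = 3) :
    Function.Injective (lin e1 e2 e3 e4) := by
  -- `v` is a multiple of the fixed vector
  have hk : lin e1 e2 e3 e4 ![1, 2, 3, 4] ≠ 0 := by
    intro h0
    have hrel := h.rel hs
    have c : l ^ 3 * m = l * (l ^ 2 * m) := by ring
    rw [h3] at c
    rw [c] at hrel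
    have h1 : m • v = (-(3 * l)) • lin e1 e2 e3 e4 ![1, 2, 3, 4] := by
      have : m • v = -(l • e2 + (l * 3) • e1 - (l * 3) • e4 - l • e3) := by
        rw [eq_neg_iff_add_eq_zero, ← hrel]; abel
      rw [this, lin_apply]
      simp only [Matrix.cons_val_zero, Matrix.cons_val_one, Matrix.cons_val]
      have e : -(l • e2 + (l * 3) • e1 - (l * 3) • e4 - l • e3) - (-(3 * l)) • ((1 : ZMod 5) • e1 + (2 : ZMod 5) • e2 +
        (3 : ZMod 5) • e3 + (4 : ZMod 5) • e4) = (5 : ZMod 5) • (l • e2 + (2 * l) • e3 + (3 * l) • e4) := by module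
      rw [← sub_eq_zero, e, show (5 : ZMod 5) = 0 by decide, zero_smul]
    rw [h0, smul_zero] at h1
    rcases smul_eq_zero.1 h1 with h2 | h2
    · have := h.m2
      rw [h2] at this
      exact absurd this (by decide)
    · exact h.v0 h2
  rw [injective_iff_map_eq_zero]
  intro x hx
  by_contra hne
  have hx' : x = ![x 0, x 1, x 2, x 3] := by
    funext i; fin_cases i <;> rfl
  obtain ⟨k, -, r, hr, hkr⟩ := nb_chain (x 0) (x 1) (x 2) (x 3) (by rw [← hx']; exact hne)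
  rw [← hx'] at hkr
  have hall : ∀ k : ℕ, lin e1 e2 e3 e4 ((nb^[k]) x) = 0 := by
    intro k
    induction k with
    | zero => exact hx
    | succ k ih => rw [Function.iterate_succ_apply', h.lin_nb hs, ih, map_zero, sub_zero]
  have h2 := hall k
  rw [hkr, map_smul] at h2
  rcases smul_eq_zero.1 h2 with h3 | h3
  · exact hr h3
  · exact hk h3

/-- coordinates -/
noncomputable def Vecs.equiv {A B : End (ZMod 5) W} {m l : ZMod 5} {v e0 e1 e2 e3 e4 : W}
    (h : Vecs A B m l v e0 e1 e2 e3 e4) (hs : e0 + e1 + e2 + e3 + e4 = 0) (h3 : l ^ 2 * m = 3)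
    (hd : finrank (ZMod 5) W = 4) : (Fin 4 → ZMod 5) ≃ₗ[ZMod 5] W :=
  have : Module.Finite (ZMod 5) W := Module.finite_of_finrank_eq_succ hd
  LinearEquiv.ofInjectiveOfFinrankEq (lin e1 e2 e3 e4) (h.lin_injective hs h3) (by simp [hd])

theorem Vecs.equiv_apply {A B : End (ZMod 5) W} {m l : ZMod 5} {v e0 e1 e2 e3 e4 : W}
    (h : Vecs A B m l v e0 e1 e2 e3 e4) (hs : e0 + e1 + e2 + e3 + e4 = 0) (h3 : l ^ 2 * m = 3)
    (hd : finrank (ZMod 5) W = 4) (x : Fin 4 → ZMod 5) : h.equiv hs h3 hd x = lin e1 e2 e3 e4 x := rfl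

end Cfsg.Agent.R10.NGenMod
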