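import Cfsg.Agent.R10.NGenMod3

/-!
# The natural module, fourth part: the invariant form and the matrices of `A` and `B`
-/

set_option autoImplicit false

namespace Cfsg.Agent.R10.NGenMod

open Module

variable {W : Type*} [AddCommGroup W] [Module (ZMod 5) W]

/-- the invariant form -/
structure Form (A B : End (ZMod 5) W) (β : W →ₗ[ZMod 5] W →ₗ[ZMod 5] ZMod 5) : Prop where
  self : ∀ w, β w w = 0
  nondeg : ∀ v, (∀ w, β v w = 0) → v = 0
  hA : ∀ v w, β (A v) (A w) = 3 * β v w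
  hB : ∀ v w, β (B v) (B w) = β v w

theorem Form.symm {A B : End (ZMod 5) W} {β : W →ₗ[ZMod 5] W →ₗ[ZMod 5] ZMod 5} (h : Form A B β) (v w : W) :
    β w v = -β v w := by
  have h1 := h.self (v + w)
  simp only [map_add, LinearMap.add_apply, h.self, zero_add, add_zero] at h1
  rw [eq_neg_iff_add_eq_zero, ← h1]

/-- the form in coordinates -/
def J (x y : Fin 4 → ZMod 5) : ZMod 5 :=
  2 * (x 0 * y 1 - x 1 * y 0) + (x 0 * y 2 - x 2 * y 0) - (x 0 * y 3 - x 3 * y 0) +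
    2 * (x 1 * y 2 - x 2 * y 1) + (x 1 * y 3 - x 3 * y 1) + 2 * (x 2 * y 3 - x 3 * y 2)

theorem Vecs.form {A B : End (ZMod 5) W} {m l : ZMod 5} {v e0 e1 e2 e3 e4 : W}
    (h : Vecs A B m l v e0 e1 e2 e3 e4) (hs : e0 + e1 + e2 + e3 + e4 = 0) (h3 : l ^ 2 * m = 3)
    (hd : finrank (ZMod 5) W = 4) {β : W →ₗ[ZMod 5] W →ₗ[ZMod 5] ZMod 5} (hβ : Form A B β) :
    m = 2 ∧ ∃ r : ZMod 5, r ≠ 0 ∧ ∀ x y, β (lin e1 e2 e3 e4 x) (lin e1 e2 e3 e4 y) = r * J x y := by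
  -- `β v e_i`
  have b1 : β v e1 = β v e0 := by rw [← hβ.hB v e0, h.Bv, h.B0]
  have b2 : β v e2 = β v e0 := by rw [← b1, ← hβ.hB v e1, h.Bv, h.B1]
  have b3 : β v e3 = β v e0 := by rw [← b2, ← hβ.hB v e2, h.Bv, h.B2]
  have b4 : β v e4 = β v e0 := by rw [← b3, ← hβ.hB v e3, h.Bv, h.B3]
  have hb : β v e0 ≠ 0 := by
    intro h0
    apply h.v0
    apply hβ.nondeg
    intro w
    obtain ⟨x, rfl⟩ := (h.equiv hs h3 hd).surjective w
    rw [h.equiv_apply, lin_apply]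
    simp only [map_add, map_smul, b1, b2, b3, b4, h0, smul_zero, add_zero]
  have p1 : β e1 e2 = β e0 e1 := by rw [← hβ.hB e0 e1, h.B0, h.B1]
  have p2 : β e2 e3 = β e0 e1 := by rw [← p1, ← hβ.hB e1 e2, h.B1, h.B2]
  have p3 : β e3 e4 = β e0 e1 := by rw [← p2, ← hβ.hB e2 e3, h.B2, h.B3]
  have r1 : β e2 e4 = β e1 e3 := by rw [← hβ.hB e1 e3, h.B1, h.B3]
  have r2 : β e3 e0 = β e1 e3 := by rw [← r1, ← hβ.hB e2 e4, h.B2, h.B4]
  have r3 : β e4 e1 = β e1 e3 := by rw [← r2, ← hβ.hB e3 e0, h.B3, h.B0]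
  have r4 : β e1 e4 = -β e1 e3 := by rw [hβ.symm e4 e1, r3]
  have hl : l ≠ 0 := by
    intro h0; rw [h0, zero_pow (by norm_num), zero_mul] at h3
    exact absurd h3 (by decide)
  have hm : m ≠ 0 := by
    intro h0; rw [h0, mul_zero] at h3
    exact absurd h3 (by decide)
  have q1 : m * l * β v e0 = 3 * β e0 e1 := by
    rw [← hβ.hA e0 e1, h.A0, h.A1]
    simp only [map_smul, LinearMap.smul_apply, smul_eq_mul, b2]
    ring
  have hp : β e0 e1 ≠ 0 := by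
    intro h0
    rw [h0, mul_zero] at q1
    exact mul_ne_zero (mul_ne_zero hm hl) hb q1
  have q2 : -(l ^ 4 * m) * β e0 e1 = 3 * β e0 e1 := by
    have := hβ.hA e1 e2
    rw [p1] at this
    rw [← this, h.A1, h.A2]
    simp only [map_smul, LinearMap.smul_apply, smul_eq_mul, hβ.symm e1 e2, p1]
    ring
  have hm2 : m = 2 := by
    have := mul_right_cancel₀ hp q2
    rw [h.l4, one_mul] at this
    have h5 : m = -3 := by rw [← this, neg_neg]
    rw [h5]; decide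
  have hl2 : l ^ 2 = 4 := by
    rw [hm2] at h3
    have : l ^ 2 = 3 * (l ^ 2 * 2) := by
      have : (3 : ZMod 5) * (l ^ 2 * 2) = 6 * l ^ 2 := by ring
      rw [this, show (6 : ZMod 5) = 1 by decide, one_mul]
    rw [this, h3]; decide
  have q3 : β e0 e1 = 2 * β e1 e3 := by
    have h5 := hβ.hA e1 e4
    rw [h.A1, h.A4] at h5
    simp only [map_smul, map_neg, LinearMap.smul_apply, smul_eq_mul, p2, r4] at h5
    have h6 : l ^ 2 * β e0 e1 = 3 * β e1 e3 := by linear_combination -h5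
    rw [hl2] at h6
    have h7 : (4 * 4 : ZMod 5) * β e0 e1 = 4 * (3 * β e1 e3) := by rw [mul_assoc, h6]
    rw [show (4 * 4 : ZMod 5) = 1 by decide, one_mul] at h7
    rw [h7, ← mul_assoc]; congr 1
  refine ⟨hm2, β e1 e3, ?_, ?_⟩
  · intro h0
    rw [h0, mul_zero] at q3
    exact hp q3
  · intro x y
    have s2 : β e2 e1 = -β e0 e1 := by rw [hβ.symm e1 e2, p1]
    have s3 : β e3 e1 = -β e1 e3 := by rw [hβ.symm e1 e3]
    have s5 : β e3 e2 = -β e0 e1 := by rw [hβ.symm e2 e3, p2]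
    have s6 : β e4 e2 = -β e1 e3 := by rw [hβ.symm e2 e4, r1]
    have s7 : β e4 e3 = -β e0 e1 := by rw [hβ.symm e3 e4, p3]
    simp only [lin_apply, map_add, LinearMap.add_apply, map_smul, LinearMap.smul_apply, smul_eq_mul, hβ.self, p1, p2,
      p3, r1, r3, r4, s2, s3, s5, s6, s7, q3, J]
    ring

/-- the matrices in the basis `e_1, …, e_4` -/
def MA (x : Fin 4 → ZMod 5) : Fin 4 → ZMod 5 := ![4 * x 1, 3 * x 0, 2 * x 3, x 2]

def MB (x : Fin 4 → ZMod 5) : Fin 4 → ZMod 5 := ![-x 3, x 0 - x 3, x 1 - x 3, x 2 - x 3]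

theorem Vecs.lin_MB {A B : End (ZMod 5) W} {m l : ZMod 5} {v e0 e1 e2 e3 e4 : W}
    (h : Vecs A B m l v e0 e1 e2 e3 e4) (hs : e0 + e1 + e2 + e3 + e4 = 0) (x : Fin 4 → ZMod 5) :
    lin e1 e2 e3 e4 (MB x) = B (lin e1 e2 e3 e4 x) := by
  have he0 : e0 = -(e1 + e2 + e3 + e4) := by
    rw [eq_neg_iff_add_eq_zero, ← hs]; abel
  simp only [lin_apply, MB, map_add, map_smul, h.B1, h.B2, h.B3, h.B4, Matrix.cons_val_zero, Matrix.cons_val_one,
    Matrix.cons_val]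
  rw [he0]
  module

theorem Vecs.lin_MA {A B : End (ZMod 5) W} {v e0 e1 e2 e3 e4 : W}
    (h : Vecs A B 2 3 v e0 e1 e2 e3 e4) (x : Fin 4 → ZMod 5) :
    lin e1 e2 e3 e4 (MA x) = A (lin e1 e2 e3 e4 x) := by
  simp only [lin_apply, MA, map_add, map_smul, h.A1, h.A2, h.A3, h.A4, Matrix.cons_val_zero, Matrix.cons_val_one,
    Matrix.cons_val]
  rw [show (3 ^ 3 * 2 : ZMod 5) = 4 by decide, ← neg_smul, ← neg_smul, show (-4 : ZMod 5) = 1 by decide,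
    show (-3 : ZMod 5) = 2 by decide]
  module

theorem Vecs.lin_MA' {A B : End (ZMod 5) W} {v e0 e1 e2 e3 e4 : W}
    (h : Vecs A B 2 2 v e0 e1 e2 e3 e4) (x : Fin 4 → ZMod 5) :
    lin e1 e2 e3 e4 (MA x) = (-A) (lin e1 e2 e3 e4 x) := by
  simp only [LinearMap.neg_apply, lin_apply, MA, map_add, map_smul, h.A1, h.A2, h.A3, h.A4, Matrix.cons_val_zero,
    Matrix.cons_val_one, Matrix.cons_val]
  rw [show (2 ^ 3 * 2 : ZMod 5) = 1 by decide, show (4 : ZMod 5) = -1 by decide, show (3 : ZMod 5) = -2 by decide]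
  module

/-- the result -/
structure Coord (A B : End (ZMod 5) W) (β : W →ₗ[ZMod 5] W →ₗ[ZMod 5] ZMod 5)
    (Φ : (Fin 4 → ZMod 5) ≃ₗ[ZMod 5] W) (r : ZMod 5) : Prop where
  hA : ∀ x, A (Φ x) = Φ (MA x)
  hB : ∀ x, B (Φ x) = Φ (MB x)
  hβ : ∀ x y, β (Φ x) (Φ y) = r * J x y
  r0 : r ≠ 0

theorem Ops.coord {A B H : End (ZMod 5) W} (h : Ops A B H) (hd : finrank (ZMod 5) W = 4)
    (hX : finrank (ZMod 5) (LinearMap.ker (cyc3 A B - 1)) = 2)
    (hXY : (cyc3 A B * (B * cyc3 A B * B ^ 4)) ^ 2 = -1)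
    {β : W →ₗ[ZMod 5] W →ₗ[ZMod 5] ZMod 5} (hβ : Form A B β) :
    ∃ Φ : (Fin 4 → ZMod 5) ≃ₗ[ZMod 5] W, ∃ r : ZMod 5, Coord A B β Φ r ∨ Coord (-A) B β Φ r := by
  obtain ⟨w, hw⟩ : ∃ w : W, w ≠ 0 := by
    by_contra hcon
    push Not at hcon
    have : Subsingleton W := ⟨fun a b => by rw [hcon a, hcon b]⟩
    rw [Module.finrank_zero_of_subsingleton] at hd
    exact absurd hd (by norm_num)
  obtain ⟨v, hv0, hBv, m, l, hm, hl⟩ := h.exists_vec hw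
  have hv := h.vecs hv0 hBv hm hl
  have hs := h.sum_eq hd (A v)
  have h3 := h.not_two hd hX hXY hv hs
  obtain ⟨rfl, r, hr, hJ⟩ := hv.form hs h3 hd hβ
  have hl : ∀ l : ZMod 5, l ^ 2 * 2 = 3 → l = 3 ∨ l = 2 := by decide
  have hB' : ∀ x, B (hv.equiv hs h3 hd x) = hv.equiv hs h3 hd (MB x) := fun x => (hv.lin_MB hs x).symm
  refine ⟨hv.equiv hs h3 hd, r, ?_⟩
  rcases hl l h3 with rfl | rfl
  · exact Or.inl ⟨fun x => (hv.lin_MA x).symm, hB', hJ, hr⟩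
  · exact Or.inr ⟨fun x => (hv.lin_MA' x).symm, hB', hJ, hr⟩

end Cfsg.Agent.R10.NGenMod
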