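import Cfsg.Agent.R10.CliffWord
import Cfsg.Agent.R10.NGenCo

/-!
# The relations of `⟨a, b, z⟩` in the centraliser of `t`
-/

set_option autoImplicit false

namespace Cfsg.Agent.R10.NGenRel

open Subgroup Equiv Cfsg.Agent.SporRec.TwoAn Cfsg.Agent.SporRec.LyType Cfsg.Agent.SporRec.LyFive
  Cfsg.Agent.R10.CliffSign Cfsg.Agent.R10.CliffWord Cfsg.Agent.R10.NGenCo

/-- words in lifts of transpositions -/
abbrev TW := List (Fin 11 × Fin 11)

def wa : TW := [(0, 1), (6, 8), (8, 9), (9, 7)]
def wb : TW := [(1, 0), (1, 2), (2, 3), (3, 4)]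
def wf : TW := [(6, 5), (6, 7), (7, 8), (8, 9)]
def wz : TW := [(4, 10), (6, 8), (8, 9), (9, 7)]

def wA (s : Bool) : TW := if s then zw ++ wa else wa
def wZ (s : Bool) : TW := if s then zw ++ wz else wz

def pa : Perm (Fin 11) := swap 0 1 * swap 6 8 * swap 8 9 * swap 9 7
def pb : Perm (Fin 11) := swap 0 1 * swap 1 2 * swap 2 3 * swap 3 4
def pf : Perm (Fin 11) := swap 5 6 * swap 6 7 * swap 7 8 * swap 8 9
def pz : Perm (Fin 11) := swap 4 10 * swap 6 8 * swap 8 9 * swap 9 7

/-- the letters as words in lifts of transpositions -/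
def tl (s : Bool) : ℕ → TW
  | 0 => wA s
  | 1 => (wA s).reverse
  | 2 => wb
  | 3 => wb.reverse
  | 6 => wZ s
  | 7 => (wZ s).reverse
  | _ => []

theorem ok_wA : ∀ s, ok (wA s) = true := by decide
theorem ok_wZ : ∀ s, ok (wZ s) = true := by decide
theorem ok_wb : ok wb = true := by decide
theorem ok_wf : ok wf = true := by decide

theorem ok_tl (s : Bool) (l : ℕ) : ok (tl s l) = true := by
  match l with
  | 0 => exact ok_wA s
  | 1 => exact ok_reverse (ok_wA s)
  | 2 => exact ok_wb
  | 3 => exact ok_reverse ok_wb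
  | 4 => rfl
  | 5 => rfl
  | 6 => exact ok_wZ s
  | 7 => exact ok_reverse (ok_wZ s)
  | (n + 8) => rfl

theorem ok_flat (s : Bool) (w : List ℕ) : ok (w.flatMap (tl s)) = true := by
  induction w with
  | nil => rfl
  | cons l w ih => rw [List.flatMap_cons]; exact ok_append (ok_tl s l) ih

section eval

variable {C : Type*} [Group C] {K : Cover (Fin 11) C} (e : Eval K) (s : Bool)

theorem lt_val (l : ℕ) : lt (e.val (wA s)) (e.val wb) 1 (e.val (wZ s)) l = e.val (tl s l) := by
  match l with
  | 0 => rfl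
  | 1 => exact e.val_inv (ok_wA s)
  | 2 => rfl
  | 3 => exact e.val_inv ok_wb
  | 4 => exact e.val_nil.symm
  | 5 => exact inv_one.trans e.val_nil.symm
  | 6 => rfl
  | 7 => exact e.val_inv (ok_wZ s)
  | (n + 8) => exact e.val_nil.symm

theorem ev_val (w : List ℕ) : ev (e.val (wA s)) (e.val wb) 1 (e.val (wZ s)) w = e.val (w.flatMap (tl s)) := by
  induction w with
  | nil => exact e.val_nil.symm
  | cons l w ih =>
    have e1 : ev (e.val (wA s)) (e.val wb) 1 (e.val (wZ s)) (l :: w) =
      lt (e.val (wA s)) (e.val wb) 1 (e.val (wZ s)) l * ev (e.val (wA s)) (e.val wb) 1 (e.val (wZ s)) w := by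
      simp [ev]
    rw [e1, ih, lt_val, e.val_mul (ok_tl s l) (ok_flat s w), List.flatMap_cons]

theorem ev_eq_one {w : List ℕ} (h : good (w.flatMap (tl s)) = true) :
    ev (e.val (wA s)) (e.val wb) 1 (e.val (wZ s)) w = 1 := by
  rw [ev_val, ← e.val_nil]
  exact e.val_eq (ok_flat s w) (by decide) (by simpa using h)

end eval

theorem ev_map {C G : Type*} [Group C] [Group G] (φ : C →* G) (a b c z : C) (w : List ℕ) :
    φ (ev a b c z w) = ev (φ a) (φ b) (φ c) (φ z) w := by
  unfold ev
  rw [map_list_prod, List.map_map]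
  congr 1
  apply List.map_congr_left
  intro l _
  match l with
  | 0 => rfl
  | 1 => exact map_inv φ a
  | 2 => rfl
  | 3 => exact map_inv φ b
  | 4 => rfl
  | 5 => exact map_inv φ c
  | 6 => rfl
  | 7 => exact map_inv φ z
  | (n + 8) => exact map_one φ

/-- inverse of a word -/
def wi (w : List ℕ) : List ℕ := (w.map (fun l => if l % 2 = 0 then l + 1 else l - 1)).reverse

theorem lt_wi {G : Type*} [Group G] (a b c z : G) (l : ℕ) :
    lt a b c z (if l % 2 = 0 then l + 1 else l - 1) = (lt a b c z l)⁻¹ := by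
  match l with
  | 0 => rfl
  | 1 => exact (inv_inv a).symm
  | 2 => rfl
  | 3 => exact (inv_inv b).symm
  | 4 => rfl
  | 5 => exact (inv_inv c).symm
  | 6 => rfl
  | 7 => exact (inv_inv z).symm
  | 8 => exact inv_one.symm
  | (n + 9) =>
    have h2 : ∀ m, 8 ≤ m → lt a b c z m = 1 := by
      intro m hm
      obtain ⟨k, rfl⟩ := Nat.exists_eq_add_of_le' hm
      rfl
    split_ifs
    · rw [h2 _ (by omega), h2 _ (by omega), inv_one]
    · rw [h2 _ (by omega), h2 _ (by omega), inv_one]

theorem ev_append {G : Type*} [Group G] (a b c z : G) (v w : List ℕ) :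
    ev a b c z (v ++ w) = ev a b c z v * ev a b c z w := by
  simp [ev]

theorem ev_wi {G : Type*} [Group G] (a b c z : G) (w : List ℕ) : ev a b c z (wi w) = (ev a b c z w)⁻¹ := by
  unfold ev wi
  rw [List.prod_inv_reverse, List.map_reverse, List.map_map, List.map_map]
  congr 2
  apply List.map_congr_left
  intro l _
  exact lt_wi a b c z l

/-- the lifts of `a`, `b`, `z` -/
structure Lifts {G : Type*} [Group G] (L : LyType G) (f a b z : G) : Prop where
  ca : a * L.t = L.t * a
  cb : b * L.t = L.t * b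
  cz : z * L.t = L.t * z
  πa : L.K.π ⟨a, L.mem_iff.2 ca⟩ = pa
  πb : L.K.π ⟨b, L.mem_iff.2 cb⟩ = pb
  πz : L.K.π ⟨z, L.mem_iff.2 cz⟩ = pz
  a4 : a ^ 4 = L.t
  rel : ∀ w : List ℕ, (∀ s, good (w.flatMap (tl s)) = true) → ev a b 1 z w = 1
  af : a * f * a⁻¹ = f ^ 3
  bf : b * f * b⁻¹ = f ^ 1
  zf : z * f * z⁻¹ = f ^ 3
  xf : (a ^ 7 * b ^ 4 * a * b) * f = f * (a ^ 7 * b ^ 4 * a * b)

theorem Lifts.eq {G : Type*} [Group G] {L : LyType G} {f a b z : G} (h : Lifts L f a b z) {v w : List ℕ}
    (hg : ∀ s, good ((v ++ wi w).flatMap (tl s)) = true) : ev a b 1 z v = ev a b 1 z w := by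
  have := h.rel _ hg
  rw [ev_append, ev_wi, mul_inv_eq_one] at this
  exact this

theorem perm_eq {C : Type*} [Group C] {K : Cover (Fin 11) C} (e : Eval K) {w : TW} (hw : ok w = true)
    {p : Perm (Fin 11)} (h : ∀ x, pw w x = p x) : K.π (e.val w) = p := by
  ext x
  rw [e.π_val hw, h]

theorem exists_lifts {G : Type*} [Group G] {L : LyType G} {f : G} (hf : f * L.t = L.t * f) (hf5 : f ^ 5 = 1)
    (hπ : L.K.π ⟨f, L.mem_iff.2 hf⟩ = pf) : ∃ a b z : G, Lifts L f a b z ∧ Lifts L f (L.t * a) b (L.t * z) := by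
  obtain ⟨e⟩ := exists_eval L.K
  -- `f` is the value of `wf`
  have hfw : f = (e.val wf : G) := by
    have h1 : L.K.π (e.val wf) = pf := perm_eq e ok_wf (by decide)
    have h2 : L.K.π ((⟨f, L.mem_iff.2 hf⟩ : centralizer ({L.t} : Set G)) * (e.val wf)⁻¹) = 1 := by
      rw [map_mul, map_inv, h1, hπ, mul_inv_cancel]
    have h5 : (e.val wf) ^ 5 = 1 := by
      rw [e.val_pow ok_wf, ← e.val_nil]
      exact e.val_eq (by decide) (by decide) (by decide +kernel)
    rcases (L.K.ker _).1 h2 with h3 | h3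
    · have := mul_inv_eq_one.1 h3
      exact congrArg Subtype.val this
    · exfalso
      have h4 : (⟨f, L.mem_iff.2 hf⟩ : centralizer ({L.t} : Set G)) = L.K.z * e.val wf := by
        rw [← h3]; group
      have h6 : (⟨f, L.mem_iff.2 hf⟩ : centralizer ({L.t} : Set G)) ^ 5 = 1 := Subtype.ext hf5
      rw [h4, (show Commute L.K.z (e.val wf) from (L.K.z_comm _).symm).mul_pow, h5, mul_one] at h6
      have h8 : L.K.z ^ 2 = 1 := by rw [pow_two, L.K.z_mul_z]
      have h7 : L.K.z ^ 5 = L.K.z := by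
        rw [show 5 = 2 * 2 + 1 from rfl, pow_succ, pow_mul, h8, one_pow, one_mul]
      rw [h7] at h6
      exact L.K.z_ne h6
  have hmem : ∀ x : centralizer ({L.t} : Set G), (x : G) * L.t = L.t * x := fun x => L.mem_iff.1 x.2
  have main : ∀ s, Lifts L f (e.val (wA s) : G) (e.val wb : G) (e.val (wZ s) : G) := by
    intro s
    refine ⟨hmem _, hmem _, hmem _, ?_, ?_, ?_, ?_, ?_, ?_, ?_, ?_, ?_⟩
    · exact perm_eq e (ok_wA s) (by revert s; decide)
    · exact perm_eq e ok_wb (by decide)
    · exact perm_eq e (ok_wZ s) (by revert s; decide)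
    · refine Eq.trans ?_ L.hz
      rw [← Subgroup.coe_pow, e.val_pow (ok_wA s), ← e.val_zw]
      exact congrArg Subtype.val (e.val_eq (by revert s; decide) (by decide) (by revert s; decide +kernel))
    · intro w hw
      have h1 := ev_eq_one e s (hw s)
      have h2 := ev_map (centralizer ({L.t} : Set G)).subtype (e.val (wA s)) (e.val wb) 1 (e.val (wZ s)) w
      rw [h1] at h2
      exact h2.symm
    · rw [hfw, ← Subgroup.coe_inv, ← Subgroup.coe_mul, ← Subgroup.coe_mul, ← Subgroup.coe_pow,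
        e.val_inv (ok_wA s), e.val_mul (ok_wA s) ok_wf, e.val_mul (by revert s; decide) (ok_reverse (ok_wA s)),
        e.val_pow ok_wf]
      exact congrArg Subtype.val (e.val_eq (by revert s; decide) (by decide) (by revert s; decide +kernel))
    · rw [hfw, ← Subgroup.coe_inv, ← Subgroup.coe_mul, ← Subgroup.coe_mul, ← Subgroup.coe_pow,
        e.val_inv ok_wb, e.val_mul ok_wb ok_wf, e.val_mul (by decide) (ok_reverse ok_wb),
        e.val_pow ok_wf]
      exact congrArg Subtype.val (e.val_eq (by decide) (by decide) (by decide +kernel))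
    · rw [hfw, ← Subgroup.coe_inv, ← Subgroup.coe_mul, ← Subgroup.coe_mul, ← Subgroup.coe_pow,
        e.val_inv (ok_wZ s), e.val_mul (ok_wZ s) ok_wf, e.val_mul (by revert s; decide) (ok_reverse (ok_wZ s)),
        e.val_pow ok_wf]
      exact congrArg Subtype.val (e.val_eq (by revert s; decide) (by decide) (by revert s; decide +kernel))
    · rw [hfw]
      refine congrArg Subtype.val (?_ : (e.val (wA s) ^ 7 * e.val wb ^ 4 * e.val (wA s) * e.val wb) * e.val wf =
        e.val wf * (e.val (wA s) ^ 7 * e.val wb ^ 4 * e.val (wA s) * e.val wb))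
      rw [e.val_pow (ok_wA s), e.val_pow ok_wb, e.val_mul (Eval.ok_npow (ok_wA s) 7) (Eval.ok_npow ok_wb 4),
        e.val_mul (by revert s; decide) (ok_wA s), e.val_mul (by revert s; decide) ok_wb,
        e.val_mul (by revert s; decide) ok_wf, e.val_mul ok_wf (by revert s; decide)]
      exact e.val_eq (by revert s; decide) (by revert s; decide) (by revert s; decide +kernel)
  refine ⟨e.val (wA false), e.val wb, e.val (wZ false), main false, ?_⟩
  have h1 : ((e.val (wA true) : centralizer ({L.t} : Set G)) : G) = L.t * (e.val (wA false) : G) := by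
    have h3 : e.val (wA true) = L.K.z * e.val (wA false) := by
      rw [← e.val_zw, e.val_mul (by decide) (ok_wA false)]; rfl
    exact (congrArg Subtype.val h3).trans (congrArg (· * (e.val (wA false) : G)) L.hz)
  have h2 : ((e.val (wZ true) : centralizer ({L.t} : Set G)) : G) = L.t * (e.val (wZ false) : G) := by
    have h3 : e.val (wZ true) = L.K.z * e.val (wZ false) := by
      rw [← e.val_zw, e.val_mul (by decide) (ok_wZ false)]; rfl
    exact (congrArg Subtype.val h3).trans (congrArg (· * (e.val (wZ false) : G)) L.hz)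
  rw [← h1, ← h2]
  exact main true

end Cfsg.Agent.R10.NGenRel
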