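import Cfsg.Agent.SporRec.LyFive
import Mathlib.Algebra.Module.ZMod
import Mathlib.FieldTheory.Finiteness
import Mathlib.LinearAlgebra.FiniteDimensional.Lemmas

/-!
# Groups of Lyons type: the module `W = E / ⟨f⟩`

`W F` is the 4-dimensional `𝔽₅`-space `E / ⟨f⟩`, `ρ F` the action of `N F = N_G(⟨f⟩)`, `β F` the commutator form, and
`finrank_fixed`: the lift of a 3-cycle commuting with `f` has a two-dimensional fixed space.
-/

set_option autoImplicit false
set_option linter.dupNamespace false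

namespace Cfsg.Agent.R10.NGenW

open Subgroup Equiv Cfsg.Agent.SporRec.TwoAn Cfsg.Agent.SporRec.LyType Cfsg.Agent.SporRec.LyFive

variable {G : Type*} [Group G] {L : LyType G} (F : LyFive L)

instance : Fact (Nat.Prime 5) := ⟨by decide⟩

theorem f_ne_one : F.f ≠ 1 := by
  intro h
  have h1 := F.f_cycle
  have h2 : (⟨F.f, L.mem_iff.2 F.f_comm⟩ : centralizer ({L.t} : Set G)) = 1 := Subtype.ext h
  rw [h2, map_one, Perm.cycleType_one] at h1
  exact absurd h1 (by decide)

theorem orderOf_f : orderOf F.f = 5 := orderOf_eq_prime F.f_pow (f_ne_one F)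

theorem card_zpowers_f : Nat.card (zpowers F.f) = 5 := by
  rw [Nat.card_zpowers, orderOf_f]

instance : Finite (zpowers F.f) := Nat.finite_of_card_ne_zero (by rw [card_zpowers_f]; decide)

instance : Finite F.E := Nat.finite_of_card_ne_zero (by rw [F.card_E]; decide)

theorem zpowers_le_E : zpowers F.f ≤ F.E := Subgroup.zpowers_le.2 F.f_mem

theorem commute_of_mem {z e : G} (hz : z ∈ zpowers F.f) (he : e ∈ F.E) : e * z = z * e := by
  obtain ⟨k, rfl⟩ := mem_zpowers_iff.1 hz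
  exact (Commute.zpow_right (show Commute e F.f from F.f_central e he) k).eq

/-! ### The normaliser of `⟨f⟩` -/

/-- The normaliser of `⟨f⟩`. -/
def N : Subgroup G := normalizer (zpowers F.f : Set G)

theorem mem_N {g : G} : g ∈ N F ↔ g * F.f * g⁻¹ ∈ zpowers F.f := by
  constructor
  · intro h
    exact (mem_normalizer_iff.1 h F.f).1 (mem_zpowers F.f)
  · intro h
    have h1 : (zpowers F.f).map (MulAut.conj g).toMonoidHom = zpowers F.f := by
      refine Subgroup.eq_of_le_of_card_ge ?_ ?_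
      · rw [MonoidHom.map_zpowers]
        exact Subgroup.zpowers_le.2 h
      · rw [Subgroup.card_map_of_injective (MulAut.conj g).injective]
    exact mem_normalizer_iff_map_conj_eq.2 h1

theorem conj_mem_zpowers {g x : G} (hg : g ∈ N F) (hx : x ∈ zpowers F.f) : g * x * g⁻¹ ∈ zpowers F.f :=
  (mem_normalizer_iff.1 hg x).1 hx

theorem conj_mem_E {g x : G} (hg : g ∈ N F) (hx : x ∈ F.E) : g * x * g⁻¹ ∈ F.E :=
  F.norm_E g ((mem_N F).1 hg) x hx

theorem t_mem_N : L.t ∈ N F := by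
  rw [mem_N, ← F.f_comm, mul_inv_cancel_right]
  exact mem_zpowers F.f

theorem E_le_N : F.E ≤ N F := by
  intro e he
  rw [mem_N, F.f_central e he, mul_inv_cancel_right]
  exact mem_zpowers F.f

/-! ### The module -/

instance normal_f : ((zpowers F.f).subgroupOf F.E).Normal := by
  constructor
  rintro ⟨n, hn⟩ hz ⟨e, he⟩
  rw [mem_subgroupOf] at hz ⊢
  change e * n * e⁻¹ ∈ zpowers F.f
  change n ∈ zpowers F.f at hz
  rw [commute_of_mem F hz he, mul_inv_cancel_right]
  exact hz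

/-- The module `E / ⟨f⟩`. -/
def W : Type _ := Additive (F.E ⧸ (zpowers F.f).subgroupOf F.E)

/-- The class of an element of `E`. -/
def q (x : G) (hx : x ∈ F.E) : W F := Additive.ofMul (QuotientGroup.mk (⟨x, hx⟩ : F.E))

theorem q_surj (w : W F) : ∃ x, ∃ hx : x ∈ F.E, q F x hx = w := by
  obtain ⟨⟨x, hx⟩, h⟩ := QuotientGroup.mk_surjective (s := (zpowers F.f).subgroupOf F.E) (Additive.toMul w)
  exact ⟨x, hx, congrArg Additive.ofMul h⟩

theorem q_eq_iff {x y : G} (hx : x ∈ F.E) (hy : y ∈ F.E) : q F x hx = q F y hy ↔ x⁻¹ * y ∈ zpowers F.f := by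
  constructor
  · intro h
    have h1 : (QuotientGroup.mk (⟨x, hx⟩ : F.E) : F.E ⧸ (zpowers F.f).subgroupOf F.E)
        = QuotientGroup.mk (⟨y, hy⟩ : F.E) := Additive.ofMul.injective h
    have h2 := QuotientGroup.eq.1 h1
    rw [mem_subgroupOf] at h2
    exact h2
  · intro h
    have h1 : (QuotientGroup.mk (⟨x, hx⟩ : F.E) : F.E ⧸ (zpowers F.f).subgroupOf F.E)
        = QuotientGroup.mk (⟨y, hy⟩ : F.E) := by
      rw [QuotientGroup.eq, mem_subgroupOf]
      exact h
    exact congrArg Additive.ofMul h1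

instance instAddGroupW : AddGroup (W F) :=
  inferInstanceAs (AddGroup (Additive (F.E ⧸ (zpowers F.f).subgroupOf F.E)))

instance instAddCommGroupW : AddCommGroup (W F) :=
  { instAddGroupW F with
    add_comm := by
      intro v w
      obtain ⟨x, hx, rfl⟩ := q_surj F v
      obtain ⟨y, hy, rfl⟩ := q_surj F w
      change q F (x * y) (mul_mem hx hy) = q F (y * x) (mul_mem hy hx)
      rw [q_eq_iff]
      have h := F.comm_E y⁻¹ (inv_mem hy) x⁻¹ (inv_mem hx)
      rw [inv_inv, inv_inv] at h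
      rw [mul_inv_rev]
      simpa [mul_assoc] using h }

theorem q_mul {x y : G} (hx : x ∈ F.E) (hy : y ∈ F.E) :
    q F (x * y) (mul_mem hx hy) = q F x hx + q F y hy := rfl

theorem q_one : q F 1 (one_mem _) = 0 := rfl

theorem q_inv {x : G} (hx : x ∈ F.E) : q F x⁻¹ (inv_mem hx) = - q F x hx := rfl

theorem q_eq_zero_iff {x : G} (hx : x ∈ F.E) : q F x hx = 0 ↔ x ∈ zpowers F.f := by
  rw [← q_one F, q_eq_iff, mul_one, inv_mem_iff]

theorem q_pow {x : G} (hx : x ∈ F.E) (n : ℕ) : q F (x ^ n) (pow_mem hx n) = n • q F x hx := rfl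

theorem q_congr {x y : G} (hx : x ∈ F.E) (h : x = y) : q F x hx = q F y (h ▸ hx) := by
  subst h; rfl

theorem five_smul (w : W F) : 5 • w = 0 := by
  obtain ⟨x, hx, rfl⟩ := q_surj F w
  rw [← q_pow, q_eq_zero_iff, F.pow_E x hx]
  exact one_mem _

instance : Module (ZMod 5) (W F) := AddCommGroup.zmodModule (five_smul F)

instance : Finite (W F) := inferInstanceAs (Finite (F.E ⧸ (zpowers F.f).subgroupOf F.E))

theorem card_W : Nat.card (W F) = 625 := by
  have h1 : Nat.card (W F) = Nat.card (F.E ⧸ (zpowers F.f).subgroupOf F.E) := rfl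
  have h2 := Subgroup.card_eq_card_quotient_mul_card_subgroup ((zpowers F.f).subgroupOf F.E)
  have h3 : Nat.card ((zpowers F.f).subgroupOf F.E) = 5 := by
    rw [← card_zpowers_f F]
    exact Nat.card_congr (Subgroup.subgroupOfEquivOfLe (zpowers_le_E F)).toEquiv
  rw [F.card_E, h3] at h2
  rw [h1]
  omega

theorem finrank_W : Module.finrank (ZMod 5) (W F) = 4 := by
  have h := Module.natCard_eq_pow_finrank (K := ZMod 5) (V := W F)
  rw [card_W, Nat.card_zmod] at h
  refine Nat.pow_right_injective (show 2 ≤ 5 by decide) ?_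
  show 5 ^ Module.finrank (ZMod 5) (W F) = 5 ^ 4
  rw [← h]

/-! ### The action of `N_G(⟨f⟩)` -/

/-- Conjugation on `E`. -/
def conjE (g : N F) : F.E →* F.E where
  toFun x := ⟨(g : G) * x * (g : G)⁻¹, conj_mem_E F g.2 x.2⟩
  map_one' := by
    apply Subtype.ext
    show (g : G) * ((1 : F.E) : G) * (g : G)⁻¹ = 1
    rw [Subgroup.coe_one, mul_one, mul_inv_cancel]
  map_mul' x y := by
    apply Subtype.ext
    show (g : G) * ((x : G) * y) * (g : G)⁻¹ = (g : G) * x * (g : G)⁻¹ * ((g : G) * y * (g : G)⁻¹)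
    group

theorem le_comap (g : N F) :
    (zpowers F.f).subgroupOf F.E ≤ ((zpowers F.f).subgroupOf F.E).comap (conjE F g) := by
  intro x hx
  rw [mem_comap, mem_subgroupOf]
  exact conj_mem_zpowers F g.2 hx

/-- The additive map induced on `W` by conjugation. -/
def act (g : N F) : W F →+ W F :=
  MonoidHom.toAdditive (QuotientGroup.map _ _ (conjE F g) (le_comap F g))

theorem act_q (g : N F) {x : G} (hx : x ∈ F.E) :
    act F g (q F x hx) = q F ((g : G) * x * (g : G)⁻¹) (conj_mem_E F g.2 hx) := rfl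

/-- The representation of `N_G(⟨f⟩)` on `W = E / ⟨f⟩`. -/
def ρ : N F →* Module.End (ZMod 5) (W F) where
  toFun g := (act F g).toZModLinearMap 5
  map_one' := by
    apply LinearMap.ext
    intro w
    obtain ⟨x, hx, rfl⟩ := q_surj F w
    show act F 1 (q F x hx) = q F x hx
    rw [act_q]
    exact (q_congr F _ (by simp))
  map_mul' g h := by
    apply LinearMap.ext
    intro w
    obtain ⟨x, hx, rfl⟩ := q_surj F w
    show act F (g * h) (q F x hx) = act F g (act F h (q F x hx))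
    rw [act_q, act_q, act_q]
    exact q_congr F _ (by rw [Subgroup.coe_mul]; group)

theorem ρ_q (g : N F) {x : G} (hx : x ∈ F.E) :
    ρ F g (q F x hx) = q F ((g : G) * x * (g : G)⁻¹) (conj_mem_E F g.2 hx) := rfl

theorem ρ_t : ρ F ⟨L.t, t_mem_N F⟩ = -1 := by
  apply LinearMap.ext
  intro w
  obtain ⟨x, hx, rfl⟩ := q_surj F w
  rw [ρ_q, LinearMap.neg_apply, Module.End.one_apply, ← sub_eq_zero, sub_neg_eq_add,
    ← q_mul F (conj_mem_E F (t_mem_N F) hx) hx, q_eq_zero_iff]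
  exact F.inv_t x hx

theorem ρ_E {e : G} (he : e ∈ F.E) : ρ F ⟨e, E_le_N F he⟩ = 1 := by
  apply LinearMap.ext
  intro w
  obtain ⟨x, hx, rfl⟩ := q_surj F w
  rw [ρ_q, Module.End.one_apply, q_eq_iff]
  have h := F.comm_E e he x⁻¹ (inv_mem hx)
  rw [inv_inv] at h
  have h2 : (e * x * e⁻¹)⁻¹ * x = e * x⁻¹ * e⁻¹ * x := by group
  show (e * x * e⁻¹)⁻¹ * x ∈ zpowers F.f
  rw [h2]
  exact h

/-! ### The commutator form -/

theorem pow_val_nat (n : ℕ) : F.f ^ ((n : ZMod 5)).val = F.f ^ n := by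
  rw [ZMod.val_natCast]
  conv_rhs => rw [← Nat.div_add_mod n 5, pow_add, pow_mul, F.f_pow, one_pow, one_mul]

theorem pow_val_add (a b : ZMod 5) : F.f ^ (a + b).val = F.f ^ a.val * F.f ^ b.val := by
  rw [← pow_add, ← pow_val_nat F (a.val + b.val), Nat.cast_add, ZMod.natCast_zmod_val,
    ZMod.natCast_zmod_val]

theorem pow_val_inj {a b : ZMod 5} (h : F.f ^ a.val = F.f ^ b.val) : a = b := by
  have h1 := pow_injOn_Iio_orderOf (x := F.f) (show a.val ∈ Set.Iio (orderOf F.f) by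
    rw [orderOf_f]; exact ZMod.val_lt a) (show b.val ∈ Set.Iio (orderOf F.f) by
    rw [orderOf_f]; exact ZMod.val_lt b) h
  exact ZMod.val_injective 5 h1

theorem exists_pow {x : G} (hx : x ∈ zpowers F.f) : ∃ k : ZMod 5, F.f ^ k.val = x := by
  obtain ⟨k, rfl⟩ := mem_zpowers_iff.1 hx
  refine ⟨(k : ZMod 5), ?_⟩
  rw [← zpow_natCast, ZMod.val_intCast, ← orderOf_f F, zpow_mod_orderOf]

theorem comm_mul_left {x x' y : G} (hx : x ∈ F.E) (hx' : x' ∈ F.E) (hy : y ∈ F.E) :
    (x * x') * y * (x * x')⁻¹ * y⁻¹ = (x * y * x⁻¹ * y⁻¹) * (x' * y * x'⁻¹ * y⁻¹) := by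
  have h := commute_of_mem F (F.comm_E x' hx' y hy) hx
  have h2 := commute_of_mem F (F.comm_E x' hx' y hy) (mul_mem (mul_mem (mul_mem hx hy) (inv_mem hx)) (inv_mem hy))
  calc (x * x') * y * (x * x')⁻¹ * y⁻¹ = (x * (x' * y * x'⁻¹ * y⁻¹)) * y * x⁻¹ * y⁻¹ := by group
    _ = (x' * y * x'⁻¹ * y⁻¹) * (x * y * x⁻¹ * y⁻¹) := by rw [h]; group
    _ = _ := h2.symm

theorem comm_mul_right {x y y' : G} (hx : x ∈ F.E) (hy : y ∈ F.E) (hy' : y' ∈ F.E) :
    x * (y * y') * x⁻¹ * (y * y')⁻¹ = (x * y * x⁻¹ * y⁻¹) * (x * y' * x⁻¹ * y'⁻¹) := by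
  have h := commute_of_mem F (F.comm_E x hx y' hy') (inv_mem hy)
  calc x * (y * y') * x⁻¹ * (y * y')⁻¹ = x * y * x⁻¹ * ((x * y' * x⁻¹ * y'⁻¹) * y⁻¹) := by group
    _ = _ := by rw [← h]; group

theorem comm_congr {x x' y y' : G} (hx : x ∈ F.E) (hx' : x' ∈ F.E) (hy : y ∈ F.E) (hy' : y' ∈ F.E)
    (h : q F x hx = q F x' hx') (h' : q F y hy = q F y' hy') :
    x * y * x⁻¹ * y⁻¹ = x' * y' * x'⁻¹ * y'⁻¹ := by
  rw [q_eq_iff] at h h'
  have c1 : ∀ e ∈ F.E, (x⁻¹ * x') * e * (x⁻¹ * x')⁻¹ * e⁻¹ = 1 := by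
    intro e he
    rw [← commute_of_mem F h he]; group
  have c2 : ∀ e ∈ F.E, e * (y⁻¹ * y') * e⁻¹ * (y⁻¹ * y')⁻¹ = 1 := by
    intro e he
    rw [commute_of_mem F h' he]; group
  have e1 : x' = x * (x⁻¹ * x') := by group
  have e2 : y' = y * (y⁻¹ * y') := by group
  rw [e1, e2, comm_mul_left F hx (zpowers_le_E F h) (mul_mem hy (zpowers_le_E F h')),
    c1 _ (mul_mem hy (zpowers_le_E F h')), mul_one, comm_mul_right F hx hy (zpowers_le_E F h'), c2 _ hx, mul_one]

theorem exists_β (v w : W F) : ∃ k : ZMod 5, ∀ x (hx : x ∈ F.E) y (hy : y ∈ F.E),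
    q F x hx = v → q F y hy = w → F.f ^ k.val = x * y * x⁻¹ * y⁻¹ := by
  obtain ⟨x₀, hx₀, rfl⟩ := q_surj F v
  obtain ⟨y₀, hy₀, rfl⟩ := q_surj F w
  obtain ⟨k, hk⟩ := exists_pow F (F.comm_E x₀ hx₀ y₀ hy₀)
  refine ⟨k, fun x hx y hy h h' => ?_⟩
  rw [hk]
  exact comm_congr F hx₀ hx hy₀ hy h.symm h'.symm

/-- The commutator form, as a function. -/
noncomputable def β₀ (v w : W F) : ZMod 5 := (exists_β F v w).choose

theorem β₀_spec {x y : G} (hx : x ∈ F.E) (hy : y ∈ F.E) :
    F.f ^ (β₀ F (q F x hx) (q F y hy)).val = x * y * x⁻¹ * y⁻¹ :=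
  (exists_β F (q F x hx) (q F y hy)).choose_spec x hx y hy rfl rfl

theorem β₀_add_left (v v' w : W F) : β₀ F (v + v') w = β₀ F v w + β₀ F v' w := by
  obtain ⟨x, hx, rfl⟩ := q_surj F v
  obtain ⟨x', hx', rfl⟩ := q_surj F v'
  obtain ⟨y, hy, rfl⟩ := q_surj F w
  apply pow_val_inj F
  rw [pow_val_add, β₀_spec, β₀_spec, ← q_mul F hx hx', β₀_spec, comm_mul_left F hx hx' hy]

theorem β₀_add_right (v w w' : W F) : β₀ F v (w + w') = β₀ F v w + β₀ F v w' := by
  obtain ⟨x, hx, rfl⟩ := q_surj F v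
  obtain ⟨y, hy, rfl⟩ := q_surj F w
  obtain ⟨y', hy', rfl⟩ := q_surj F w'
  apply pow_val_inj F
  rw [pow_val_add, β₀_spec, β₀_spec, ← q_mul F hy hy', β₀_spec, comm_mul_right F hx hy hy']

/-- The commutator form `W × W → 𝔽₅`. -/
noncomputable def β : W F →ₗ[ZMod 5] W F →ₗ[ZMod 5] ZMod 5 :=
  AddMonoidHom.toZModLinearMap 5 (AddMonoidHom.mk'
    (fun v => AddMonoidHom.toZModLinearMap 5 (AddMonoidHom.mk' (β₀ F v) (β₀_add_right F v)))
    (by intro v v'; apply LinearMap.ext; intro w; exact β₀_add_left F v v' w))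

theorem β_apply (v w : W F) : β F v w = β₀ F v w := rfl

theorem β_spec {x y : G} (hx : x ∈ F.E) (hy : y ∈ F.E) :
    F.f ^ (β F (q F x hx) (q F y hy)).val = x * y * x⁻¹ * y⁻¹ := β₀_spec F hx hy

theorem β_self (v : W F) : β F v v = 0 := by
  obtain ⟨x, hx, rfl⟩ := q_surj F v
  apply pow_val_inj F
  rw [β_spec F hx hx, ZMod.val_zero, pow_zero]
  group

theorem β_neg (v w : W F) : β F v w = - β F w v := by
  have h := β_self F (v + w)
  simp only [map_add, LinearMap.add_apply] at h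
  rw [β_self, β_self, zero_add, add_zero] at h
  rw [add_comm] at h
  exact eq_neg_of_add_eq_zero_left h

theorem β_nondeg {v : W F} (h : ∀ w, β F v w = 0) : v = 0 := by
  obtain ⟨x, hx, rfl⟩ := q_surj F v
  rw [q_eq_zero_iff]
  refine F.center_E x hx (fun y hy => ?_)
  have h1 := β_spec F hx hy
  rw [h, ZMod.val_zero, pow_zero] at h1
  calc x * y = (x * y * x⁻¹ * y⁻¹) * (y * x) := by group
    _ = y * x := by rw [← h1, one_mul]

theorem β_conj (g : N F) {k : ℕ} (hk : (g : G) * F.f * (g : G)⁻¹ = F.f ^ k) (v w : W F) :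
    β F (ρ F g v) (ρ F g w) = k * β F v w := by
  obtain ⟨x, hx, rfl⟩ := q_surj F v
  obtain ⟨y, hy, rfl⟩ := q_surj F w
  apply pow_val_inj F
  rw [ρ_q, ρ_q, β_spec]
  have h1 := β_spec F hx hy
  have h2 : (k : ZMod 5) * β F (q F x hx) (q F y hy) = ((k * (β F (q F x hx) (q F y hy)).val : ℕ) : ZMod 5) := by
    rw [Nat.cast_mul, ZMod.natCast_zmod_val]
  rw [h2, pow_val_nat, pow_mul, ← hk, conj_pow, h1]
  group

/-! ### Three-cycles -/

section linear

variable {V : Type*} [AddCommGroup V] [Module (ZMod 5) V] [FiniteDimensional (ZMod 5) V]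
  (B : V →ₗ[ZMod 5] V →ₗ[ZMod 5] ZMod 5)

theorem eq_zero_of_compl {B : V →ₗ[ZMod 5] V →ₗ[ZMod 5] ZMod 5} (self : ∀ v, B v v = 0)
    (nondeg : ∀ v, (∀ w, B v w = 0) → v = 0) {P Q : Submodule (ZMod 5) V} (hPQ : P ⊔ Q = ⊤)
    (h1 : Module.finrank (ZMod 5) P = 1) (horth : ∀ p ∈ P, ∀ r ∈ Q, B p r = 0) : False := by
  obtain ⟨v, hv0, hv⟩ := finrank_eq_one_iff'.1 h1
  apply hv0
  apply Subtype.ext
  apply nondeg
  intro w
  have hw : w ∈ P ⊔ Q := by rw [hPQ]; exact Submodule.mem_top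
  obtain ⟨p, hp, r, hr, rfl⟩ := Submodule.mem_sup.1 hw
  obtain ⟨c, hc⟩ := hv ⟨p, hp⟩
  have hc' : c • (v : V) = p := congrArg Subtype.val hc
  rw [map_add, horth _ v.2 _ hr, add_zero, ← hc', map_smul, self, smul_zero]

theorem finrank_ker_of_form (self : ∀ v, B v v = 0)
    (nondeg : ∀ v, (∀ w, B v w = 0) → v = 0) (h4 : Module.finrank (ZMod 5) V = 4)
    {X : Module.End (ZMod 5) V} (hX : X ^ 3 = 1) (hB : ∀ v w, B (X v) (X w) = B v w) (h1 : X ≠ 1)
    (h0 : ∃ v, v ≠ 0 ∧ X v = v) : Module.finrank (ZMod 5) (LinearMap.ker (X - 1)) = 2 := by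
  have hadd := LinearMap.finrank_range_add_finrank_ker (X - 1)
  rw [h4] at hadd
  have hker : ∀ v, v ∈ LinearMap.ker (X - 1) ↔ X v = v := by
    intro v
    rw [LinearMap.mem_ker, LinearMap.sub_apply, Module.End.one_apply, sub_eq_zero]
  have hX3 : ∀ w, X (X (X w)) = w := by
    intro w
    have := congrArg (fun f : Module.End (ZMod 5) V => f w) hX
    simpa [pow_succ] using this
  have hdisj : LinearMap.ker (X - 1) ⊓ LinearMap.range (X - 1) = ⊥ := by
    rw [eq_bot_iff]
    rintro v ⟨hv, hv'⟩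
    obtain ⟨w, hw⟩ := hv'
    rw [SetLike.mem_coe, hker] at hv
    rw [LinearMap.sub_apply, Module.End.one_apply] at hw
    have e1 : X (X w) - X w = v := by rw [← map_sub, hw, hv]
    have e2 : w - X (X w) = v := by
      have : X (X (X w)) - X (X w) = v := by rw [← map_sub, e1, hv]
      rwa [hX3] at this
    have e3 : v + v + v = 0 := by
      nth_rw 1 [← hw]
      nth_rw 1 [← e1]
      nth_rw 1 [← e2]
      abel
    have e4 : (3 : ZMod 5) • v = 0 := by
      have : (3 : ZMod 5) = 1 + 1 + 1 := by decide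
      rw [this, add_smul, add_smul, one_smul, e3]
    rcases smul_eq_zero.1 e4 with h | h
    · exact absurd h (by decide)
    · rw [Submodule.mem_bot]
      exact h
  have hsup : LinearMap.ker (X - 1) ⊔ LinearMap.range (X - 1) = ⊤ := by
    apply Submodule.eq_top_of_finrank_eq
    have := Submodule.finrank_sup_add_finrank_inf_eq (LinearMap.ker (X - 1)) (LinearMap.range (X - 1))
    rw [hdisj, finrank_bot] at this
    rw [h4]
    omega
  have horth : ∀ p ∈ LinearMap.ker (X - 1), ∀ r ∈ LinearMap.range (X - 1), B p r = 0 := by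
    rintro p hp r ⟨w, rfl⟩
    rw [hker] at hp
    rw [LinearMap.sub_apply, Module.End.one_apply, map_sub]
    nth_rw 1 [← hp]
    rw [hB, sub_self]
  have horth' : ∀ r ∈ LinearMap.range (X - 1), ∀ p ∈ LinearMap.ker (X - 1), B r p = 0 := by
    intro r hr p hp
    have e := self (r + p)
    simp only [map_add, LinearMap.add_apply] at e
    rw [self, self, horth p hp r hr, zero_add, add_zero, zero_add] at e
    exact e
  have k1 : Module.finrank (ZMod 5) (LinearMap.ker (X - 1)) ≠ 1 := by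
    intro h
    exact eq_zero_of_compl self nondeg hsup h horth
  have k3 : Module.finrank (ZMod 5) (LinearMap.range (X - 1)) ≠ 1 := by
    intro h
    exact eq_zero_of_compl self nondeg (sup_comm (LinearMap.ker (X - 1)) _ ▸ hsup) h horth'
  have k0 : Module.finrank (ZMod 5) (LinearMap.ker (X - 1)) ≠ 0 := by
    intro h
    obtain ⟨v, hv, hXv⟩ := h0
    have h2 := Submodule.finrank_eq_zero.1 h
    have h3 : v ∈ LinearMap.ker (X - 1) := (hker v).2 hXv
    rw [h2, Submodule.mem_bot] at h3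
    exact hv h3
  have k4 : Module.finrank (ZMod 5) (LinearMap.range (X - 1)) ≠ 0 := by
    intro h
    have h2 := Submodule.finrank_eq_zero.1 h
    rw [LinearMap.range_eq_bot, sub_eq_zero] at h2
    exact h1 h2
  omega

end linear

/-- The lift of a 3-cycle commuting with `f` has a two-dimensional fixed space on `W`. -/
theorem finrank_fixed (x y : N F) (hxt : (x : G) * L.t = L.t * x) (hx3 : (x : G) ^ 3 = 1)
    (hx : (L.K.π ⟨x, L.mem_iff.2 hxt⟩).cycleType = {3}) (hxf : (x : G) * F.f = F.f * x)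
    (h : ((x : G) * ((y : G) * x * (y : G)⁻¹)) ^ 2 = L.t) :
    Module.finrank (ZMod 5) (LinearMap.ker (ρ F x - 1)) = 2 := by
  refine finrank_ker_of_form (β F) (β_self F) (fun v => β_nondeg F) (finrank_W F) ?_ ?_ ?_ ?_
  · rw [← map_pow]
    have : x ^ 3 = 1 := Subtype.ext (by rw [Subgroup.coe_pow, hx3, Subgroup.coe_one])
    rw [this, map_one]
  · intro v w
    have := β_conj F x (k := 1) (by rw [pow_one, hxf, mul_inv_cancel_right]) v w
    rw [this, Nat.cast_one, one_mul]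
  · intro h1
    have e1 : (x * (y * x * y⁻¹)) ^ 2 = ⟨L.t, t_mem_N F⟩ := Subtype.ext (by simpa using h)
    have e2 := congrArg (ρ F) e1
    rw [ρ_t, map_pow, map_mul, map_mul, map_mul, h1, mul_one, one_mul, ← map_mul, mul_inv_cancel, map_one,
      one_pow] at e2
    -- `1 = -1` on `W`
    have hcard := card_W F
    have hsub : Subsingleton (W F) := by
      constructor
      intro a b
      have key : ∀ w : W F, w = 0 := by
        intro w
        have e3 := congrArg (fun f : Module.End (ZMod 5) (W F) => f w) e2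
        simp only [Module.End.one_apply, LinearMap.neg_apply] at e3
        have e4 : (2 : ZMod 5) • w = 0 := by
          have : (2 : ZMod 5) = 1 + 1 := by decide
          rw [this, add_smul, one_smul]
          nth_rw 1 [e3]
          exact neg_add_cancel w
        rcases smul_eq_zero.1 e4 with h5 | h5
        · exact absurd h5 (by decide)
        · exact h5
      rw [key a, key b]
    have := Nat.card_eq_one_iff_unique.2 ⟨hsub, ⟨0⟩⟩
    omega
  · obtain ⟨e, he, hne, hcomm⟩ := F.three x hxt hx3 hx hxf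
    refine ⟨q F e he, ?_, ?_⟩
    · rw [Ne, q_eq_zero_iff]
      exact hne
    · rw [ρ_q]
      exact (q_congr F he (by rw [← hcomm, mul_inv_cancel_right])).symm

end Cfsg.Agent.R10.NGenW
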