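import Cfsg.Agent.Ly.T1
import Mathlib.Tactic.Group

/-!
# Relator (83) of the presentation of the Lyons group

`w = x47 z x364 z x368 z`.  The elements `c2, c4, c5` and `s = a1 a3 a1 a2 a1` stay in `⟨c1,…,c5,a1,a2,a3⟩` when they are
conjugated successively by `x47, z, x364, z, x368, z` (relations 1–44 and 73–80 only) and come back to themselves.  Hence
`w` commutes with `V = ⟨c2,c4,c5⟩` and with `s`.  In a group of Lyons type `C(V) = V`, and `C_V(s) = 1`, so `w = 1`.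
-/

set_option autoImplicit false

namespace Cfsg.Agent.R10.Rel83

open Cfsg.Agent.Ly.Mat7
open Cfsg.Agent.SporRec.LyG2.Rel (Rel44)

/-- `c1 … c5, a1, a2, a3` as words in `a b c d`. -/
def X8 : ℕ → List ℕ
  | 0 => [2]
  | 1 => [4, 2, 0]
  | 2 => [5, 2, 1]
  | 3 => [1, 2, 5]
  | 4 => [6, 4, 6, 0, 2, 4, 2, 0]
  | 5 => [0]
  | 6 => [1, 0, 5]
  | 7 => [1, 1, 0, 5, 5]
  | _ => []

/-- their conjugates under `z` as words in `a b c d` : `x162 … x169` -/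
def Z8 : ℕ → List ℕ
  | 0 => [4, 5, 4, 1, 6, 5, 0, 6, 1, 0]
  | 1 => [5, 5, 0, 2, 4, 1, 2, 1]
  | 2 => [4, 5, 4, 2, 0, 1, 0]
  | 3 => [5, 4, 1, 2, 5, 0, 1]
  | 4 => [1, 1, 4, 5, 2, 1, 0, 2, 5, 5, 6]
  | 5 => [4, 4, 4]
  | 6 => [1, 4, 5, 4, 4]
  | 7 => [0, 1, 1, 0, 5, 5, 4]
  | _ => []

/-- Relations 73–80. -/
def RelZ {G : Type*} [Group G] (x : Fin 4 → G) (z : G) : Prop := ∀ k, z⁻¹ * ev x (X8 k) * z = ev x (Z8 k)

theorem RelZ.conj {G : Type*} [Group G] {x : Fin 4 → G} {z : G} (hz : RelZ x z) (y : List ℕ) :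
    z⁻¹ * ev x (y.flatMap X8) * z = ev x (y.flatMap Z8) := by
  induction y with
  | nil => simp [ev_nil]
  | cons k y ih =>
    rw [List.flatMap_cons, List.flatMap_cons, ev_append, ev_append, ← hz k, ← ih]
    group

/-- The relations 73–80 in the printed form. -/
theorem RelZ.of_rel {G : Type*} [Group G] {a b c d z c1 c2 c3 c4 c5 a1 a2 a3 : G}
    (h1 : c1 = c) (h2 : c2 = a⁻¹ * c * a) (h3 : c3 = b⁻¹ * c * b) (h4 : c4 = (b⁻¹)⁻¹ * c * (b⁻¹))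
    (h5 : c5 = c1⁻¹ * c2⁻¹ * c1 * c2) (h6 : a1 = a) (h7 : a2 = (b⁻¹)⁻¹ * a * (b⁻¹))
    (h8 : a3 = ((b ^ 2)⁻¹)⁻¹ * a * ((b ^ 2)⁻¹))
    (h73 : z⁻¹ * c1 * z = (a⁻¹) * (b⁻¹) * (a⁻¹) * b * (c⁻¹) * (b⁻¹) * a * (c⁻¹) * b * a)
    (h74 : z⁻¹ * c2 * z = ((b ^ 2)⁻¹) * a * c * (a⁻¹) * b * c * b)
    (h75 : z⁻¹ * c3 * z = (a⁻¹) * (b⁻¹) * (a⁻¹) * c * a * b * a)
    (h76 : z⁻¹ * c4 * z = (b⁻¹) * (a⁻¹) * b * c * (b⁻¹) * a * b)
    (h77 : z⁻¹ * c5 * z = (b ^ 2) * (a⁻¹) * (b⁻¹) * c * b * a * c * ((b ^ 2)⁻¹) * (c⁻¹))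
    (h78 : z⁻¹ * a1 * z = (a ^ 3)⁻¹)
    (h79 : z⁻¹ * a2 * z = b * (a⁻¹) * (b⁻¹) * ((a ^ 2)⁻¹))
    (h80 : z⁻¹ * a3 * z = a * (b ^ 2) * a * ((b ^ 2)⁻¹) * (a⁻¹)) : RelZ ![a, b, c, d] z := by
  subst h1 h2 h3 h4 h5 h6 h7 h8
  intro k
  match k with
  | 0 =>
    rw [show ev ![a1, b, c1, d] (X8 0) = c1 by simp [ev, X8, letter], h73]
    simp [ev, Z8, letter, mul_assoc]
  | 1 =>
    rw [show ev ![a1, b, c1, d] (X8 1) = a1⁻¹ * c1 * a1 by simp [ev, X8, letter, mul_assoc], h74]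
    simp [ev, Z8, letter, mul_assoc, pow_two]
  | 2 =>
    rw [show ev ![a1, b, c1, d] (X8 2) = b⁻¹ * c1 * b by simp [ev, X8, letter, mul_assoc], h75]
    simp [ev, Z8, letter, mul_assoc]
  | 3 =>
    rw [show ev ![a1, b, c1, d] (X8 3) = (b⁻¹)⁻¹ * c1 * (b⁻¹) by simp [ev, X8, letter, mul_assoc], h76]
    simp [ev, Z8, letter, mul_assoc]
  | 4 =>
    rw [show ev ![a1, b, c1, d] (X8 4) = c1⁻¹ * (a1⁻¹ * c1 * a1)⁻¹ * c1 * (a1⁻¹ * c1 * a1) by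
      simp [ev, X8, letter, mul_assoc], h77]
    simp [ev, Z8, letter, mul_assoc, pow_two]
  | 5 =>
    rw [show ev ![a1, b, c1, d] (X8 5) = a1 by simp [ev, X8, letter], h78]
    simp [ev, Z8, letter, mul_assoc, pow_succ]
  | 6 =>
    rw [show ev ![a1, b, c1, d] (X8 6) = (b⁻¹)⁻¹ * a1 * (b⁻¹) by simp [ev, X8, letter, mul_assoc], h79]
    simp [ev, Z8, letter, mul_assoc, pow_two]
  | 7 =>
    rw [show ev ![a1, b, c1, d] (X8 7) = ((b ^ 2)⁻¹)⁻¹ * a1 * ((b ^ 2)⁻¹) by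
      simp [ev, X8, letter, mul_assoc, pow_two], h80]
    simp [ev, Z8, letter, mul_assoc, pow_two]
  | n + 8 => simp [ev, X8, Z8]

def x47 : List ℕ := [6, 7, 4, 6, 4, 1, 6, 7]
def x364 : List ℕ := [4, 3, 5, 6, 4, 1, 6, 7, 1, 6, 5, 4, 6, 0, 5, 0, 1, 0, 5]
def x368 : List ℕ := [4, 6, 7, 0, 6, 5, 0, 6, 7, 4, 6, 0, 2, 5, 5, 6, 5, 4, 5, 5]

/-- Kernel check of a closed path `y0 → y1 → y2 → y3 → y0`. -/
noncomputable def chk (y0 y1 y2 y3 : List ℕ) : Bool :=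
  eqW (invW x47 ++ (y0.flatMap X8 ++ x47)) (y1.flatMap X8) &&
  eqW (invW x364 ++ (y1.flatMap Z8 ++ x364)) (y2.flatMap X8) &&
  eqW (invW x368 ++ (y2.flatMap Z8 ++ x368)) (y3.flatMap X8) &&
  eqW (y3.flatMap Z8) (y0.flatMap X8)

section

variable {G : Type*} [Group G] {a b c d e c1 c2 c3 c4 c5 z : G}

/-- `w = x47 z x364 z x368 z` -/
def wd (x : Fin 4 → G) (z : G) : G := ev x x47 * z * ev x x364 * z * ev x x368 * z

theorem conj_wd (h : Rel44 a b c d e c1 c2 c3 c4 c5) (hz : RelZ ![a, b, c, d] z) {y0 y1 y2 y3 : List ℕ}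
    (hc : chk y0 y1 y2 y3 = true) :
    (wd ![a, b, c, d] z)⁻¹ * ev ![a, b, c, d] (y0.flatMap X8) * wd ![a, b, c, d] z =
      ev ![a, b, c, d] (y0.flatMap X8) := by
  unfold chk at hc
  simp only [Bool.and_eq_true] at hc
  obtain ⟨⟨⟨k1, k2⟩, k3⟩, k4⟩ := hc
  have e1 := Cfsg.Agent.Ly.T1.ev_eq_of h (word_eq k1)
  have e2 := Cfsg.Agent.Ly.T1.ev_eq_of h (word_eq k2)
  have e3 := Cfsg.Agent.Ly.T1.ev_eq_of h (word_eq k3)
  have e4 := Cfsg.Agent.Ly.T1.ev_eq_of h (word_eq k4)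
  simp only [ev_append, ev_invW] at e1 e2 e3
  have z1 := hz.conj y1
  have z2 := hz.conj y2
  have z3 := hz.conj y3
  unfold wd
  generalize ev ![a, b, c, d] x47 = p at *
  generalize ev ![a, b, c, d] x364 = q at *
  generalize ev ![a, b, c, d] x368 = r at *
  generalize ev ![a, b, c, d] (y0.flatMap X8) = Y0 at *
  calc (p * z * q * z * r * z)⁻¹ * Y0 * (p * z * q * z * r * z)
      = z⁻¹ * (r⁻¹ * ((z⁻¹ * (q⁻¹ * ((z⁻¹ * (p⁻¹ * (Y0 * p)) * z) * q)) * z) * r)) * z := by group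
    _ = Y0 := by rw [e1, z1, e2, z2, e3, z3, e4]

theorem fix_c2 (h : Rel44 a b c d e c1 c2 c3 c4 c5) (hz : RelZ ![a, b, c, d] z) :
    (wd ![a, b, c, d] z)⁻¹ * ev ![a, b, c, d] (X8 1) * wd ![a, b, c, d] z = ev ![a, b, c, d] (X8 1) :=
  conj_wd h hz (y0 := [1]) (y1 := [0, 1, 2, 3, 3, 3, 4]) (y2 := [2, 2, 2, 3, 3, 4, 4])
    (y3 := [0, 1, 1, 1, 1, 2, 2, 2, 2, 3, 4]) (by decide +kernel)

theorem fix_c4 (h : Rel44 a b c d e c1 c2 c3 c4 c5) (hz : RelZ ![a, b, c, d] z) :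
    (wd ![a, b, c, d] z)⁻¹ * ev ![a, b, c, d] (X8 3) * wd ![a, b, c, d] z = ev ![a, b, c, d] (X8 3) :=
  conj_wd h hz (y0 := [3]) (y1 := [0, 0, 0, 1, 1, 1, 2, 2, 2, 3, 3, 3, 3, 4]) (y2 := [0, 0, 0, 3, 3, 4])
    (y3 := [0, 0, 1, 1, 1, 2, 3, 3]) (by decide +kernel)

theorem fix_c5 (h : Rel44 a b c d e c1 c2 c3 c4 c5) (hz : RelZ ![a, b, c, d] z) :
    (wd ![a, b, c, d] z)⁻¹ * ev ![a, b, c, d] (X8 4) * wd ![a, b, c, d] z = ev ![a, b, c, d] (X8 4) :=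
  conj_wd h hz (y0 := [4]) (y1 := [0, 0, 0, 1, 1, 1, 1, 2, 2, 2, 2, 3, 3, 4]) (y2 := [2, 2, 3, 3, 3, 4, 4, 4])
    (y3 := [4, 4, 4]) (by decide +kernel)

/-- `s = a1 a3 a1 a2 a1` -/
def sW : List ℕ := [0, 1, 1, 0, 5, 5, 0, 1, 0, 5, 0]

theorem fix_s (h : Rel44 a b c d e c1 c2 c3 c4 c5) (hz : RelZ ![a, b, c, d] z) :
    (wd ![a, b, c, d] z)⁻¹ * ev ![a, b, c, d] sW * wd ![a, b, c, d] z = ev ![a, b, c, d] sW :=
  conj_wd h hz (y0 := [5, 7, 5, 6, 5]) (y1 := [0, 1, 1, 1, 2, 2, 2, 2, 3, 3, 5, 5, 5, 5, 5, 5])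
    (y2 := [0, 2, 2, 2, 3, 4, 4, 5, 5, 6, 7, 5]) (y3 := [5, 5, 7, 6, 5]) (by decide +kernel)

theorem ev_X1 (h : Rel44 a b c d e c1 c2 c3 c4 c5) : ev ![a, b, c, d] (X8 1) = c2 := by
  rw [mul_inv_eq_one.mp h.r7]
  simp [ev, X8, letter, mul_assoc]

theorem ev_X3 (h : Rel44 a b c d e c1 c2 c3 c4 c5) : ev ![a, b, c, d] (X8 3) = c4 := by
  rw [mul_inv_eq_one.mp h.r9]
  simp [ev, X8, letter, mul_assoc]

theorem ev_X4 (h : Rel44 a b c d e c1 c2 c3 c4 c5) : ev ![a, b, c, d] (X8 4) = c5 := by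
  rw [mul_inv_eq_one.mp h.r10, mul_inv_eq_one.mp h.r6, mul_inv_eq_one.mp h.r7]
  simp [ev, X8, letter, mul_assoc]

/-- The conjugates under `s` of `c2, c4, c5`. -/
theorem conj_s (h : Rel44 a b c d e c1 c2 c3 c4 c5) :
    (ev ![a, b, c, d] sW)⁻¹ * c2 * ev ![a, b, c, d] sW = c2 ^ 2 ∧
    (ev ![a, b, c, d] sW)⁻¹ * c4 * ev ![a, b, c, d] sW = c2 ^ 4 * c4 ^ 4 ∧
    (ev ![a, b, c, d] sW)⁻¹ * c5 * ev ![a, b, c, d] sW = c5 ^ 2 := by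
  have k1 : eqW (invW sW ++ (X8 1 ++ sW)) (X8 1 ++ X8 1) = true := by decide +kernel
  have k2 : eqW (invW sW ++ (X8 3 ++ sW)) (X8 1 ++ (X8 1 ++ (X8 1 ++ (X8 1 ++ (X8 3 ++ (X8 3 ++ (X8 3 ++ X8 3))))))) =
      true := by decide +kernel
  have k3 : eqW (invW sW ++ (X8 4 ++ sW)) (X8 4 ++ X8 4) = true := by decide +kernel
  have e1 := Cfsg.Agent.Ly.T1.ev_eq_of h (word_eq k1)
  have e2 := Cfsg.Agent.Ly.T1.ev_eq_of h (word_eq k2)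
  have e3 := Cfsg.Agent.Ly.T1.ev_eq_of h (word_eq k3)
  simp only [ev_append, ev_invW, ev_X1 h, ev_X3 h, ev_X4 h] at e1 e2 e3
  refine ⟨?_, ?_, ?_⟩
  · rw [mul_assoc, e1, pow_two]
  · rw [mul_assoc, e2]
    simp only [pow_succ, pow_zero, one_mul, mul_assoc]
  · rw [mul_assoc, e3, pow_two]

theorem key {V : Type*} [CommGroup V] (f : V →* V) {S : Set V} (hS : Subgroup.closure S = ⊤)
    (hf : ∀ x ∈ S, f (f x) * (f x)⁻¹ * x ^ 3 = 1) (h5 : ∀ x ∈ S, x ^ 5 = 1) (x : V) (hx : f x = x) : x = 1 := by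
  have h1 : (f.comp f * f⁻¹ * powMonoidHom 3 : V →* V) = 1 :=
    MonoidHom.eq_of_eqOn_dense hS fun x hx => hf x hx
  have h2 : (powMonoidHom 5 : V →* V) = 1 := MonoidHom.eq_of_eqOn_dense hS fun x hx => h5 x hx
  have h3 : f (f x) * (f x)⁻¹ * x ^ 3 = 1 := DFunLike.congr_fun h1 x
  have h4 : x ^ 5 = 1 := DFunLike.congr_fun h2 x
  rw [hx, hx, mul_inv_cancel, one_mul] at h3
  calc x = x ^ 6 * (x ^ 5)⁻¹ := by group
    _ = 1 := by rw [h4, show x ^ 6 = (x ^ 3) ^ 2 by rw [← pow_mul], h3]; simp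

/-- Relator (83), under the hypothesis that `⟨c2,c4,c5⟩` is its own centraliser. -/
theorem wd_eq_one (h : Rel44 a b c d e c1 c2 c3 c4 c5) (hz : RelZ ![a, b, c, d] z)
    (hC : ∀ g : G, g * c2 = c2 * g → g * c4 = c4 * g → g * c5 = c5 * g → g ∈ Subgroup.closure {c2, c4, c5}) :
    wd ![a, b, c, d] z = 1 := by
  have hcomm : ∀ {g v : G}, g⁻¹ * v * g = v → g * v = v * g := by
    intro g v hv
    conv_lhs => rw [← hv]
    group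
  have f2 := fix_c2 h hz
  have f4 := fix_c4 h hz
  have f5 := fix_c5 h hz
  rw [ev_X1 h] at f2
  rw [ev_X3 h] at f4
  rw [ev_X4 h] at f5
  have hw := hC _ (hcomm f2) (hcomm f4) (hcomm f5)
  have fs := fix_s h hz
  obtain ⟨s2, s4, s5⟩ := conj_s h
  generalize wd ![a, b, c, d] z = w at *
  generalize ev ![a, b, c, d] sW = s at *
  have c24 : c2 * c4 = c4 * c2 := by
    have := h.r20
    have e1 : c2 * c4 = c4 * c2 * (c2⁻¹ * c4⁻¹ * c2 * c4) := by group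
    rw [this, mul_one] at e1
    exact e1
  have c25 : c2 * c5 = c5 * c2 := by
    have := h.r14
    have e1 : c2 * c5 = c5 * c2 * (c2⁻¹ * c5⁻¹ * c2 * c5) := by group
    rw [this, mul_one] at e1
    exact e1
  have c45 : c4 * c5 = c5 * c4 := by
    have := h.r16
    have e1 : c4 * c5 = c5 * c4 * (c4⁻¹ * c5⁻¹ * c4 * c5) := by group
    rw [this, mul_one] at e1
    exact e1
  have hab : ∀ x ∈ ({c2, c4, c5} : Set G), ∀ y ∈ ({c2, c4, c5} : Set G), x * y = y * x := by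
    rintro x (rfl | rfl | rfl) y (rfl | rfl | rfl) <;> first | rfl | assumption | (symm; assumption)
  letI : CommGroup (Subgroup.closure ({c2, c4, c5} : Set G)) := Subgroup.closureCommGroupOfComm hab
  have m2 : c2 ∈ Subgroup.closure ({c2, c4, c5} : Set G) := Subgroup.subset_closure (by simp)
  have m4 : c4 ∈ Subgroup.closure ({c2, c4, c5} : Set G) := Subgroup.subset_closure (by simp)
  have m5 : c5 ∈ Subgroup.closure ({c2, c4, c5} : Set G) := Subgroup.subset_closure (by simp)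
  have hnorm : ∀ x ∈ Subgroup.closure ({c2, c4, c5} : Set G), s⁻¹ * x * s ∈ Subgroup.closure ({c2, c4, c5} : Set G) := by
    intro x hx
    induction hx using Subgroup.closure_induction with
    | mem x hx =>
      rcases hx with rfl | rfl | rfl
      · rw [s2]; exact pow_mem m2 _
      · rw [s4]; exact mul_mem (pow_mem m2 _) (pow_mem m4 _)
      · rw [s5]; exact pow_mem m5 _
    | one => simp
    | mul x y _ _ hx hy =>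
      have := mul_mem hx hy
      rwa [show s⁻¹ * x * s * (s⁻¹ * y * s) = s⁻¹ * (x * y) * s by group] at this
    | inv x _ hx =>
      have := inv_mem hx
      rwa [show (s⁻¹ * x * s)⁻¹ = s⁻¹ * x⁻¹ * s by group] at this
  let f : Subgroup.closure ({c2, c4, c5} : Set G) →* Subgroup.closure ({c2, c4, c5} : Set G) :=
    { toFun := fun x => ⟨s⁻¹ * x.1 * s, hnorm x.1 x.2⟩
      map_one' := Subtype.ext (by simp)
      map_mul' := fun x y => Subtype.ext (by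
        change s⁻¹ * (x.1 * y.1) * s = s⁻¹ * x.1 * s * (s⁻¹ * y.1 * s)
        group) }
  have h5 : c2 ^ 5 = 1 ∧ c4 ^ 5 = 1 ∧ c5 ^ 5 = 1 := by
    refine ⟨?_, ?_, h.r12⟩
    · rw [mul_inv_eq_one.mp h.r7, ← mul_inv_eq_one.mp h.r6]
      have e1 : (a⁻¹ * c1 * a) ^ 5 = a⁻¹ * c1 ^ 5 * a := by simp [pow_succ, mul_assoc]
      rw [e1, h.r11]
      group
    · rw [mul_inv_eq_one.mp h.r9, ← mul_inv_eq_one.mp h.r6]
      have e1 : ((b⁻¹)⁻¹ * c1 * b⁻¹) ^ 5 = (b⁻¹)⁻¹ * c1 ^ 5 * b⁻¹ := by simp [pow_succ, mul_assoc]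
      rw [e1, h.r11]
      group
  have k2 : (⟨c2, m2⟩ : Subgroup.closure ({c2, c4, c5} : Set G)) ^ 5 = 1 := Subtype.ext h5.1
  have k4 : (⟨c4, m4⟩ : Subgroup.closure ({c2, c4, c5} : Set G)) ^ 5 = 1 := Subtype.ext h5.2.1
  have k5 : (⟨c5, m5⟩ : Subgroup.closure ({c2, c4, c5} : Set G)) ^ 5 = 1 := Subtype.ext h5.2.2
  have g2 : f ⟨c2, m2⟩ = ⟨c2, m2⟩ ^ 2 := Subtype.ext s2
  have g4 : f ⟨c4, m4⟩ = ⟨c2, m2⟩ ^ 4 * ⟨c4, m4⟩ ^ 4 := Subtype.ext s4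
  have g5 : f ⟨c5, m5⟩ = ⟨c5, m5⟩ ^ 2 := Subtype.ext s5
  have main : (⟨w, hw⟩ : Subgroup.closure ({c2, c4, c5} : Set G)) = 1 := by
    refine key f (S := ((↑) : Subgroup.closure ({c2, c4, c5} : Set G) → G) ⁻¹' {c2, c4, c5})
      (Subgroup.closure_closure_coe_preimage) ?_ ?_ _ ?_
    · rintro ⟨x, hx⟩ (hx' | hx' | hx')
      · obtain rfl : x = c2 := hx'
        rw [g2, map_pow, g2]
        calc ((⟨x, m2⟩ : Subgroup.closure ({x, c4, c5} : Set G)) ^ 2) ^ 2 * (⟨x, m2⟩ ^ 2)⁻¹ * ⟨x, m2⟩ ^ 3 =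
            ⟨x, m2⟩ ^ 5 := by group
          _ = 1 := k2
      · obtain rfl : x = c4 := hx'
        rw [g4, map_mul, map_pow, map_pow, g2, g4]
        generalize (⟨c2, m2⟩ : Subgroup.closure ({c2, x, c5} : Set G)) = X at *
        generalize (⟨x, m4⟩ : Subgroup.closure ({c2, x, c5} : Set G)) = Y at *
        rw [mul_pow]
        have e1 : (X ^ 2) ^ 4 * ((X ^ 4) ^ 4 * (Y ^ 4) ^ 4) * Y ^ 3 = X ^ 4 * Y ^ 4 := by
          calc (X ^ 2) ^ 4 * ((X ^ 4) ^ 4 * (Y ^ 4) ^ 4) * Y ^ 3 =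
              X ^ 4 * (X ^ 5) ^ 4 * (Y ^ 5) ^ 3 * Y ^ 4 := by group
            _ = X ^ 4 * Y ^ 4 := by rw [k2, k4]; simp
        rw [mul_right_comm, e1, mul_inv_cancel]
      · obtain rfl : x = c5 := hx'
        rw [g5, map_pow, g5]
        calc ((⟨x, m5⟩ : Subgroup.closure ({c2, c4, x} : Set G)) ^ 2) ^ 2 * (⟨x, m5⟩ ^ 2)⁻¹ * ⟨x, m5⟩ ^ 3 =
            ⟨x, m5⟩ ^ 5 := by group
          _ = 1 := k5
    · rintro ⟨x, hx⟩ (hx' | hx' | hx')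
      · obtain rfl : x = c2 := hx'
        exact k2
      · obtain rfl : x = c4 := hx'
        exact k4
      · obtain rfl : x = c5 := hx'
        exact k5
    · apply Subtype.ext
      change s⁻¹ * w * s = w
      have e1 : s⁻¹ * w * s = w * (w⁻¹ * s * w)⁻¹ * s := by group
      rw [e1, fs]
      group
  exact congrArg Subtype.val main

/-- Relator (83) in the printed form, under the hypothesis that `⟨c2,c4,c5⟩` is its own centraliser. -/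
theorem rel83 (h : Rel44 a b c d e c1 c2 c3 c4 c5) (hz : RelZ ![a, b, c, d] z)
    (hC : ∀ g : G, g * c2 = c2 * g → g * c4 = c4 * g → g * c5 = c5 * g → g ∈ Subgroup.closure {c2, c4, c5}) :
    ((c⁻¹) * (d⁻¹) * (a⁻¹) * (c⁻¹) * (a⁻¹) * b * (c⁻¹) * (d⁻¹)) * z *
      ((a⁻¹) * d * (b⁻¹) * (c⁻¹) * (a⁻¹) * b * (c⁻¹) * (d⁻¹) * b * (c⁻¹) * (b⁻¹) * (a⁻¹) * (c⁻¹) * a * (b⁻¹) * a *
        b * a * (b⁻¹)) * z *
      ((a⁻¹) * (c⁻¹) * (d⁻¹) * a * (c⁻¹) * (b⁻¹) * a * (c⁻¹) * (d⁻¹) * (a⁻¹) * (c⁻¹) * a * c * ((b ^ 2)⁻¹) *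
        (c⁻¹) * (b⁻¹) * (a⁻¹) * ((b ^ 2)⁻¹)) * z = 1 := by
  have h1 := wd_eq_one h hz hC
  have e47 : ev ![a, b, c, d] x47 = (c⁻¹) * (d⁻¹) * (a⁻¹) * (c⁻¹) * (a⁻¹) * b * (c⁻¹) * (d⁻¹) := by
    simp [ev, x47, letter, mul_assoc]
  have e364 : ev ![a, b, c, d] x364 = (a⁻¹) * d * (b⁻¹) * (c⁻¹) * (a⁻¹) * b * (c⁻¹) * (d⁻¹) * b * (c⁻¹) * (b⁻¹) *
      (a⁻¹) * (c⁻¹) * a * (b⁻¹) * a * b * a * (b⁻¹) := by
    simp [ev, x364, letter, mul_assoc]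
  have e368 : ev ![a, b, c, d] x368 = (a⁻¹) * (c⁻¹) * (d⁻¹) * a * (c⁻¹) * (b⁻¹) * a * (c⁻¹) * (d⁻¹) * (a⁻¹) *
      (c⁻¹) * a * c * ((b ^ 2)⁻¹) * (c⁻¹) * (b⁻¹) * (a⁻¹) * ((b ^ 2)⁻¹) := by
    simp [ev, x368, letter, mul_assoc, pow_two]
  rw [wd, e47, e364, e368] at h1
  exact h1

end

end Cfsg.Agent.R10.Rel83
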