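import Cfsg.Agent.R10.EndBase
import Cfsg.Agent.R10.TEval

/-!
# Relator (86) of the Lyons group

`m = [z, b d]` is an involution over `(3 5)(4 10)(6 9)(7 8)` which commutes with `a` and `b a b⁻¹`.  Relator (86) says
that it also commutes with `ρ = a d b⁻¹ c⁻¹ d a c⁻¹ b a⁻¹ b⁻¹ c b⁻¹ d⁻¹ c⁻¹`, an element of order 3 normalising the
four-group `⟨t, t'⟩`, `t' = b⁻² a b² d`.  The conjugate `y = ρ m ρ⁻¹` lies in the centraliser of `t`; exact computations
there identify it with `m`.
-/

set_option autoImplicit false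

namespace Cfsg.Agent.R10.Rel86Base

open Equiv Subgroup
open Cfsg.Agent.CharactersDeep.DoubleCover
open Cfsg.Agent.SporadicRecognition.CosetCert (ev ev_nil ev_cons ev_append)
open Cfsg.Agent.R10.TCalc Cfsg.Agent.R10.TEval Cfsg.Agent.R10.EndBase
open Cfsg.Agent.SporRec

/-- words in transpositions for the letters -/
def tf : ℕ → List (Fin 11 × Fin 11)
  | 0 => [(0, 1), (6, 8), (8, 9), (9, 7)]
  | 1 => [(9, 7), (8, 9), (6, 8), (0, 1)]
  | 2 => [(0, 1), (1, 2), (2, 3), (3, 4)]
  | 3 => [(3, 4), (2, 3), (1, 2), (0, 1)]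
  | 6 => [(5, 10), (7, 8)]
  | 7 => [(7, 8), (5, 10)]
  | 16 => [(5, 6), (6, 7), (7, 8), (8, 9)]
  | 17 => [(8, 9), (7, 8), (6, 7), (5, 6)]
  | 46 => [(4, 10), (6, 8), (8, 9), (9, 7)]
  | 47 => [(9, 7), (8, 9), (6, 8), (4, 10)]
  | _ => []

/-- action of a word -/
def act (w : List (Fin 11 × Fin 11)) (x : Fin 11) : Fin 11 := w.foldr (fun p x => sw p.1 p.2 x) x

theorem pm_apply (w : List (Fin 11 × Fin 11)) (x : Fin 11) : pm w x = act w x := by
  induction w with
  | nil => rfl
  | cons p w ih =>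
    have : pm (p :: w) = swap p.1 p.2 * pm w := by simp [pm]
    rw [this, Perm.mul_apply, ih, ← sw_eq]
    rfl

section EV

variable {G : Type*} [Group G] {t : G} {E : centralizer ({t} : Set G) →* cover 11}

theorem EV.proj_apply {x : G} {s : Bool} {w : List (Fin 11 × Fin 11)} (h : EV E x s w) (v : Fin 11) :
    proj 11 (E ⟨x, h.mem⟩) v = act w v := by
  rw [h.proj, pm_apply]

/-- inequality from the computation -/
def refute (s : Bool) (w : List (Fin 11 × Fin 11)) (s' : Bool) (w' : List (Fin 11 × Fin 11)) : Bool :=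
  (List.finRange 11).any (fun x => decide (act w x ≠ act w' x)) ||
    (decide ((nf w).2 = (nf w').2) && decide (xor s (nf w).1 ≠ xor s' (nf w').1))

theorem EV.ne {x y : G} {s s' : Bool} {w w' : List (Fin 11 × Fin 11)} (h : EV E x s w) (h2 : EV E y s' w')
    (hr : refute s w s' w' = true) : x ≠ y := by
  intro hxy
  rw [refute, Bool.or_eq_true, Bool.and_eq_true] at hr
  rcases hr with hr | ⟨hr1, hr2⟩
  · obtain ⟨v, -, hv⟩ := List.any_eq_true.1 hr
    apply of_decide_eq_true hv
    rw [← EV.proj_apply h, ← EV.proj_apply h2]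
    subst hxy
    rfl
  · exact of_decide_eq_true hr2 (h.sign h2 hxy (of_decide_eq_true hr1) zz_ne_one)

/-- the commutator word of `y` and `c y c⁻¹` -/
def comW (y c : List (Fin 11 × Fin 11)) : List (Fin 11 × Fin 11) :=
  y ++ (c ++ y ++ c.reverse) ++ y.reverse ++ (c ++ y.reverse ++ c.reverse)

theorem EV.com {y c : G} {s s' : Bool} {w w' : List (Fin 11 × Fin 11)} (h : EV E y s w) (h2 : EV E c s' w') :
    EV E (y * (c * y * c⁻¹) * y⁻¹ * (c * y⁻¹ * c⁻¹)) false (comW w w') := by
  have := ((h.mul ((h2.mul h).mul h2.inv)).mul h.inv).mul ((h2.mul h.inv).mul h2.inv)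
  have e : (xor (xor (xor s (xor (xor s' s) s')) s) (xor (xor s' s) s')) = false := by
    cases s <;> cases s' <;> rfl
  rw [e] at this
  exact this

/-- the word of a cube -/
def cubW (y r : List (Fin 11 × Fin 11)) : List (Fin 11 × Fin 11) := (y ++ r) ++ (y ++ r) ++ (y ++ r)

theorem EV.cub {y r : G} {s s' : Bool} {w w' : List (Fin 11 × Fin 11)} (h : EV E y s w) (h2 : EV E r s' w') :
    EV E ((y * r) * (y * r) * (y * r)) (xor s s') (cubW w w') := by
  have := ((h.mul h2).mul (h.mul h2)).mul (h.mul h2)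
  have e : (xor (xor (xor s s') (xor s s')) (xor s s')) = xor s s' := by
    cases s <;> cases s' <;> rfl
  rw [e] at this
  exact this

end EV

section enum

/-- the permutation of `t'` -/
def q (x : Fin 11) : Fin 11 := act [(3, 4), (5, 10), (6, 8), (7, 9)] x

/-- the function determined by four values -/
def F (v3 v5 v6 v7 : Fin 11) (x : Fin 11) : Fin 11 :=
  [0, 1, 2, v3, q v3, v5, v6, v7, q v6, q v7, q v5].getD x.val 0

def cond (v3 v5 v6 v7 : Fin 11) : Bool :=
  [3, 5, 6, 7, 4, 10, 8, 9].all fun x : Fin 11 =>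
    decide (F v3 v5 v6 v7 x ≠ x) && decide (F v3 v5 v6 v7 x ≠ q x) &&
      decide (F v3 v5 v6 v7 (F v3 v5 v6 v7 x) = x)

/-- the twelve words -/
def L12 : List (List (Fin 11 × Fin 11)) := [
  [(3, 5), (4, 10), (6, 7), (8, 9)], [(3, 10), (4, 5), (6, 7), (8, 9)],
  [(3, 5), (4, 10), (6, 9), (7, 8)], [(3, 10), (4, 5), (6, 9), (7, 8)],
  [(3, 6), (4, 8), (5, 7), (9, 10)], [(3, 8), (4, 6), (5, 7), (9, 10)],
  [(3, 6), (4, 8), (5, 9), (7, 10)], [(3, 8), (4, 6), (5, 9), (7, 10)],
  [(3, 7), (4, 9), (5, 6), (8, 10)], [(3, 9), (4, 7), (5, 6), (8, 10)],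
  [(3, 7), (4, 9), (5, 8), (6, 10)], [(3, 9), (4, 7), (5, 8), (6, 10)]]

theorem enum_check : ∀ v3 v5 v6 v7 : Fin 11, cond v3 v5 v6 v7 = true →
    ∃ w ∈ L12, act w 3 = v3 ∧ act w 5 = v5 ∧ act w 6 = v6 ∧ act w 7 = v7 := by
  decide +kernel

end enum

section fix

/-- A permutation fixing `0, 1, 2` and moving a positive multiple of eight points moves all the others. -/
theorem supp8 {p : Perm (Fin 11)} (h0 : p 0 = 0) (h1 : p 1 = 1) (h2 : p 2 = 2) (h8 : 8 ∣ p.support.card)
    (hne : p ≠ 1) (x : Fin 11) (hx : 3 ≤ x) : p x ≠ x := by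
  have hsub : p.support ⊆ Finset.univ.filter (fun x : Fin 11 => 3 ≤ x) := by
    intro v hv
    rw [Finset.mem_filter]
    refine ⟨Finset.mem_univ _, ?_⟩
    by_contra hlt
    rw [Perm.mem_support] at hv
    have hv3 : v = 0 ∨ v = 1 ∨ v = 2 := by
      revert hlt; clear hv; revert v; decide
    rcases hv3 with rfl | rfl | rfl
    · exact hv h0
    · exact hv h1
    · exact hv h2
  have hc : (Finset.univ.filter (fun x : Fin 11 => 3 ≤ x)).card = 8 := by decide
  have hpos : 0 < p.support.card := by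
    rw [Finset.card_pos, Finset.nonempty_iff_ne_empty]
    intro h
    exact hne (Perm.support_eq_empty_iff.1 h)
  have heq := Finset.eq_of_subset_of_card_le hsub (by rw [hc]; exact Nat.le_of_dvd hpos h8)
  have : x ∈ p.support := by
    rw [heq, Finset.mem_filter]; exact ⟨Finset.mem_univ _, hx⟩
  exact Perm.mem_support.1 this

/-- the word of the 3-cycle -/
def cw : List (Fin 11 × Fin 11) := [(0, 1), (1, 2)]

/-- An involution commuting with the 3-cycle `(0 1 2)` fixes these points. -/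
theorem fix3 {p : Perm (Fin 11)} (h2 : ∀ x, p (p x) = x) (hc : ∀ x, p (act cw x) = act cw (p x)) :
    p 0 = 0 ∧ p 1 = 1 ∧ p 2 = 2 := by
  have e0 : p 1 = act cw (p 0) := by
    have := hc 0; rwa [show act cw 0 = 1 by decide] at this
  have e1 : p 2 = act cw (p 1) := by
    have := hc 1; rwa [show act cw 1 = 2 by decide] at this
  have e2 : p 0 = act cw (p 2) := by
    have := hc 2; rwa [show act cw 2 = 0 by decide] at this
  have hne : p 1 ≠ p 0 := fun h => absurd (p.injective h) (by decide)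
  have key : ∀ v : Fin 11, act cw v ≠ v → v = 0 ∨ v = 1 ∨ v = 2 := by decide
  rcases key (p 0) (e0 ▸ hne) with h | h | h
  · have h1 : p 1 = 1 := by rw [e0, h]; decide
    exact ⟨h, h1, by rw [e1, h1]; decide⟩
  · exfalso
    have h1 : p 1 = 2 := by rw [e0, h]; decide
    have := h2 0
    rw [h, h1] at this
    exact absurd this (by decide)
  · exfalso
    have h1 : p 1 = 0 := by rw [e0, h]; decide
    have h3 : p 2 = 1 := by rw [e1, h1]; decide
    have := h2 0
    rw [h, h3] at this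
    exact absurd this (by decide)

/-- The twelve possibilities. -/
theorem twelve {p : Perm (Fin 11)} (h2 : ∀ x, p (p x) = x) (hc : ∀ x, p (act cw x) = act cw (p x))
    (hq : ∀ x, p (q x) = q (p x)) (hfix : ∀ x : Fin 11, 3 ≤ x → p x ≠ x) (hfq : ∀ x : Fin 11, 3 ≤ x → p x ≠ q x) :
    ∃ w ∈ L12, p = pm w := by
  obtain ⟨h0, h1, h2'⟩ := fix3 h2 hc
  have p4 : p 4 = q (p 3) := by rw [← hq]; exact congrArg p (by decide)
  have p8 : p 8 = q (p 6) := by rw [← hq]; exact congrArg p (by decide)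
  have p9 : p 9 = q (p 7) := by rw [← hq]; exact congrArg p (by decide)
  have p10 : p 10 = q (p 5) := by rw [← hq]; exact congrArg p (by decide)
  have hF : ∀ x, F (p 3) (p 5) (p 6) (p 7) x = p x := by
    intro x
    fin_cases x
    · exact h0.symm
    · exact h1.symm
    · exact h2'.symm
    · rfl
    · exact p4.symm
    · rfl
    · rfl
    · rfl
    · exact p8.symm
    · exact p9.symm
    · exact p10.symm
  have hcond : cond (p 3) (p 5) (p 6) (p 7) = true := by
    unfold cond
    rw [List.all_eq_true]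
    intro x hx
    have h3 : 3 ≤ x := by
      revert hx; clear hF; revert x; decide
    rw [Bool.and_eq_true, Bool.and_eq_true, decide_eq_true_eq, decide_eq_true_eq, decide_eq_true_eq]
    simp only [hF]
    exact ⟨⟨hfix x h3, hfq x h3⟩, h2 x⟩
  obtain ⟨w, hw, w3, w5, w6, w7⟩ := enum_check _ _ _ _ hcond
  refine ⟨w, hw, Equiv.ext fun x => ?_⟩
  rw [pm_apply]
  have key : ∀ w ∈ L12, ∀ x : Fin 11, act w x = F (act w 3) (act w 5) (act w 6) (act w 7) x := by decide +kernel
  rw [key w hw x, w3, w5, w6, w7, hF]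

end fix

end Cfsg.Agent.R10.Rel86Base
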