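import Cfsg.Agent.SporadicRecognition.AltCover
import Cfsg.Agent.SporRec.TwoAn

/-!
# A sign calculator for the double cover of the symmetric group

Words in the lifts `T i j` of transpositions are brought to a normal form; the computation is decidable, so that
identities in the double cover (including the central sign) can be checked by `decide`.

* `val w` : the value of a word; `nf w` : its sign and normal form; `val_eq_of_nf`.
* `Model K` : a homomorphism from a double cover of `A_n` into the double cover of `S_n`.
* `eval` : evaluation of words in elements of `C` with known values.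
-/

set_option autoImplicit false

namespace Cfsg.Agent.R10.TCalc

open Equiv Subgroup
open Cfsg.Agent.CharactersDeep.DoubleCover
open Cfsg.Agent.SporadicRecognition.AltCover

variable {n : ℕ}

/-- the sign `true` is the central involution -/
def sg (s : Bool) : cover n := bif s then zz n else 1

@[simp] theorem sg_false : (sg false : cover n) = 1 := rfl
@[simp] theorem sg_true : (sg true : cover n) = zz n := rfl

theorem sg_mul (s t : Bool) : (sg s : cover n) * sg t = sg (xor s t) := by
  cases s <;> cases t <;> simp [zz_mul_self]

theorem sg_comm (s : Bool) (x : cover n) : x * sg s = sg s * x := by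
  cases s
  · simp
  · exact zz_central x

theorem sg_inv (s : Bool) : (sg s : cover n)⁻¹ = sg s := by
  rw [inv_eq_iff_mul_eq_one, sg_mul, Bool.xor_self, sg_false]

theorem sg_injective {s t : Bool} (h : (sg s : cover n) = sg t) (hn : (zz n) ≠ 1) : s = t := by
  cases s <;> cases t <;> simp_all

theorem T_self (i : Fin n) : T i i = 1 := dif_pos rfl

theorem T_sq (i j : Fin n) : T i j * T i j = 1 := by
  by_cases h : i = j
  · rw [h, T_self, one_mul]
  · exact T_mul_self h

theorem T_inv (i j : Fin n) : (T i j)⁻¹ = T i j := by
  rw [inv_eq_iff_mul_eq_one, T_sq]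

/-- action of a transposition -/
def sw (a b i : Fin n) : Fin n := if i = a then b else if i = b then a else i

theorem sw_eq (a b i : Fin n) : sw a b i = swap a b i := by
  unfold sw
  rw [swap_apply_def]

/-- `T a b` moved past `T k i` -/
theorem T_comm {a b k i : Fin n} (hab : a ≠ b) (hki : k ≠ i) :
    T k i * T a b = T a b * (sg true * T (sw a b k) (sw a b i)) := by
  have h1 := conj_T_odd (x := T a b) (by rw [proj_T hab, Perm.sign_swap hab]) hki
  rw [proj_T hab, ← sw_eq, ← sw_eq, T_inv] at h1
  rw [sg_true, ← h1, ← mul_assoc, ← mul_assoc, T_sq, one_mul]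

/-- the normal form product -/
def NF : List (Fin n × Fin n) → cover n
  | [] => 1
  | (k, i) :: L => NF L * T k i

/-- insertion of `T a b` on the right -/
def ins : List (Fin n × Fin n) → Fin n → Fin n → Bool × List (Fin n × Fin n)
  | [], a, b => (false, [(a, b)])
  | (k, i) :: L, a, b =>
    if k = b then
      if i = k then (true, (k, a) :: L)
      else if i = a then (true, (k, k) :: L)
      else (!(ins L a i).1, (k, i) :: (ins L a i).2)
    else if k = a then
      if i = k then (false, (k, b) :: L)
      else if i = b then (false, (k, k) :: L)
      else (!(ins L i b).1, (k, i) :: (ins L i b).2)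
    else
      if i = k then ((ins L a b).1, (k, k) :: (ins L a b).2)
      else (!(ins L a b).1, (k, sw a b i) :: (ins L a b).2)

theorem sg_not (s : Bool) : (sg (!s) : cover n) = sg s * sg true := by
  rw [sg_mul, Bool.xor_true]

/-- `T a b` moved past `T k i`, second form -/
theorem T_comm' {a b k i : Fin n} (hab : a ≠ b) (hki : k ≠ i) :
    T k i * T a b = sg true * (T (sw k i a) (sw k i b) * T k i) := by
  have h1 := conj_T_odd (x := T k i) (by rw [proj_T hki, Perm.sign_swap hki]) hab
  rw [proj_T hki, ← sw_eq, ← sw_eq, T_inv] at h1
  rw [sg_true, ← mul_assoc, ← h1, mul_assoc, T_sq, mul_one]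

theorem ins_sound : ∀ (L : List (Fin n × Fin n)) (a b : Fin n), a ≠ b →
    NF L * T a b = sg (ins L a b).1 * NF (ins L a b).2 := by
  intro L
  induction L with
  | nil =>
    intro a b _
    simp [ins, NF]
  | cons x L ih =>
    obtain ⟨k, i⟩ := x
    intro a b hab
    unfold ins
    split_ifs with h1 h2 h3 h4 h5 h6 h7
    · -- k = b, i = k
      subst h1
      subst h2
      simp only [NF, T_self, mul_one]
      rw [T_symm hab, ← sg_true, ← mul_assoc (NF L), sg_comm true (NF L), mul_assoc, ← mul_assoc (sg true), sg_mul,
        Bool.xor_self, sg_false, one_mul]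
    · -- k = b, i = a
      subst h1
      subst h3
      simp only [NF, T_self, mul_one]
      rw [T_symm hab, ← sg_true, mul_assoc, mul_assoc, T_sq, mul_one, sg_comm]
    · subst h1
      simp only [NF]
      have h4 := T_comm' hab (Ne.symm h2)
      have e1 : sw k i a = a := by
        unfold sw; rw [if_neg hab, if_neg (Ne.symm h3)]
      have e2 : sw k i k = i := by
        unfold sw; rw [if_pos rfl]
      rw [e1, e2] at h4
      rw [mul_assoc, h4, ← mul_assoc, sg_comm, mul_assoc, ← mul_assoc (NF L), ih a i (Ne.symm h3), sg_not]
      simp only [mul_assoc]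
      rw [← mul_assoc (sg true), ← mul_assoc (sg _) (sg true), sg_comm]
    · subst h4
      subst h5
      simp only [NF, T_self, mul_one, sg_false, one_mul]
    · subst h4
      subst h6
      simp only [NF, T_self, mul_one, sg_false, one_mul]
      rw [mul_assoc, T_sq, mul_one]
    · subst h4
      simp only [NF]
      have h7 := T_comm' hab (Ne.symm h5)
      have e1 : sw k i k = i := by
        unfold sw; rw [if_pos rfl]
      have e2 : sw k i b = b := by
        unfold sw; rw [if_neg hab.symm, if_neg (Ne.symm h6)]
      rw [e1, e2] at h7
      rw [mul_assoc, h7, ← mul_assoc, sg_comm, mul_assoc, ← mul_assoc (NF L), ih i b h6, sg_not]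
      simp only [mul_assoc]
      rw [← mul_assoc (sg true), ← mul_assoc (sg _) (sg true), sg_comm]
    · subst h7
      simp only [NF, T_self, mul_one]
      exact ih a b hab
    · simp only [NF]
      have h8 := T_comm hab (Ne.symm h7)
      have e1 : sw a b k = k := by
        unfold sw; rw [if_neg h4, if_neg h1]
      rw [e1] at h8
      rw [mul_assoc, h8, ← mul_assoc, ih a b hab, sg_not]
      simp only [mul_assoc]
      rw [← mul_assoc (NF _) (sg true), sg_comm]
      simp only [mul_assoc]

/-- the value of a word in transpositions -/
def val (w : List (Fin n × Fin n)) : cover n := (w.map fun p => T p.1 p.2).prod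

theorem val_nil : val ([] : List (Fin n × Fin n)) = 1 := rfl

theorem val_cons (p : Fin n × Fin n) (w : List (Fin n × Fin n)) : val (p :: w) = T p.1 p.2 * val w := by
  simp [val]

theorem val_append (v w : List (Fin n × Fin n)) : val (v ++ w) = val v * val w := by
  simp [val]

theorem val_reverse (w : List (Fin n × Fin n)) : val w.reverse = (val w)⁻¹ := by
  induction w with
  | nil => simp [val]
  | cons p w ih =>
    rw [List.reverse_cons, val_append, ih, val_cons, val_cons, val_nil, mul_one, mul_inv_rev, T_inv]

/-- one step of the computation -/
def step (st : Bool × List (Fin n × Fin n)) (p : Fin n × Fin n) : Bool × List (Fin n × Fin n) :=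
  if p.1 = p.2 then st else (xor st.1 (ins st.2 p.1 p.2).1, (ins st.2 p.1 p.2).2)

theorem step_sound (st : Bool × List (Fin n × Fin n)) (p : Fin n × Fin n) :
    sg st.1 * NF st.2 * T p.1 p.2 = sg (step st p).1 * NF (step st p).2 := by
  unfold step
  split_ifs with h
  · rw [h, T_self, mul_one]
  · rw [mul_assoc, ins_sound _ _ _ h, ← mul_assoc, sg_mul]

/-- the computation -/
def run (st : Bool × List (Fin n × Fin n)) (w : List (Fin n × Fin n)) : Bool × List (Fin n × Fin n) :=
  w.foldl step st

theorem run_sound (w : List (Fin n × Fin n)) : ∀ st : Bool × List (Fin n × Fin n),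
    sg st.1 * NF st.2 * val w = sg (run st w).1 * NF (run st w).2 := by
  induction w with
  | nil => intro st; rw [val_nil, mul_one]; rfl
  | cons p w ih =>
    intro st
    rw [val_cons, ← mul_assoc, step_sound, ih]
    rfl

/-- the trivial normal form -/
def start (n : ℕ) : List (Fin n × Fin n) := (List.finRange n).reverse.map fun k => (k, k)

theorem NF_diag (L : List (Fin n)) : NF (L.map fun k => (k, k)) = 1 := by
  induction L with
  | nil => rfl
  | cons k L ih => simp [NF, ih, T_self]

theorem NF_start : NF (start n) = 1 := by
  unfold start
  exact NF_diag _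

/-- sign and normal form of a word -/
def nf (w : List (Fin n × Fin n)) : Bool × List (Fin n × Fin n) := run (false, start n) w

theorem val_eq (w : List (Fin n × Fin n)) : val w = sg (nf w).1 * NF (nf w).2 := by
  have := run_sound w (false, start n)
  rw [NF_start, sg_false, one_mul, one_mul] at this
  exact this

theorem proj_sg (s : Bool) : proj n (sg s) = 1 := by
  cases s
  · exact map_one _
  · exact proj_zz

/-- the permutation of a word -/
def pm (w : List (Fin n × Fin n)) : Perm (Fin n) := (w.map fun p => swap p.1 p.2).prod

theorem proj_T' (i j : Fin n) : proj n (T i j) = swap i j := by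
  by_cases h : i = j
  · rw [h, T_self, map_one, swap_self]; rfl
  · exact proj_T h

theorem proj_val (w : List (Fin n × Fin n)) : proj n (val w) = pm w := by
  unfold val pm
  rw [map_list_prod, List.map_map]
  congr 1
  refine List.map_congr_left fun p _ => ?_
  exact proj_T' _ _

/-- An element with the permutation of a word is the value of this word up to sign. -/
theorem exists_sign {x : cover n} {w : List (Fin n × Fin n)} (h : proj n x = pm w) :
    ∃ s : Bool, x = sg s * val w := by
  have h1 : proj n (x * (val w)⁻¹) = 1 := by rw [map_mul, map_inv, h, proj_val, mul_inv_cancel]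
  rcases eq_one_or_eq_zz_of_proj_eq_one h1 with h2 | h2
  · exact ⟨false, by rw [sg_false, one_mul]; exact mul_inv_eq_one.1 h2⟩
  · exact ⟨true, by rw [sg_true]; exact mul_inv_eq_iff_eq_mul.1 h2⟩

end Cfsg.Agent.R10.TCalc
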